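import Cfsg.Agent.Lib.Known.SUEven.Pres
import Cfsg.Agent.Lib.Known.SUBounded.Step
import Cfsg.Agent.Lib.Known.SU3Bounded.Main
import Cfsg.Agent.Lib.Known.SpBounded.All
import Cfsg.Agent.Lib.Classical.Unitary.Matrix
import Cfsg.Agent.Lib.Classical.ClassTheory.UnitaryTwoGenerated
import Cfsg.Agent.Lib.Perm.AltBounded.Tietze
import Cfsg.Agent.Lib.Known.AutPSU.Aut

/-!
# Bounded presentations of the special unitary groups
-/

set_option autoImplicit false

namespace CfsgLib.Known.SUEven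

open Matrix (SpecialLinearGroup)
open CfsgLib.Classical (isoCongrEq)
open CfsgLib.Classical.Herm

variable {F : Type*} [Field F] [Fintype F] {q : ℕ}

/-- the conjugation of a finite field of square order -/
noncomputable def powConj (hF : Fintype.card F = q ^ 2) : Conj F where
  σ := powHom hF
  hσ := powHom_isInvol hF
  θ := ((powHom_isInvol hF).exists_trace_eq (μ := 1) (map_one _)).choose
  trθ := ((powHom_isInvol hF).exists_trace_eq (μ := 1) (map_one _)).choose_spec

theorem exists_gen (hF : Fintype.card F = q ^ 2) : ∃ ω : Fˣ, Gen (powConj hF) ω := by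
  classical
  obtain ⟨ω, hω⟩ := IsCyclic.exists_generator (α := Fˣ)
  refine ⟨ω, hω, fun h => ?_⟩
  have hq := CfsgLib.Classical.two_le_of_card_sq hF
  have h1 : ω ^ (2 * q) = ω ^ 2 := by
    refine Units.ext ?_
    have h2 : ((ω : F) * ω) ^ q = (ω : F) * ω := by rw [← powHom_apply hF]; exact h
    rw [Units.val_pow_eq_pow_val, Units.val_pow_eq_pow_val, pow_mul, pow_two (ω : F)]
    exact h2
  have h3 : ω ^ (2 * q - 2) = 1 := by
    refine mul_right_cancel (b := ω ^ 2) ?_
    rw [← pow_add, Nat.sub_add_cancel (by omega), h1, one_mul]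
  have h4 : orderOf ω = q ^ 2 - 1 := by
    rw [orderOf_eq_card_of_forall_mem_zpowers hω, Nat.card_eq_fintype_card, Fintype.card_units, hF]
  have h5 := Nat.le_of_dvd (by omega) (h4 ▸ orderOf_dvd_of_pow_eq_one h3)
  have h6 : (q + 1) * q ≥ 3 * q := Nat.mul_le_mul_right q (by omega)
  have h7 : (q + 1) * q = q ^ 2 + q := by ring
  omega

/-- isometric Hermitian spaces have isomorphic special unitary groups -/
theorem hsu_equiv {σ : F →+* F} {V W : Type*} [AddCommGroup V] [Module F V] [AddCommGroup W] [Module F W]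
    [FiniteDimensional F V] [FiniteDimensional F W] {B : V →ₛₗ[σ] V →ₗ[F] F} {B' : W →ₛₗ[σ] W →ₗ[F] F}
    (h : IsHerm B) (h' : IsHerm B') (hd : Module.finrank F V = Module.finrank F W) :
    Nonempty (HSU B ≃* HSU B') := by
  obtain ⟨e, he⟩ := IsHerm.exists_isometry_of_finrank_eq h h' hd
  let E : HU B ≃* HU B' := isoCongrEq (f := fun u v => B u v) (f' := fun u v => B' u v) e he
  have hdet : ∀ g, HU.det B' (E g) = HU.det B g := fun g => by
    show LinearEquiv.det (e.symm.trans ((g : V ≃ₗ[F] V).trans e)) = LinearEquiv.det (g : V ≃ₗ[F] V)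
    exact LinearEquiv.det_conj _ _
  have hE : (HSU B).map E.toMonoidHom = HSU B' := by
    ext g
    rw [Subgroup.mem_map_equiv, MonoidHom.mem_ker, MonoidHom.mem_ker]
    conv_rhs => rw [← E.apply_symm_apply g, hdet]
  exact ⟨(E.subgroupMap (HSU B)).trans (MulEquiv.subgroupCongr hE)⟩

/-- the special unitary group of even degree -/
theorem su_even_glue (hF : Fintype.card F = q ^ 2) (k : ℕ) {α β : Type} (R1 : Finset (FreeGroup α))
    (e1 : PresentedGroup (↑R1 : Set (FreeGroup α)) ≃* SpecialLinearGroup (Fin (k + 2)) F)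
    (R2 : Finset (FreeGroup β))
    (e2 : PresentedGroup (↑R2 : Set (FreeGroup β)) ≃* SpecialLinearGroup (Fin 2) (powConj hF).K) :
    ∃ rels : Finset (FreeGroup (α ⊕ β)), rels.card ≤ R1.card + R2.card + 20 ∧
      Nonempty (PresentedGroup (↑rels : Set (FreeGroup (α ⊕ β))) ≃* Cfsg.SU (2 * (k + 2)) F q) := by
  classical
  obtain ⟨ω, hω⟩ := exists_gen hF
  obtain ⟨z, hz⟩ : ∃ z : F, (powConj hF).σ z ≠ z := ⟨_, hω.2⟩
  have hδ : z - (powConj hF).σ z ≠ 0 := sub_ne_zero.2 (Ne.symm hz)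
  have hs : (powConj hF).σ (z - (powConj hF).σ z) = -(z - (powConj hF).σ z) := by
    rw [map_sub, (powConj hF).σσ]; ring
  obtain ⟨rels, hr, ⟨e⟩⟩ := exists_pres (powConj hF) hω hδ hs k R1 e1 R2 e2
  obtain ⟨e'⟩ := hsu_equiv (σ := powHom hF) (skewB_isHerm (m := k + 2) (powConj hF) _ hδ hs)
    (hermStd_isHerm (n := 2 * (k + 2)) hF) (by
      rw [Module.finrank_fintype_fun_eq_card, finrank_std]; simp; ring)
  exact ⟨rels, hr, ⟨e.trans (e'.trans (suEquiv _ hF).symm)⟩⟩

/-- bounded presentations in even degree -/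
theorem su_even (hF : Fintype.card F = q ^ 2) {m : ℕ} (hm : 2 ≤ m) :
    ∃ (α : Type) (_ : Fintype α) (R : Finset (FreeGroup α)), Fintype.card α ≤ 9 ∧ R.card ≤ 53 ∧
      Nonempty (PresentedGroup (↑R : Set (FreeGroup α)) ≃* Cfsg.SU (2 * m) F q) := by
  classical
  obtain ⟨R2, h2, ⟨e2⟩⟩ := SpBounded.sl_two (F := (powConj hF).K)
  obtain ⟨k, rfl⟩ : ∃ k, m = k + 2 := ⟨m - 2, by omega⟩
  rcases (show k = 0 ∨ k = 1 ∨ 2 ≤ k by omega) with rfl | rfl | hk
  · obtain ⟨R1, h1, ⟨e1⟩⟩ := SpBounded.sl_two (F := F)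
    obtain ⟨R, hR, e⟩ := su_even_glue hF 0 R1 e1 R2 e2
    exact ⟨Fin 3 ⊕ Fin 3, inferInstance, R, by simp, by omega, e⟩
  · obtain ⟨p, hp⟩ := CharP.exists F
    haveI : Fact p.Prime := ⟨CharP.char_is_prime F p⟩
    letI := ZMod.algebra F p
    obtain ⟨L3, h13, e3'⟩ := CfsgLib.Known.SL3Bounded.presentation_thirteen F p
    have h13' : L3.toFinset.card ≤ 13 := (List.toFinset_card_le L3).trans h13
    rw [← List.coe_toFinset] at e3'
    obtain ⟨e3⟩ := e3'
    obtain ⟨R, hR, e⟩ := su_even_glue hF 1 _ e3 R2 e2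
    exact ⟨_ ⊕ Fin 3, inferInstance, R, by simp, by omega, e⟩
  · obtain ⟨R6, h6, ⟨e6⟩⟩ := SLBounded.sl_six (F := F) (show 4 ≤ k + 2 by omega)
    have h24 : R6.card ≤ 24 := h6.trans (by split_ifs <;> norm_num)
    obtain ⟨R, hR, e⟩ := su_even_glue hF k R6 e6 R2 e2
    exact ⟨Fin 6 ⊕ Fin 3, inferInstance, R, by simp, by omega, e⟩

theorem gens_of_pres {α : Type*} {R : Set (FreeGroup α)} {H : Type*} [Group H] (e : PresentedGroup R ≃* H) :
    Subgroup.closure (Set.range fun i => e (PresentedGroup.of i)) = ⊤ := by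
  rw [show (Set.range fun i => e (PresentedGroup.of i)) = e.toMonoidHom '' Set.range (PresentedGroup.of (rels := R)) by
      ext x; simp, ← MonoidHom.map_closure, PresentedGroup.closure_range_of,
    Subgroup.map_top_of_surjective _ e.surjective]

/-- few generators of the group of degree three -/
theorem su_three_gens (hF : Fintype.card F = q ^ 2) :
    ∃ h : Fin 7 → Cfsg.SU 3 F q, Subgroup.closure (Set.range h) = ⊤ := by
  classical
  have hq := CfsgLib.Classical.two_le_of_card_sq hF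
  rcases (show q = 2 ∨ 3 ≤ q by omega) with rfl | h3
  · refine SUBounded.exists_gens_log ?_
    have h := card_SU hF 3 (by norm_num)
    simp only [Finset.prod_range_succ, Finset.prod_range_zero] at h
    norm_num [Nat.even_iff] at h
    norm_num
    omega
  · obtain ⟨R, -, ⟨e⟩⟩ := (CfsgLib.Known.SU3Bounded.su_three_presentations hF h3).1
    refine ⟨fun i => if h : i.1 < 3 then e (PresentedGroup.of ⟨i.1, h⟩) else 1, top_unique ?_⟩
    rw [← gens_of_pres e, Subgroup.closure_le]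
    rintro _ ⟨i, rfl⟩
    exact Subgroup.subset_closure ⟨⟨i.1, by omega⟩, by simp [i.2]⟩

/-- bounded presentations in every degree from four on -/
theorem su_bounded (hF : Fintype.card F = q ^ 2) {n : ℕ} (hn : 4 ≤ n) :
    ∃ (α : Type) (_ : Fintype α) (R : Finset (FreeGroup α)), R.card ≤ 65 ∧
      Nonempty (PresentedGroup (↑R : Set (FreeGroup α)) ≃* Cfsg.SU n F q) := by
  classical
  rcases Nat.even_or_odd' n with ⟨m, rfl | rfl⟩
  · obtain ⟨α, hα, R, -, hR, e⟩ := su_even hF (show 2 ≤ m by omega)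
    exact ⟨α, hα, R, by omega, e⟩
  · obtain ⟨α, hα, R, -, hR, ⟨e⟩⟩ := su_even hF (show 2 ≤ m by omega)
    obtain ⟨M, hM⟩ : ∃ M, 2 * m = M + 1 := ⟨2 * m - 1, by omega⟩
    obtain ⟨ι, hι, h, hcard, hh⟩ : ∃ (ι : Type) (_ : Fintype ι) (h : ι → Cfsg.SU M F q),
        Fintype.card ι ≤ 10 ∧ Subgroup.closure (Set.range h) = ⊤ := by
      rcases (show m = 2 ∨ 3 ≤ m by omega) with rfl | hm
      · obtain rfl : M = 3 := by omega
        obtain ⟨h, hh⟩ := su_three_gens hF
        exact ⟨Fin 7, inferInstance, h, by simp, hh⟩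
      · obtain ⟨β, hβ, R', hc, -, ⟨e'⟩⟩ := su_even hF (show 2 ≤ m - 1 by omega)
        obtain rfl : M = 2 * (m - 1) + 1 := by omega
        obtain ⟨h', hh'⟩ := SUBounded.exists_gens_succ hF (show 3 ≤ 2 * (m - 1) by omega) _ (gens_of_pres e')
        exact ⟨Option β, inferInstance, h', by simp; omega, hh'⟩
    rw [hM] at e
    obtain ⟨R', hR', e'⟩ := SUBounded.step_pres hF (show M = 3 ∨ 5 ≤ M by omega) R e h hh
    refine ⟨Option α, inferInstance, R', by omega, ?_⟩
    rw [show 2 * m + 1 = M + 2 by omega]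
    exact e'

theorem center_cyclic (hF : Fintype.card F = q ^ 2) {n : ℕ} (hn : 3 ≤ n) :
    IsCyclic (Subgroup.center (Cfsg.SU n F q)) := by
  have i0 : Fin n := ⟨0, by omega⟩
  let φ : Subgroup.center (Cfsg.SU n F q) →* F :=
    { toFun := fun z => ((z.1 : SpecialLinearGroup (Fin n) F) : Matrix (Fin n) (Fin n) F) i0 i0
      map_one' := by simp
      map_mul' := fun z z' => by
        obtain ⟨a, ha⟩ := AutPSU.scalar_of_mem_center hF hn _ z.2
        obtain ⟨b, hb⟩ := AutPSU.scalar_of_mem_center hF hn _ z'.2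
        show (((z.1 * z'.1 : Cfsg.SU n F q) : SpecialLinearGroup (Fin n) F) : Matrix (Fin n) (Fin n) F) i0 i0 = _
        rw [Subgroup.coe_mul, Matrix.SpecialLinearGroup.coe_mul, ha, hb]
        simp [mul_comm] }
  refine isCyclic_of_subgroup_isDomain φ fun z z' e => ?_
  obtain ⟨a, ha⟩ := AutPSU.scalar_of_mem_center hF hn _ z.2
  obtain ⟨b, hb⟩ := AutPSU.scalar_of_mem_center hF hn _ z'.2
  refine Subtype.ext (Subtype.ext (Subtype.ext ?_))
  have : (a : F) = b := by
    change ((z.1 : SpecialLinearGroup (Fin n) F) : Matrix (Fin n) (Fin n) F) i0 i0 =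
      ((z'.1 : SpecialLinearGroup (Fin n) F) : Matrix (Fin n) (Fin n) F) i0 i0 at e
    rw [ha, hb] at e
    simpa using e
  rw [ha, hb, this]

/-- the projective groups on two generators -/
theorem psu_two_gen (hF : Fintype.card F = q ^ 2) {n : ℕ} (hn : 3 ≤ n) (h32 : n = 3 → q ≠ 2) :
    ∃ rels : Finset (FreeGroup (Fin 2)), rels.card ≤ 68 ∧
      Nonempty (PresentedGroup (↑rels : Set (FreeGroup (Fin 2))) ≃* Cfsg.PSU n F q) := by
  classical
  obtain ⟨α, hα, R, hR, ⟨e⟩⟩ : ∃ (α : Type) (_ : Fintype α) (R : Finset (FreeGroup α)), R.card ≤ 66 ∧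
      Nonempty (PresentedGroup (↑R : Set (FreeGroup α)) ≃* Cfsg.PSU n F q) := by
    rcases (show n = 3 ∨ 4 ≤ n by omega) with rfl | h4
    · have hq := CfsgLib.Classical.two_le_of_card_sq hF
      obtain ⟨R, hR, e⟩ := (CfsgLib.Known.SU3Bounded.su_three_presentations hF
        (show 3 ≤ q by have := h32 rfl; omega)).2
      exact ⟨Fin 3, inferInstance, R, by omega, e⟩
    · obtain ⟨α, hα, R, hR, ⟨e⟩⟩ := su_bounded hF h4
      obtain ⟨R', hR', e'⟩ := SLBounded.quot_pres R e _ (center_cyclic hF hn)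
      exact ⟨α, hα, R', by omega, e'⟩
  obtain ⟨a, b, hab⟩ := CfsgLib.Classical.ClassTheory.UnitaryGen.exists_pair_psu hF n hn h32
  obtain ⟨R', hR', e', -, -⟩ := CfsgLib.Perm.AltBounded.Tietze.to_pair R e hab
  exact ⟨R', by omega, ⟨e'⟩⟩

end CfsgLib.Known.SUEven
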