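import Cfsg.Agent.Lib.Classical.SLGroup
import Cfsg.Agent.Lib.Classical.Unitary.Field

/-!
# Conjugation, the conjugate transpose and the unitary group of a skew Hermitian form
-/

set_option autoImplicit false

namespace CfsgLib.Known.SUEven

open Matrix (SpecialLinearGroup)
open CfsgLib.Classical.Herm (IsInvol fixedSub mem_fixedSub)

/-- an involution of a field with an element of trace one -/
structure Conj (F : Type*) [Field F] where
  σ : F →+* F
  hσ : IsInvol σ
  θ : F
  trθ : θ + σ θ = 1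

variable {F : Type*} [Field F] (c : Conj F)

namespace Conj

/-- the fixed field -/
abbrev K : Type _ := ↥(fixedSub c.σ)

theorem σσ (x : F) : c.σ (c.σ x) = x := c.hσ.invol x

theorem fix (x : c.K) : c.σ (x : F) = x := x.2

/-- the norm -/
def N (x : F) : c.K := ⟨x * c.σ x, mem_fixedSub.2 (by rw [map_mul, c.σσ, mul_comm])⟩

/-- the retraction -/
def π : F →+ c.K where
  toFun x := ⟨c.θ * x + c.σ (c.θ * x), mem_fixedSub.2 (by rw [map_add, c.σσ, add_comm])⟩
  map_zero' := Subtype.ext (by simp)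
  map_add' x y := Subtype.ext (by
    show c.θ * (x + y) + c.σ (c.θ * (x + y)) = (c.θ * x + c.σ (c.θ * x)) + (c.θ * y + c.σ (c.θ * y))
    rw [mul_add, map_add]; ring)

theorem π_coe (x : c.K) : c.π (x : F) = x := Subtype.ext (by
  show c.θ * (x : F) + c.σ (c.θ * (x : F)) = x
  rw [map_mul, c.fix, ← add_mul, c.trθ, one_mul])

theorem coe_π_of_fixed {x : F} (h : c.σ x = x) : ((c.π x : c.K) : F) = x :=
  congrArg Subtype.val (c.π_coe ⟨x, h⟩)

theorem N_coe (x : F) : (c.N x : F) = x * c.σ x := rfl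

theorem N_mul (x y : F) : c.N (x * y) = c.N x * c.N y := Subtype.ext (by
  show x * y * c.σ (x * y) = (x * c.σ x) * (y * c.σ y)
  rw [map_mul]; ring)

theorem N_one : c.N 1 = 1 := Subtype.ext (by simp [N_coe])

theorem N_zero : c.N 0 = 0 := Subtype.ext (by simp [N_coe])

theorem N_coe_K (x : c.K) : c.N (x : F) = x * x := Subtype.ext (by
  show (x : F) * c.σ x = (x : F) * x
  rw [c.fix])

theorem N_ne {x : F} (h : x ≠ 0) : c.N x ≠ 0 := fun e =>
  mul_ne_zero h (fun e' => h ((map_eq_zero c.σ).1 e')) (congrArg Subtype.val e : (c.N x : F) = 0)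

theorem coe_ne {x : c.K} (h : x ≠ 0) : (x : F) ≠ 0 := fun e => h (Subtype.ext e)

end Conj

/-- the conjugate transpose -/
def st {ι κ : Type*} (M : Matrix ι κ F) : Matrix κ ι F := (M.map c.σ).transpose

theorem st_apply {ι κ : Type*} (M : Matrix ι κ F) (a : κ) (b : ι) : st c M a b = c.σ (M b a) := rfl

theorem st_mul {ι κ μ : Type*} [Fintype κ] (M : Matrix ι κ F) (N : Matrix κ μ F) :
    st c (M * N) = st c N * st c M := by
  rw [st, Matrix.map_mul, Matrix.transpose_mul]
  rfl

theorem st_add {ι κ : Type*} (M N : Matrix ι κ F) : st c (M + N) = st c M + st c N := by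
  ext a b; simp [st_apply]

theorem st_neg {ι κ : Type*} (M : Matrix ι κ F) : st c (-M) = -st c M := by
  ext a b; simp [st_apply]

theorem st_sub {ι κ : Type*} (M N : Matrix ι κ F) : st c (M - N) = st c M - st c N := by
  ext a b; simp [st_apply]

theorem st_zero {ι κ : Type*} : st c (0 : Matrix ι κ F) = 0 := by
  ext a b; simp [st_apply]

theorem st_one {ι : Type*} [DecidableEq ι] : st c (1 : Matrix ι ι F) = 1 := by
  ext a b
  by_cases h : a = b
  · subst h; simp [st_apply]
  · simp [st_apply, h, Ne.symm h]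

theorem st_st {ι κ : Type*} (M : Matrix ι κ F) : st c (st c M) = M := by
  ext a b; simp [st_apply, c.σσ]

theorem st_single {ι κ : Type*} [DecidableEq ι] [DecidableEq κ] (i : ι) (j : κ) (x : F) :
    st c (Matrix.single i j x) = Matrix.single j i (c.σ x) := by
  ext a b
  simp only [st_apply, Matrix.single, Matrix.of_apply]
  by_cases h : i = b ∧ j = a
  · rw [if_pos h, if_pos ⟨h.2, h.1⟩]
  · rw [if_neg h, if_neg (fun h' => h ⟨h'.2, h'.1⟩), map_zero]

theorem st_fromBlocks {ι κ : Type*} (A B C D : Matrix ι κ F) :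
    st c (Matrix.fromBlocks A B C D) = Matrix.fromBlocks (st c A) (st c C) (st c B) (st c D) := by
  simp only [st, Matrix.fromBlocks_map, Matrix.fromBlocks_transpose]

theorem st_vecMulVec {ι κ : Type*} (u : ι → F) (v : κ → F) :
    st c (Matrix.vecMulVec u v) = Matrix.vecMulVec (fun i => c.σ (v i)) (fun i => c.σ (u i)) := by
  ext a b; simp [st_apply, Matrix.vecMulVec_apply, mul_comm]

theorem det_st {ι : Type*} [Fintype ι] [DecidableEq ι] (M : Matrix ι ι F) : (st c M).det = c.σ M.det := by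
  rw [st, Matrix.det_transpose, ← RingHom.mapMatrix_apply, ← RingHom.map_det]

/-- Hermitian matrices -/
def IsH {ι : Type*} (M : Matrix ι ι F) : Prop := st c M = M

namespace IsH

variable {c} {ι : Type*} {M N : Matrix ι ι F}

theorem eq (h : IsH c M) : st c M = M := h
theorem add (h : IsH c M) (h' : IsH c N) : IsH c (M + N) := by rw [IsH, st_add, h.eq, h'.eq]
theorem neg (h : IsH c M) : IsH c (-M) := by rw [IsH, st_neg, h.eq]
theorem zero : IsH c (0 : Matrix ι ι F) := st_zero c
theorem apply (h : IsH c M) (a b : ι) : c.σ (M b a) = M a b := congrFun (congrFun h a) b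
theorem ext' (h : ∀ a b, c.σ (M b a) = M a b) : IsH c M := Matrix.ext h
theorem submatrix {κ : Type*} (h : IsH c M) (f : κ → ι) : IsH c (M.submatrix f f) :=
  ext' fun a b => h.apply (f a) (f b)

end IsH

/-- inverse conjugate transpose -/
def iot (ι : Type*) [Fintype ι] [DecidableEq ι] : SpecialLinearGroup ι F →* SpecialLinearGroup ι F where
  toFun A := ⟨st c ((A⁻¹ : SpecialLinearGroup ι F) : Matrix ι ι F), by rw [det_st, (A⁻¹).2, map_one]⟩
  map_one' := Subtype.ext (by simp [st_one])
  map_mul' A B := Subtype.ext (by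
    show st c ((A * B)⁻¹ : SpecialLinearGroup ι F).1 =
      st c ((A⁻¹ : SpecialLinearGroup ι F)).1 * st c ((B⁻¹ : SpecialLinearGroup ι F)).1
    rw [_root_.mul_inv_rev, Matrix.SpecialLinearGroup.coe_mul, st_mul])

theorem coe_iot {ι : Type*} [Fintype ι] [DecidableEq ι] (A : SpecialLinearGroup ι F) :
    (iot c ι A : Matrix ι ι F) = st c ((A⁻¹ : SpecialLinearGroup ι F) : Matrix ι ι F) := rfl

theorem iot_iot {ι : Type*} [Fintype ι] [DecidableEq ι] (A : SpecialLinearGroup ι F) :
    iot c ι (iot c ι A) = A := by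
  refine Subtype.ext ?_
  rw [coe_iot, ← map_inv, coe_iot, inv_inv, st_st]

theorem iot_tr {ι : Type*} [Fintype ι] [DecidableEq ι] {i j : ι} (hij : i ≠ j) (t : F) :
    iot c ι (SpecialLinearGroup.transvection hij t) = SpecialLinearGroup.transvection hij.symm (-c.σ t) := by
  refine Subtype.ext ?_
  rw [coe_iot, Matrix.SpecialLinearGroup.transvection_inv]
  show st c (Matrix.transvection i j (-t)) = Matrix.transvection j i (-c.σ t)
  simp [Matrix.transvection, st_add, st_one, st_single]

theorem iot_diag {ι : Type*} [Fintype ι] [DecidableEq ι] {i j : ι} (hij : i ≠ j) {a : F} (ha : a ≠ 0) :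
    iot c ι (SpecialLinearGroup.diag2n hij a ha) =
      SpecialLinearGroup.diag2n hij (c.σ a)⁻¹ (inv_ne_zero fun e => ha ((map_eq_zero c.σ).1 e)) := by
  have e : (SpecialLinearGroup.diag2n hij a ha)⁻¹ = SpecialLinearGroup.diag2n hij a⁻¹ (inv_ne_zero ha) := by
    refine inv_eq_of_mul_eq_one_right (CfsgLib.Classical.sl_ext_smul fun x => funext fun k => ?_)
    rw [mul_smul, CfsgLib.Classical.diag2n_smul_apply, CfsgLib.Classical.diag2n_smul_apply, one_smul]
    split_ifs <;> field_simp
  refine Subtype.ext ?_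
  rw [coe_iot, e, SpecialLinearGroup.diag2n_coe, SpecialLinearGroup.diag2n_coe, st, Matrix.diagonal_map (map_zero _),
    Matrix.diagonal_transpose]
  congr 1
  funext k
  show c.σ _ = _
  split_ifs <;> simp [map_inv₀]

/-- the form matrix -/
def J (m : ℕ) (F : Type*) [Field F] : Matrix (Fin m ⊕ Fin m) (Fin m ⊕ Fin m) F := Matrix.J (Fin m) F

/-- the unitary group of the form matrix -/
def UJ (m : ℕ) : Submonoid (Matrix (Fin m ⊕ Fin m) (Fin m ⊕ Fin m) F) where
  carrier := {A | A * J m F * st c A = J m F}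
  one_mem' := by simp [st_one]
  mul_mem' := by
    intro A B ha hb
    simp only [Set.mem_ofPred_eq] at *
    rw [st_mul, show A * B * J m F * (st c B * st c A) = A * (B * J m F * st c B) * st c A by
      simp only [mul_assoc], hb, ha]

theorem mem_UJ {m : ℕ} {A : Matrix (Fin m ⊕ Fin m) (Fin m ⊕ Fin m) F} :
    A ∈ UJ c m ↔ A * J m F * st c A = J m F := Iff.rfl

theorem J_mul_J (m : ℕ) : J m F * J m F = -1 := Matrix.J_squared (Fin m) F

theorem inv_aux {m : ℕ} {A : Matrix (Fin m ⊕ Fin m) (Fin m ⊕ Fin m) F} (hA : A ∈ UJ c m) :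
    A * (-(J m F * st c A * J m F)) = 1 ∧ -(J m F * st c A * J m F) * A = 1 := by
  have h : A * (-(J m F * st c A * J m F)) = 1 := by
    rw [mul_neg, ← mul_assoc, ← mul_assoc, (mem_UJ c).1 hA, J_mul_J, neg_neg]
  exact ⟨h, mul_eq_one_comm.1 h⟩

theorem inv_mem_UJ {m : ℕ} {A : Matrix (Fin m ⊕ Fin m) (Fin m ⊕ Fin m) F} (hA : A ∈ UJ c m) :
    -(J m F * st c A * J m F) ∈ UJ c m := by
  obtain ⟨h1, h2⟩ := inv_aux c hA
  obtain ⟨B, hB⟩ : ∃ B, B = -(J m F * st c A * J m F) := ⟨_, rfl⟩
  rw [← hB] at h1 h2 ⊢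
  rw [mem_UJ]
  calc B * J m F * st c B = B * (A * J m F * st c A) * st c B := by rw [(mem_UJ c).1 hA]
    _ = (B * A) * J m F * (st c (B * A)) := by rw [st_mul]; simp only [mul_assoc]
    _ = J m F := by rw [h2, st_one, one_mul, mul_one]

instance instGroupUJ (m : ℕ) : Group (UJ c m) where
  inv A := ⟨-(J m F * st c A.1 * J m F), inv_mem_UJ c A.2⟩
  inv_mul_cancel A := Subtype.ext (inv_aux c A.2).2

/-- the Levi subgroup -/
def leviU (m : ℕ) : SpecialLinearGroup (Fin m) F →* UJ c m where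
  toFun A := ⟨Matrix.fromBlocks A.1 0 0 (iot c (Fin m) A).1, by
    rw [mem_UJ, st_fromBlocks, J, Matrix.J, Matrix.fromBlocks_multiply, Matrix.fromBlocks_multiply, coe_iot, st_st,
      Matrix.fromBlocks_inj]
    have h1 : A.1 * (A⁻¹).1 = 1 := by
      rw [← Matrix.SpecialLinearGroup.coe_mul, mul_inv_cancel, Matrix.SpecialLinearGroup.coe_one]
    have h2 : st c (A⁻¹).1 * st c A.1 = 1 := by rw [← st_mul, h1, st_one]
    simp only [st_zero, Matrix.mul_zero, Matrix.zero_mul, mul_neg, neg_mul, add_zero, zero_add, mul_one,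
      neg_zero, h1, h2, and_self]⟩
  map_one' := Subtype.ext (by simp)
  map_mul' A B := Subtype.ext (by
    show Matrix.fromBlocks (A * B).1 0 0 (iot c (Fin m) (A * B)).1 = _ * _
    rw [map_mul, Matrix.SpecialLinearGroup.coe_mul, Matrix.SpecialLinearGroup.coe_mul, Matrix.fromBlocks_multiply]
    simp)

end CfsgLib.Known.SUEven
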