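import Cfsg.Agent.Lib.Known.SUEven.Mat
import Cfsg.Agent.Lib.Known.SpBounded.Blk

/-!
# Matrices fixing the first coordinate vector
-/

set_option autoImplicit false

namespace CfsgLib.Known.SUEven

open Matrix (SpecialLinearGroup)
open CfsgLib.Known.SpBounded (pad pad_ext bs coe_bs ev mulVec_ev)

variable {F : Type*} [Field F] {c : Conj F} {k : ℕ}

theorem pad_st (d : F) (M : Matrix (Fin k) (Fin k) F) : st c (pad d M) = pad (c.σ d) (st c M) := by
  apply pad_ext <;> intros <;> simp [st_apply]

theorem pad_Hm (a b : Fin k) (t : F) : pad 0 (Hm c a b t) = Hm c a.succ b.succ t := by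
  by_cases h : a = b
  · subst h
    apply pad_ext <;> intros <;>
      simp [Hm_self_apply, (Fin.succ_ne_zero _).symm]
  · have h' : a.succ ≠ b.succ := fun e => h (Fin.succ_inj.1 e)
    apply pad_ext <;> intros <;>
      simp [Hm_apply h, Hm_apply h', (Fin.succ_ne_zero _).symm]

theorem iot_bs (A : SpecialLinearGroup (Fin k) F) :
    iot c (Fin (k + 1)) (bs k F A) = bs k F (iot c (Fin k) A) := by
  refine Subtype.ext ?_
  rw [coe_iot, ← map_inv, coe_bs, coe_bs, coe_iot, pad_st, map_one]

theorem eq_pad_of_isH {M : Matrix (Fin (k + 1)) (Fin (k + 1)) F} (hM : IsH c M) (h : M.mulVec (ev k F) = 0) :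
    M = pad 0 (M.submatrix Fin.succ Fin.succ) := by
  have hc : ∀ i, M i 0 = 0 := fun i => (mulVec_ev M i).symm.trans (congrFun h i)
  have hr : ∀ i, M 0 i = 0 := fun i => by rw [← hM.apply 0 i, hc, map_zero]
  apply pad_ext <;> intros <;> simp [hc, hr]

end CfsgLib.Known.SUEven
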