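import Cfsg.Agent.Lib.Known.SUEven.Mono

/-!
# Twenty relations imply all
-/

set_option autoImplicit false

namespace CfsgLib.Known.SUEven

open Matrix (SpecialLinearGroup)
open CfsgLib.Known.SpBounded (tA mono msgn msgn_sq msgn_zero msgn_ne mono_one mono_single mono_tA mono_diag
  exists_perm_pair pad bs bs_tA coe_bs ev rowSL coe_rowSL rowSL_zero exists_bs_row pad_mulVec_ev mulVec_ev smul_eq_mv xp xm hd wS
  xp_add xm_add xp_zero xm_zero hd_mul hd_one hd_eq_one hd_comm hd_xp hd_xm hd_wS hd_central tA_zero diag_tA01 diag_tA10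
  diag_mul diag_eq_one commute_of_closure forall_of_sq hd_inv)

variable {F : Type*} [Field F] {c : Conj F} {k : ℕ} {G : Type*} [Group G]

/-- moving the rank one group to another coordinate -/
def phOf (ψ : SpecialLinearGroup (Fin (k + 2)) F →* G) (φ : SpecialLinearGroup (Fin 2) c.K →* G) (j : Fin (k + 2)) :
    SpecialLinearGroup (Fin 2) c.K →* G :=
  (MulAut.conj (ψ (mono F (Equiv.swap 0 j)))).toMonoidHom.comp φ

/-- the torus element of the large group -/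
noncomputable def d01 {F : Type*} [Field F] (k : ℕ) (a : Fˣ) : SpecialLinearGroup (Fin (k + 2)) F :=
  SpecialLinearGroup.diag2n (zero_ne_one (α := Fin (k + 2))) (a : F) a.ne_zero

theorem d01_mul (a b : Fˣ) : d01 k (a * b) = d01 k a * d01 k b :=
  (diag_mul (zero_ne_one (α := Fin (k + 2))) a.ne_zero b.ne_zero).symm

theorem d01_one : d01 k (1 : Fˣ) = 1 := diag_eq_one _ _ rfl

/-- the relations other than `fx'` and `form'` -/
structure Core (c : Conj F) (k : ℕ) (g : Fin 2 → SpecialLinearGroup (Fin 2) c.K)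
    (b : Fin 2 → SpecialLinearGroup (Fin (k + 1)) F) (ω : Fˣ) (G : Type*) [Group G] where
  ψ : SpecialLinearGroup (Fin (k + 2)) F →* G
  φ : SpecialLinearGroup (Fin 2) c.K →* G
  blk : ∀ a e, Commute (φ (g a)) (ψ (bs (k + 1) F (b e)))
  lng : ∀ a e, Commute (φ (g a)) (phOf ψ φ 1 (g e))
  torC : ∀ a, ψ (d01 k ω) * φ (g a) * (ψ (d01 k ω))⁻¹ = φ (sc (Nu c ω) (g a))
  tor : ψ (SpecialLinearGroup.diag2n (zero_ne_one (α := Fin (k + 2))) ((Nu c ω : c.K) : F)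
      (c.coe_ne (Nu c ω).ne_zero)) =
    φ (hd (Nu c ω : c.K) (Nu c ω).ne_zero) * phOf ψ φ 1 (hd (Nu c ω : c.K)⁻¹ (inv_ne_zero (Nu c ω).ne_zero))
  nrm : φ (hd (Nu c ω : c.K) (Nu c ω).ne_zero) * ψ (tA (zero_ne_one (α := Fin (k + 2))) (1 : F)) *
    (φ (hd (Nu c ω : c.K) (Nu c ω).ne_zero))⁻¹ = ψ (tA zero_ne_one ((Nu c ω : c.K) : F))
  nrm' : φ (hd (Nu c ω : c.K) (Nu c ω).ne_zero) * ψ (tA (one_ne_zero (α := Fin (k + 2))) (1 : F)) *
    (φ (hd (Nu c ω : c.K) (Nu c ω).ne_zero))⁻¹ = ψ (tA one_ne_zero ((Nu c ω : c.K) : F)⁻¹)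
  fx : Commute (φ (xp 1)) (ψ (tA (zero_ne_one (α := Fin (k + 2))) 1))
  sym : phOf ψ φ 1 (wS c.K) * ψ (tA (zero_ne_one (α := Fin (k + 2))) 1) * (phOf ψ φ 1 (wS c.K))⁻¹ =
    φ (wS c.K) * ψ (tA one_ne_zero 1) * (φ (wS c.K))⁻¹
  form : ∀ s ∈ ({1, (ω : F)} : Set F),
    ψ (tA (one_ne_zero (α := Fin (k + 2))) s) * φ (xp 1) * (ψ (tA one_ne_zero s))⁻¹ =
      φ (xp 1) * (phOf ψ φ 1 (wS c.K) * ψ (tA zero_ne_one (-(c.σ s))) * (phOf ψ φ 1 (wS c.K))⁻¹) *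
        phOf ψ φ 1 (xp (c.N s))

/-- the twenty relations -/
structure Glue (c : Conj F) (k : ℕ) (g : Fin 2 → SpecialLinearGroup (Fin 2) c.K)
    (b : Fin 2 → SpecialLinearGroup (Fin (k + 1)) F) (ω : Fˣ) (G : Type*) [Group G] extends Core c k g b ω G where
  fx' : Commute (φ (xm 1)) (ψ (tA (one_ne_zero (α := Fin (k + 2))) 1))
  form' : ∀ s ∈ ({1, (ω : F)} : Set F),
    ψ (tA (zero_ne_one (α := Fin (k + 2))) (-c.σ s)) * φ (xm 1) * (ψ (tA zero_ne_one (-c.σ s)))⁻¹ =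
      φ (xm 1) * ((phOf ψ φ 1 (wS c.K))⁻¹ * ψ (tA one_ne_zero s) * phOf ψ φ 1 (wS c.K)) * phOf ψ φ 1 (xm (c.N s))

/-- `ω / σ ω` is not in the fixed field -/
def Gen (c : Conj F) (ω : Fˣ) : Prop :=
  (∀ x : Fˣ, x ∈ Subgroup.zpowers ω) ∧ c.σ ((ω : F) * ω) ≠ (ω : F) * ω

theorem Gen.unit_pow [Finite F] {ω : Fˣ} (hω : Gen c ω) (a : Fˣ) : ∃ n : ℕ, ω ^ n = a :=
  mem_powers_iff_mem_zpowers.2 (hω.1 a)

theorem Gen.exists_norm [Finite F] {ω : Fˣ} (hω : Gen c ω) {u : c.K} (hu : u ≠ 0) :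
    ∃ n : ℕ, ((Nu c ω : c.Kˣ) : c.K) ^ n = u := by
  obtain ⟨x, hx⟩ := c.hσ.exists_norm_eq (c.fix u)
  have hx0 : x ≠ 0 := fun e => c.coe_ne hu (by rw [← hx, e, zero_mul])
  obtain ⟨n, hn⟩ := hω.unit_pow (Units.mk0 x hx0)
  refine ⟨n, Subtype.ext ?_⟩
  have : (ω : F) ^ n = x := by rw [← Units.val_pow_eq_pow_val, hn, Units.val_mk0]
  rw [← hx, ← this, map_pow, ← mul_pow]
  push_cast
  rfl

/-- additive predicates closed under the fixed field holding at `1` and at a value outside it hold everywhere -/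
theorem forall_span {P : F → Prop} (hadd : ∀ s t, P s → P t → P (s + t)) (hK : ∀ (u : c.K) t, P t → P ((u : F) * t))
    (h1 : P 1) {z : F} (hz : c.σ z ≠ z) (hPz : P z) (t : F) : P t := by
  obtain ⟨y, hy⟩ : ∃ y, y = (t - c.σ t) / (z - c.σ z) := ⟨_, rfl⟩
  have hden : z - c.σ z ≠ 0 := sub_ne_zero.2 (Ne.symm hz)
  have hyf : c.σ y = y := by
    rw [hy, map_div₀, map_sub, map_sub, c.σσ, c.σσ, ← neg_sub t, ← neg_sub z, neg_div_neg_eq]
  have hxf : c.σ (t - y * z) = t - y * z := by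
    have h := div_mul_cancel₀ (t - c.σ t) hden
    rw [← hy] at h
    rw [map_sub, map_mul, hyf]
    linear_combination h
  have e : t = ((⟨t - y * z, hxf⟩ : c.K) : F) * 1 + ((⟨y, hyf⟩ : c.K) : F) * z := by simp
  rw [e]
  exact hadd _ _ (hK _ _ h1) (hK _ _ hPz)

namespace Core

variable {g : Fin 2 → SpecialLinearGroup (Fin 2) c.K} {b : Fin 2 → SpecialLinearGroup (Fin (k + 1)) F} {ω : Fˣ}
  (D : Core c k g b ω G)

/-- the rank one groups -/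
def ph (j : Fin (k + 2)) : SpecialLinearGroup (Fin 2) c.K →* G := phOf D.ψ D.φ j

theorem ph_apply (j : Fin (k + 2)) (M : SpecialLinearGroup (Fin 2) c.K) :
    D.ph j M = D.ψ (mono F (Equiv.swap 0 j)) * D.φ M * (D.ψ (mono F (Equiv.swap 0 j)))⁻¹ := rfl

theorem ph_zero (M : SpecialLinearGroup (Fin 2) c.K) : D.ph 0 M = D.φ M := by
  rw [ph_apply, Equiv.swap_self]
  show D.ψ (mono F 1) * _ * (D.ψ (mono F 1))⁻¹ = _
  rw [mono_one, map_one, one_mul, inv_one, mul_one]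

variable (hg : Subgroup.closure (Set.range g) = ⊤) (hb : Subgroup.closure (Set.range b) = ⊤)
  (hω : Gen c ω)

include hb hg in
theorem blk_all (M : SpecialLinearGroup (Fin 2) c.K) (B : SpecialLinearGroup (Fin (k + 1)) F) :
    Commute (D.φ M) (D.ψ (bs (k + 1) F B)) :=
  commute_of_closure hg hb D.φ (D.ψ.comp (bs (k + 1) F)) (by
    rintro _ ⟨a, rfl⟩ _ ⟨e, rfl⟩
    exact D.blk a e) M B

include hg in
theorem lng_all (M N : SpecialLinearGroup (Fin 2) c.K) : Commute (D.φ M) (D.ph 1 N) :=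
  commute_of_closure hg hg D.φ (D.ph 1) (by
    rintro _ ⟨a, rfl⟩ _ ⟨e, rfl⟩
    exact D.lng a e) M N

include hg hω in
theorem torC_all [Finite F] (a : Fˣ) (M : SpecialLinearGroup (Fin 2) c.K) :
    D.ψ (d01 k a) * D.φ M * (D.ψ (d01 k a))⁻¹ = D.φ (sc (Nu c a) M) := by
  obtain ⟨n, rfl⟩ := hω.unit_pow a
  induction n generalizing M with
  | zero => rw [pow_zero, d01_one, Nu_one, sc_one, map_one, one_mul, inv_one, mul_one]
  | succ n ih =>
    have h1 : (MulAut.conj (D.ψ (d01 k ω))).toMonoidHom.comp D.φ = D.φ.comp (sc (Nu c ω)) :=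
      MonoidHom.eq_of_eqOn_dense hg (by rintro _ ⟨a, rfl⟩; exact D.torC a)
    have h2 : D.ψ (d01 k ω) * D.φ M * (D.ψ (d01 k ω))⁻¹ = D.φ (sc (Nu c ω) M) := DFunLike.congr_fun h1 M
    rw [pow_succ, Nu_mul, d01_mul, sc_mul, map_mul, ← ih, ← h2]
    group

include hg hω in
theorem torC_one [Finite F] (a : Fˣ) (M : SpecialLinearGroup (Fin 2) c.K) :
    D.ψ (d01 k a) * D.ph 1 M * (D.ψ (d01 k a))⁻¹ = D.ph 1 (sc (Nu c a⁻¹) M) := by
  have e : d01 k a * mono F (Equiv.swap 0 1) = mono F (Equiv.swap 0 1) * d01 k a⁻¹ := by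
    rw [d01, d01, mono_diag]
    congr 1
    refine CfsgLib.Classical.sl_ext_smul fun x => funext fun l => ?_
    simp only [CfsgLib.Classical.diag2n_smul_apply, Equiv.swap_apply_left, Equiv.swap_apply_right,
      Units.val_inv_eq_inv_val, inv_inv]
    by_cases h0 : l = 0
    · subst h0; simp
    · by_cases h1 : l = 1
      · subst h1; simp
      · simp [h0, h1]
  rw [ph_apply, ph_apply, ← D.torC_all hg hω, show D.ψ (d01 k a) * (D.ψ (mono F (Equiv.swap 0 1)) * D.φ M *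
    (D.ψ (mono F (Equiv.swap 0 1)))⁻¹) * (D.ψ (d01 k a))⁻¹ = (D.ψ (d01 k a) * D.ψ (mono F (Equiv.swap 0 1))) * D.φ M *
    (D.ψ (d01 k a) * D.ψ (mono F (Equiv.swap 0 1)))⁻¹ by group, ← map_mul, e, map_mul]
  group

include hg hω in
theorem tor_all [Finite F] {a : c.K} (ha : a ≠ 0) :
    D.ψ (SpecialLinearGroup.diag2n (zero_ne_one (α := Fin (k + 2))) (a : F) (c.coe_ne ha)) =
      D.φ (hd a ha) * D.ph 1 (hd a⁻¹ (inv_ne_zero ha)) := by
  obtain ⟨n, rfl⟩ := hω.exists_norm ha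
  induction n with
  | zero =>
    rw [hd_eq_one (inv_ne_zero ha) (by simp), hd_eq_one ha (pow_zero _), map_one, map_one, one_mul,
      diag_eq_one _ _ (by simp), map_one]
  | succ n ih =>
    have hn : (Nu c ω : c.K) ^ n ≠ 0 := pow_ne_zero n (Nu c ω).ne_zero
    have e1 : SpecialLinearGroup.diag2n (zero_ne_one (α := Fin (k + 2))) (((Nu c ω : c.K) ^ (n + 1) : c.K) : F) (c.coe_ne ha) =
        SpecialLinearGroup.diag2n zero_ne_one (((Nu c ω : c.K) ^ n : c.K) : F) (c.coe_ne hn) *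
          SpecialLinearGroup.diag2n zero_ne_one ((Nu c ω : c.K) : F) (c.coe_ne (Nu c ω).ne_zero) := by
      rw [diag_mul]; congr 1; push_cast; exact pow_succ _ _
    have e2 : hd ((Nu c ω : c.K) ^ (n + 1)) ha = hd ((Nu c ω : c.K) ^ n) hn * hd (Nu c ω : c.K) (Nu c ω).ne_zero := by
      rw [hd_mul]; congr 1; exact pow_succ _ _
    have e3 : hd ((Nu c ω : c.K) ^ (n + 1))⁻¹ (inv_ne_zero ha) =
        hd ((Nu c ω : c.K) ^ n)⁻¹ (inv_ne_zero hn) * hd (Nu c ω : c.K)⁻¹ (inv_ne_zero (Nu c ω).ne_zero) := by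
      rw [hd_mul]; congr 1; rw [pow_succ, mul_inv]
    have ht := D.tor
    rw [e1, e2, e3, map_mul, map_mul, map_mul, ih hn, ht, mul_assoc, ← mul_assoc (D.ph 1 _) (D.φ _),
      ← (D.lng_all hg (hd (Nu c ω : c.K) (Nu c ω).ne_zero) _).eq, mul_assoc, mul_assoc]
    rfl

include hg hω in
theorem torD [Finite F] {a : c.K} (ha : a ≠ 0) (M : SpecialLinearGroup (Fin 2) c.K) :
    D.ψ (SpecialLinearGroup.diag2n (zero_ne_one (α := Fin (k + 2))) (a : F) (c.coe_ne ha)) * D.φ M *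
      (D.ψ (SpecialLinearGroup.diag2n zero_ne_one (a : F) (c.coe_ne ha)))⁻¹ =
        D.φ (hd a ha * M * (hd a ha)⁻¹) := by
  rw [D.tor_all hg hω ha, map_mul, map_mul, map_inv, mul_assoc (D.φ (hd a ha)), ← (D.lng_all hg M _).eq]
  group

include hb hg in
theorem E_one {A : SpecialLinearGroup (Fin (k + 2)) F} {j : Fin (k + 2)}
    (h1 : A • ev (k + 1) F = Pi.single j 1) (h2 : iot c _ A • ev (k + 1) F = Pi.single j 1)
    (M : SpecialLinearGroup (Fin 2) c.K) : D.ψ A * D.φ M * (D.ψ A)⁻¹ = D.ph j M := by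
  obtain ⟨C, hC⟩ : ∃ C, C = (mono F (Equiv.swap 0 j))⁻¹ * A := ⟨_, rfl⟩
  have hA : A = mono F (Equiv.swap 0 j) * C := by rw [hC, mul_inv_cancel_left]
  have e0 : mono F (Equiv.swap 0 j) • ev (k + 1) F = Pi.single j 1 := by
    rw [ev, mono_single, Equiv.swap_apply_left, msgn_zero, mul_one]
  have hc1 : C.1.mulVec (ev (k + 1) F) = ev (k + 1) F := by
    rw [smul_eq_mv, hC, mul_smul, h1, ← e0, inv_smul_smul]
  have hc2 : (iot c _ C).1.mulVec (ev (k + 1) F) = ev (k + 1) F := by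
    rw [smul_eq_mv, hC, map_mul, mul_smul, h2, map_inv, iot_mono, ← e0, inv_smul_smul]
  obtain ⟨B, r, hBr⟩ := exists_bs_row hc1
  have hr : r = 0 := by
    have h3 : (iot c _ (rowSL r)).1.mulVec (ev (k + 1) F) = ev (k + 1) F := by
      rw [hBr, map_mul, iot_bs, smul_eq_mv, mul_smul] at hc2
      rw [smul_eq_mv]
      refine (inv_smul_smul (bs (k + 1) F (iot c _ B)) _).symm.trans ?_
      rw [hc2, inv_smul_eq_iff, ← smul_eq_mv, coe_bs, pad_mulVec_ev, one_smul]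
    have h4 : (iot c _ (rowSL r)⁻¹).1.mulVec (ev (k + 1) F) = ev (k + 1) F := by
      rw [map_inv, smul_eq_mv, inv_smul_eq_iff, ← smul_eq_mv, h3]
    rw [coe_iot_inv] at h4
    funext i
    have := (mulVec_ev _ i.succ).symm.trans (congrFun h4 i.succ)
    simpa [coe_rowSL, ev, st_apply] using this
  rw [hA, hBr, hr, rowSL_zero, mul_one, map_mul, ph_apply,
    show D.ψ (mono F (Equiv.swap 0 j)) * D.ψ (bs (k + 1) F B) * D.φ M *
      (D.ψ (mono F (Equiv.swap 0 j)) * D.ψ (bs (k + 1) F B))⁻¹ =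
    D.ψ (mono F (Equiv.swap 0 j)) * (D.ψ (bs (k + 1) F B) * D.φ M * (D.ψ (bs (k + 1) F B))⁻¹) *
      (D.ψ (mono F (Equiv.swap 0 j)))⁻¹ by group, ← (D.blk_all hg hb M B).eq, mul_inv_cancel_right]

include hb hg hω in
theorem mono_ph [Finite F] (σ : Equiv.Perm (Fin (k + 2))) (l : Fin (k + 2)) (M : SpecialLinearGroup (Fin 2) c.K) :
    D.ψ (mono F σ) * D.ph l M * (D.ψ (mono F σ))⁻¹ = D.ph (σ l) M := by
  obtain ⟨e, he⟩ : ∃ e : c.K, (e : F) = msgn F σ l := ⟨⟨_, σ_msgn σ l⟩, rfl⟩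
  have hee : e * e = 1 := Subtype.ext (by push_cast; rw [he]; exact msgn_sq σ l)
  have he0 : e ≠ 0 := fun h => msgn_ne (F := F) σ l (by rw [← he, h]; rfl)
  have hef : (e : F) * e = 1 := by rw [he]; exact msgn_sq σ l
  have he' : (e : F)⁻¹ = e := inv_eq_of_mul_eq_one_right hef
  obtain ⟨A, hA⟩ : ∃ A, A = mono F σ * mono F (Equiv.swap 0 l) *
      SpecialLinearGroup.diag2n (zero_ne_one (α := Fin (k + 2))) (e : F) (c.coe_ne he0) := ⟨_, rfl⟩
  have hdiag : ∀ (d : F) (hd : d ≠ 0), SpecialLinearGroup.diag2n (zero_ne_one (α := Fin (k + 2))) d hd •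
      ev (k + 1) F = Pi.single 0 d := fun d hd => funext fun a => by
    rw [CfsgLib.Classical.diag2n_smul_apply, ev]
    by_cases ha : a = 0
    · subst ha; simp
    · simp [ha]
  have h1 : A • ev (k + 1) F = Pi.single (σ l) 1 := by
    rw [hA, mul_smul, mul_smul, hdiag, mono_single, mono_single, Equiv.swap_apply_left, msgn_zero, ← he, one_mul, hef]
  have h2 : iot c _ A • ev (k + 1) F = Pi.single (σ l) 1 := by
    rw [hA, map_mul, map_mul, iot_diag, iot_mono, iot_mono, mul_smul, mul_smul, hdiag, mono_single, mono_single,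
      Equiv.swap_apply_left, msgn_zero, ← he, one_mul, c.fix, he', hef]
  rw [← D.E_one hg hb h1 h2, hA, map_mul, map_mul,
    show D.ψ (mono F σ) * D.ψ (mono F (Equiv.swap 0 l)) * D.ψ (SpecialLinearGroup.diag2n zero_ne_one (e : F) (c.coe_ne he0)) *
      D.φ M * (D.ψ (mono F σ) * D.ψ (mono F (Equiv.swap 0 l)) *
        D.ψ (SpecialLinearGroup.diag2n zero_ne_one (e : F) (c.coe_ne he0)))⁻¹ =
    D.ψ (mono F σ) * (D.ψ (mono F (Equiv.swap 0 l)) * (D.ψ (SpecialLinearGroup.diag2n zero_ne_one (e : F) (c.coe_ne he0)) *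
      D.φ M * (D.ψ (SpecialLinearGroup.diag2n zero_ne_one (e : F) (c.coe_ne he0)))⁻¹) *
        (D.ψ (mono F (Equiv.swap 0 l)))⁻¹) * (D.ψ (mono F σ))⁻¹ by group,
    D.torD hg hω he0, hd_central he0 hee, mul_inv_cancel_right, ph_apply]

/-- moving everything by a monomial element -/
def cjm (σ : Equiv.Perm (Fin (k + 2))) : G →* G := (MulAut.conj (D.ψ (mono F σ))).toMonoidHom

theorem cjm_tA (σ : Equiv.Perm (Fin (k + 2))) {i j : Fin (k + 2)} (h : i ≠ j) (t : F) :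
    D.cjm σ (D.ψ (tA h t)) =
      D.ψ (tA (fun e => h (σ.injective e) : σ i ≠ σ j) (msgn F σ i * t * msgn F σ j)) := by
  show D.ψ _ * D.ψ _ * (D.ψ _)⁻¹ = _
  rw [← map_mul, mono_tA, map_mul, mul_inv_cancel_right]

theorem cjm_diag (σ : Equiv.Perm (Fin (k + 2))) {i j : Fin (k + 2)} (h : i ≠ j) (a : F) (ha : a ≠ 0) :
    D.cjm σ (D.ψ (SpecialLinearGroup.diag2n h a ha)) =
      D.ψ (SpecialLinearGroup.diag2n (fun e => h (σ.injective e) : σ i ≠ σ j) a ha) := by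
  show D.ψ _ * D.ψ _ * (D.ψ _)⁻¹ = _
  rw [← map_mul, mono_diag, map_mul, mul_inv_cancel_right]

include hb hg hω in
theorem cjm_ph [Finite F] (σ : Equiv.Perm (Fin (k + 2))) (l : Fin (k + 2)) (M : SpecialLinearGroup (Fin 2) c.K) :
    D.cjm σ (D.ph l M) = D.ph (σ l) M := D.mono_ph hg hb hω σ l M

include hb hg hω in
theorem fix_gen [Finite F] (i a e : Fin (k + 2)) (h : a ≠ e) (ha : a ≠ i) (he : e ≠ i)
    (M : SpecialLinearGroup (Fin 2) c.K) (t : F) : Commute (D.ph i M) (D.ψ (tA h t)) := by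
  obtain ⟨σ, rfl⟩ : ∃ σ : Equiv.Perm (Fin (k + 2)), σ 0 = i := ⟨Equiv.swap 0 i, Equiv.swap_apply_left _ _⟩
  obtain ⟨a, rfl⟩ := σ.surjective a
  obtain ⟨e, rfl⟩ := σ.surjective e
  have ha0 : a ≠ 0 := fun x => ha (x ▸ rfl)
  have he0 : e ≠ 0 := fun x => he (x ▸ rfl)
  obtain ⟨a, rfl⟩ := Fin.exists_succ_eq.2 ha0
  obtain ⟨e, rfl⟩ := Fin.exists_succ_eq.2 he0
  have hae : a ≠ e := fun x => h (x ▸ rfl)
  have h1 := (D.blk_all hg hb M (tA hae (msgn F σ a.succ * t * msgn F σ e.succ))).map (D.cjm σ)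
  rw [← D.ph_zero, D.cjm_ph hg hb hω, bs_tA, D.cjm_tA] at h1
  have e' : msgn F σ a.succ * (msgn F σ a.succ * t * msgn F σ e.succ) * msgn F σ e.succ = t := by
    linear_combination t * msgn F σ e.succ * msgn F σ e.succ * msgn_sq (F := F) σ a.succ + t * msgn_sq (F := F) σ e.succ
  rwa [e'] at h1

include hb hg hω in
theorem long_gen [Finite F] (i j : Fin (k + 2)) (h : i ≠ j) (M N : SpecialLinearGroup (Fin 2) c.K) :
    Commute (D.ph i M) (D.ph j N) := by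
  obtain ⟨σ, rfl, rfl⟩ := exists_perm_pair h
  have h1 := (D.lng_all hg M N).map (D.cjm σ)
  rwa [← D.ph_zero, D.cjm_ph hg hb hω, D.cjm_ph hg hb hω] at h1

include hb hg hω in
theorem tor_gen [Finite F] (i j : Fin (k + 2)) (h : i ≠ j) (a : c.K) (ha : a ≠ 0) :
    D.ψ (SpecialLinearGroup.diag2n h (a : F) (c.coe_ne ha)) = D.ph i (hd a ha) * D.ph j (hd a⁻¹ (inv_ne_zero ha)) := by
  obtain ⟨σ, rfl, rfl⟩ := exists_perm_pair h
  have h1 := congrArg (D.cjm σ) (D.tor_all hg hω ha)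
  rwa [map_mul, ← D.ph_zero, D.cjm_ph hg hb hω, D.cjm_ph hg hb hω, D.cjm_diag] at h1

theorem D_tA01 (a : Fˣ) (x : F) :
    D.ψ (d01 k a) * D.ψ (tA zero_ne_one x) * (D.ψ (d01 k a))⁻¹ = D.ψ (tA zero_ne_one ((a : F) * x * a)) := by
  rw [← map_mul, d01, diag_tA01, map_mul, mul_inv_cancel_right]

theorem D_tA10 (a : Fˣ) (x : F) :
    D.ψ (d01 k a) * D.ψ (tA one_ne_zero x) * (D.ψ (d01 k a))⁻¹ =
      D.ψ (tA one_ne_zero ((a : F)⁻¹ * x * (a : F)⁻¹)) := by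
  rw [← map_mul, d01, diag_tA10, map_mul, mul_inv_cancel_right]

include hg hω in
theorem nrm_all [Finite F] {u : c.K} (hu : u ≠ 0) (t : F) :
    D.φ (hd u hu) * D.ψ (tA (zero_ne_one (α := Fin (k + 2))) t) * (D.φ (hd u hu))⁻¹ =
      D.ψ (tA zero_ne_one ((u : F) * t)) := by
  have h1 : ∀ t, D.φ (hd (Nu c ω : c.K) (Nu c ω).ne_zero) * D.ψ (tA (zero_ne_one (α := Fin (k + 2))) t) *
      (D.φ (hd (Nu c ω : c.K) (Nu c ω).ne_zero))⁻¹ = D.ψ (tA zero_ne_one (((Nu c ω : c.K) : F) * t)) := by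
    refine forall_of_sq (fun s t hs ht => ?_) fun a => ?_
    · rw [mul_add, ← Pre.tA_add, ← Pre.tA_add, map_mul, map_mul, ← hs, ← ht]; group
    · rcases eq_or_ne a 0 with rfl | ha
      · rw [mul_zero, mul_zero, tA_zero, map_one, mul_one, mul_inv_cancel]
      · obtain ⟨T, hT⟩ : ∃ T, T = D.ψ (d01 k (Units.mk0 a ha)) := ⟨_, rfl⟩
        have hc1 : T * D.φ (hd (Nu c ω : c.K) (Nu c ω).ne_zero) * T⁻¹ = D.φ (hd (Nu c ω : c.K) (Nu c ω).ne_zero) := by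
          rw [hT, D.torC_all hg hω, sc_hd]
        have e := congrArg (fun x => T * x * T⁻¹) D.nrm
        rw [show T * (D.φ (hd (Nu c ω : c.K) (Nu c ω).ne_zero) * D.ψ (tA zero_ne_one 1) * (D.φ (hd (Nu c ω : c.K) (Nu c ω).ne_zero))⁻¹) * T⁻¹ =
          (T * D.φ (hd (Nu c ω : c.K) (Nu c ω).ne_zero) * T⁻¹) * (T * D.ψ (tA zero_ne_one 1) * T⁻¹) *
            (T * D.φ (hd (Nu c ω : c.K) (Nu c ω).ne_zero) * T⁻¹)⁻¹ by group, hc1, hT, D.D_tA01, D.D_tA01, Units.val_mk0,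
          mul_one] at e
        rw [e]; congr 2; ring
  obtain ⟨n, rfl⟩ := hω.exists_norm hu
  induction n generalizing t with
  | zero =>
    rw [hd_eq_one hu (pow_zero _), map_one, one_mul, inv_one, mul_one, pow_zero, OneMemClass.coe_one, one_mul]
  | succ n ih =>
    have hn : (Nu c ω : c.K) ^ n ≠ 0 := pow_ne_zero n (Nu c ω).ne_zero
    have e2 : hd ((Nu c ω : c.K) ^ (n + 1)) hu = hd ((Nu c ω : c.K) ^ n) hn * hd (Nu c ω : c.K) (Nu c ω).ne_zero := by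
      rw [hd_mul]; congr 1; exact pow_succ _ _
    rw [e2, map_mul, pow_succ, MulMemClass.coe_mul, mul_assoc (((Nu c ω : c.K) ^ n : c.K) : F), ← ih _ hn, ← h1]
    group

include hg hω in
theorem nrm'_all [Finite F] {u : c.K} (hu : u ≠ 0) (t : F) :
    D.φ (hd u hu) * D.ψ (tA (one_ne_zero (α := Fin (k + 2))) t) * (D.φ (hd u hu))⁻¹ =
      D.ψ (tA one_ne_zero ((u : F)⁻¹ * t)) := by
  have h1 : ∀ t, D.φ (hd (Nu c ω : c.K) (Nu c ω).ne_zero) * D.ψ (tA (one_ne_zero (α := Fin (k + 2))) t) *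
      (D.φ (hd (Nu c ω : c.K) (Nu c ω).ne_zero))⁻¹ = D.ψ (tA one_ne_zero (((Nu c ω : c.K) : F)⁻¹ * t)) := by
    refine forall_of_sq (fun s t hs ht => ?_) fun a => ?_
    · rw [mul_add, ← Pre.tA_add, ← Pre.tA_add, map_mul, map_mul, ← hs, ← ht]; group
    · rcases eq_or_ne a 0 with rfl | ha
      · rw [mul_zero, mul_zero, tA_zero, map_one, mul_one, mul_inv_cancel]
      · obtain ⟨T, hT⟩ : ∃ T, T = D.ψ (d01 k (Units.mk0 a ha)⁻¹) := ⟨_, rfl⟩
        have hc1 : T * D.φ (hd (Nu c ω : c.K) (Nu c ω).ne_zero) * T⁻¹ = D.φ (hd (Nu c ω : c.K) (Nu c ω).ne_zero) := by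
          rw [hT, D.torC_all hg hω, sc_hd]
        have e := congrArg (fun x => T * x * T⁻¹) D.nrm'
        rw [show T * (D.φ (hd (Nu c ω : c.K) (Nu c ω).ne_zero) * D.ψ (tA one_ne_zero 1) * (D.φ (hd (Nu c ω : c.K) (Nu c ω).ne_zero))⁻¹) * T⁻¹ =
          (T * D.φ (hd (Nu c ω : c.K) (Nu c ω).ne_zero) * T⁻¹) * (T * D.ψ (tA one_ne_zero 1) * T⁻¹) *
            (T * D.φ (hd (Nu c ω : c.K) (Nu c ω).ne_zero) * T⁻¹)⁻¹ by group, hc1, hT, D.D_tA10, D.D_tA10,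
          Units.val_inv_eq_inv_val, Units.val_mk0, inv_inv, mul_one] at e
        rw [e]; congr 2; ring
  obtain ⟨n, rfl⟩ := hω.exists_norm hu
  induction n generalizing t with
  | zero =>
    rw [hd_eq_one hu (pow_zero _), map_one, one_mul, inv_one, mul_one, pow_zero, OneMemClass.coe_one, inv_one, one_mul]
  | succ n ih =>
    have hn : (Nu c ω : c.K) ^ n ≠ 0 := pow_ne_zero n (Nu c ω).ne_zero
    have e2 : hd ((Nu c ω : c.K) ^ (n + 1)) hu = hd ((Nu c ω : c.K) ^ n) hn * hd (Nu c ω : c.K) (Nu c ω).ne_zero := by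
      rw [hd_mul]; congr 1; exact pow_succ _ _
    rw [e2, map_mul, pow_succ, MulMemClass.coe_mul, mul_inv, mul_assoc (((Nu c ω : c.K) ^ n : c.K) : F)⁻¹, ← ih _ hn, ← h1]
    group

include hb hg hω in
theorem nrm_gen [Finite F] (i j : Fin (k + 2)) (h : i ≠ j) (u : c.K) (hu : u ≠ 0) (t : F) :
    D.ph i (hd u hu) * D.ψ (tA h t) * (D.ph i (hd u hu))⁻¹ = D.ψ (tA h ((u : F) * t)) := by
  obtain ⟨σ, rfl, rfl⟩ := exists_perm_pair h
  have h1 := congrArg (D.cjm σ) (D.nrm_all hg hω hu (t * msgn F σ 1))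
  rw [map_mul, map_mul, map_inv, ← D.ph_zero, D.cjm_ph hg hb hω, D.cjm_tA, D.cjm_tA, msgn_zero, one_mul, one_mul,
    mul_assoc t, mul_assoc (u : F), mul_assoc t, msgn_sq, mul_one] at h1
  exact h1

include hb hg hω in
theorem nrm'_gen [Finite F] (i j : Fin (k + 2)) (h : j ≠ i) (u : c.K) (hu : u ≠ 0) (t : F) :
    D.ph i (hd u hu) * D.ψ (tA h t) * (D.ph i (hd u hu))⁻¹ = D.ψ (tA h ((u : F)⁻¹ * t)) := by
  obtain ⟨σ, rfl, rfl⟩ := exists_perm_pair h.symm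
  have h1 := congrArg (D.cjm σ) (D.nrm'_all hg hω hu (msgn F σ 1 * t))
  have e1 : msgn F σ 1 * (msgn F σ 1 * t) * msgn F σ 0 = t := by
    rw [msgn_zero, mul_one, ← mul_assoc, msgn_sq, one_mul]
  have e2 : msgn F σ 1 * ((u : F)⁻¹ * (msgn F σ 1 * t)) * msgn F σ 0 = (u : F)⁻¹ * t := by
    rw [msgn_zero, mul_one, mul_left_comm, ← mul_assoc (msgn F σ 1), msgn_sq, one_mul]
  rw [map_mul, map_mul, map_inv, ← D.ph_zero, D.cjm_ph hg hb hω, D.cjm_tA, D.cjm_tA, e1, e2] at h1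
  exact h1

include hb hg hω in
theorem fx_all [Finite F] (s : c.K) (t : F) :
    Commute (D.φ (xp s)) (D.ψ (tA (zero_ne_one (α := Fin (k + 2))) t)) := by
  have hK : ∀ (s : c.K) (t : F), Commute (D.φ (xp s)) (D.ψ (tA (zero_ne_one (α := Fin (k + 2))) t)) →
      ∀ v : c.K, Commute (D.φ (xp s)) (D.ψ (tA (zero_ne_one (α := Fin (k + 2))) ((v : F) * t))) := by
    intro s t h v
    rcases eq_or_ne v 0 with rfl | hv
    · rw [show ((0 : c.K) : F) * t = 0 from zero_mul t, tA_zero, map_one]; exact Commute.one_right _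
    have h' := h.map (MulAut.conj (D.ph 1 (hd v⁻¹ (inv_ne_zero hv)))).toMonoidHom
    simp only [MulEquiv.coe_toMonoidHom, MulAut.conj_apply] at h'
    rw [D.nrm'_gen hg hb hω 1 0 zero_ne_one, ← (D.lng_all hg _ _).eq, mul_inv_cancel_right] at h'
    push_cast at h'
    rwa [inv_inv] at h'
  have hbase : ∀ s : c.K, Commute (D.φ (xp s)) (D.ψ (tA (zero_ne_one (α := Fin (k + 2))) (1 : F))) := fun s => by
    refine forall_of_sq (P := fun s : c.K => Commute (D.φ (xp s)) (D.ψ (tA (zero_ne_one (α := Fin (k + 2))) (1 : F))))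
      (fun x y hx hy => by rw [← xp_add, map_mul]; exact hx.mul_left hy) (fun u => ?_) s
    rcases eq_or_ne u 0 with rfl | hu
    · rw [mul_zero, xp_zero, map_one]; exact Commute.one_left _
    have h1 := D.fx.map (MulAut.conj (D.φ (hd u hu))).toMonoidHom
    simp only [MulEquiv.coe_toMonoidHom, MulAut.conj_apply] at h1
    rw [D.nrm_all hg hω hu, ← map_mul, hd_xp, map_mul, mul_inv_cancel_right, mul_one, mul_one] at h1
    have := hK _ _ h1 u⁻¹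
    rwa [show ((u⁻¹ : c.K) : F) * (u : F) = 1 by push_cast; exact inv_mul_cancel₀ (c.coe_ne hu)] at this
  refine forall_span (c := c) (P := fun t => ∀ s : c.K, Commute (D.φ (xp s)) (D.ψ (tA (zero_ne_one (α := Fin (k + 2))) t)))
    (fun x y hx hy s => by rw [← Pre.tA_add, map_mul]; exact (hx s).mul_right (hy s))
    (fun v t ht s => hK s t (ht s) v) hbase hω.2 (fun s => ?_) t s
  have h2 := (hbase ((Nu c ω : c.K)⁻¹ * s)).map (MulAut.conj (D.ψ (d01 k ω))).toMonoidHom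
  simp only [MulEquiv.coe_toMonoidHom, MulAut.conj_apply] at h2
  rwa [D.torC_all hg hω, sc_xp, D.D_tA01, mul_one, mul_inv_cancel_left₀ (Nu c ω).ne_zero] at h2

include hb hg hω in
theorem fx_gen [Finite F] (i j : Fin (k + 2)) (h : i ≠ j) (s : c.K) (t : F) :
    Commute (D.ph i (xp s)) (D.ψ (tA h t)) := by
  obtain ⟨σ, rfl, rfl⟩ := exists_perm_pair h
  have h1 := (D.fx_all hg hb hω s (t * msgn F σ 1)).map (D.cjm σ)
  rwa [← D.ph_zero, D.cjm_ph hg hb hω, D.cjm_tA, msgn_zero, one_mul, mul_assoc, msgn_sq, mul_one] at h1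

include hb hg hω in
theorem W_conj [Finite F] {v : c.K} (hv : v ≠ 0) (x : F) :
    D.ph 1 (hd v hv) * (D.ph 1 (wS c.K) * D.ψ (tA (zero_ne_one (α := Fin (k + 2))) x) * (D.ph 1 (wS c.K))⁻¹) *
      (D.ph 1 (hd v hv))⁻¹ =
    D.ph 1 (wS c.K) * D.ψ (tA zero_ne_one ((v : F) * x)) * (D.ph 1 (wS c.K))⁻¹ := by
  have e : D.ph 1 (hd v hv) * D.ph 1 (wS c.K) = D.ph 1 (wS c.K) * D.ph 1 (hd v⁻¹ (inv_ne_zero hv)) := by
    rw [← map_mul, hd_wS, map_mul]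
  have h1 := D.nrm'_gen hg hb hω 1 0 zero_ne_one v⁻¹ (inv_ne_zero hv) x
  push_cast at h1
  rw [inv_inv] at h1
  rw [show D.ph 1 (hd v hv) * (D.ph 1 (wS c.K) * D.ψ (tA zero_ne_one x) * (D.ph 1 (wS c.K))⁻¹) * (D.ph 1 (hd v hv))⁻¹ =
    (D.ph 1 (hd v hv) * D.ph 1 (wS c.K)) * D.ψ (tA zero_ne_one x) * (D.ph 1 (hd v hv) * D.ph 1 (wS c.K))⁻¹ by group, e,
    ← h1]
  group

include hb hg hω in
theorem W_conj' [Finite F] {v : c.K} (hv : v ≠ 0) (x : F) :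
    D.ph 1 (hd v hv) * ((D.ph 1 (wS c.K))⁻¹ * D.ψ (tA (one_ne_zero (α := Fin (k + 2))) x) * D.ph 1 (wS c.K)) *
      (D.ph 1 (hd v hv))⁻¹ =
    (D.ph 1 (wS c.K))⁻¹ * D.ψ (tA one_ne_zero ((v : F)⁻¹ * x)) * D.ph 1 (wS c.K) := by
  have e : D.ph 1 (wS c.K) * D.ph 1 (hd v hv) = D.ph 1 (hd v⁻¹ (inv_ne_zero hv)) * D.ph 1 (wS c.K) := by
    rw [← map_mul, ← map_mul, hd_wS (inv_ne_zero hv)]
    simp only [inv_inv]
  have h1 := D.nrm_gen hg hb hω 1 0 one_ne_zero v⁻¹ (inv_ne_zero hv) x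
  push_cast at h1
  have e2 : D.ph 1 (hd v hv) * (D.ph 1 (wS c.K))⁻¹ = (D.ph 1 (wS c.K))⁻¹ * D.ph 1 (hd v⁻¹ (inv_ne_zero hv)) := by
    rw [eq_inv_mul_iff_mul_eq, ← mul_assoc, e, mul_inv_cancel_right]
  rw [show D.ph 1 (hd v hv) * ((D.ph 1 (wS c.K))⁻¹ * D.ψ (tA one_ne_zero x) * D.ph 1 (wS c.K)) * (D.ph 1 (hd v hv))⁻¹ =
    (D.ph 1 (hd v hv) * (D.ph 1 (wS c.K))⁻¹) * D.ψ (tA one_ne_zero x) * (D.ph 1 (hd v hv) * (D.ph 1 (wS c.K))⁻¹)⁻¹
    by group, e2, ← h1]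
  group

include hg hω in
theorem w_conj [Finite F] {v : c.K} (hv : v ≠ 0) (x : F) :
    D.φ (hd v hv) * (D.φ (wS c.K) * D.ψ (tA (one_ne_zero (α := Fin (k + 2))) x) * (D.φ (wS c.K))⁻¹) * (D.φ (hd v hv))⁻¹ =
    D.φ (wS c.K) * D.ψ (tA one_ne_zero ((v : F) * x)) * (D.φ (wS c.K))⁻¹ := by
  have e : D.φ (hd v hv) * D.φ (wS c.K) = D.φ (wS c.K) * D.φ (hd v⁻¹ (inv_ne_zero hv)) := by
    rw [← map_mul, hd_wS, map_mul]
  have h1 := D.nrm'_all hg hω (inv_ne_zero hv) x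
  push_cast at h1
  rw [inv_inv] at h1
  rw [show D.φ (hd v hv) * (D.φ (wS c.K) * D.ψ (tA one_ne_zero x) * (D.φ (wS c.K))⁻¹) * (D.φ (hd v hv))⁻¹ =
    (D.φ (hd v hv) * D.φ (wS c.K)) * D.ψ (tA one_ne_zero x) * (D.φ (hd v hv) * D.φ (wS c.K))⁻¹ by group, e, ← h1]
  group

include hb hg hω in
theorem D_W [Finite F] (a : Fˣ) (x : F) :
    D.ψ (d01 k a) * (D.ph 1 (wS c.K) * D.ψ (tA (zero_ne_one (α := Fin (k + 2))) x) * (D.ph 1 (wS c.K))⁻¹) *
      (D.ψ (d01 k a))⁻¹ =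
    D.ph 1 (wS c.K) * D.ψ (tA zero_ne_one ((a : F) / c.σ a * x)) * (D.ph 1 (wS c.K))⁻¹ := by
  rw [show D.ψ (d01 k a) * (D.ph 1 (wS c.K) * D.ψ (tA zero_ne_one x) * (D.ph 1 (wS c.K))⁻¹) * (D.ψ (d01 k a))⁻¹ =
    (D.ψ (d01 k a) * D.ph 1 (wS c.K) * (D.ψ (d01 k a))⁻¹) * (D.ψ (d01 k a) * D.ψ (tA zero_ne_one x) * (D.ψ (d01 k a))⁻¹) *
    (D.ψ (d01 k a) * D.ph 1 (wS c.K) * (D.ψ (d01 k a))⁻¹)⁻¹ by group, D.torC_one hg hω, D.D_tA01, sc_wS, map_mul]
  have h := D.W_conj hg hb hω (Nu c a⁻¹).ne_zero ((a : F) * x * a)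
  rw [show (((Nu c a⁻¹ : c.Kˣ) : c.K) : F) * ((a : F) * x * a) = (a : F) / c.σ a * x by
    simp [Nu, Conj.N_coe, map_inv₀]; field_simp] at h
  rw [← h]
  group

include hb hg hω in
theorem D_W' [Finite F] (a : Fˣ) (x : F) :
    D.ψ (d01 k a) * ((D.ph 1 (wS c.K))⁻¹ * D.ψ (tA (one_ne_zero (α := Fin (k + 2))) x) * D.ph 1 (wS c.K)) *
      (D.ψ (d01 k a))⁻¹ =
    (D.ph 1 (wS c.K))⁻¹ * D.ψ (tA one_ne_zero (c.σ a / (a : F) * x)) * D.ph 1 (wS c.K) := by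
  rw [show D.ψ (d01 k a) * ((D.ph 1 (wS c.K))⁻¹ * D.ψ (tA one_ne_zero x) * D.ph 1 (wS c.K)) * (D.ψ (d01 k a))⁻¹ =
    (D.ψ (d01 k a) * D.ph 1 (wS c.K) * (D.ψ (d01 k a))⁻¹)⁻¹ * (D.ψ (d01 k a) * D.ψ (tA one_ne_zero x) * (D.ψ (d01 k a))⁻¹) *
    (D.ψ (d01 k a) * D.ph 1 (wS c.K) * (D.ψ (d01 k a))⁻¹) by group, D.torC_one hg hω, D.D_tA10, sc_wS, map_mul]
  have hn := (Nu c a⁻¹).ne_zero
  have h := D.nrm_gen hg hb hω 1 0 one_ne_zero ((Nu c a⁻¹ : c.Kˣ) : c.K)⁻¹ (inv_ne_zero hn)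
    ((a : F)⁻¹ * x * (a : F)⁻¹)
  rw [show (((((Nu c a⁻¹ : c.Kˣ) : c.K))⁻¹ : c.K) : F) * ((a : F)⁻¹ * x * (a : F)⁻¹) = c.σ a / (a : F) * x by
    simp [Nu, Conj.N_coe, map_inv₀]; field_simp] at h
  rw [← h, ← hd_inv hn, map_inv]
  group

include hb hg hω in
theorem sym_all [Finite F] (t : F) :
    D.ph 1 (wS c.K) * D.ψ (tA (zero_ne_one (α := Fin (k + 2))) t) * (D.ph 1 (wS c.K))⁻¹ =
      D.φ (wS c.K) * D.ψ (tA one_ne_zero (c.σ t)) * (D.φ (wS c.K))⁻¹ := by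
  have hK : ∀ (u : c.K) (t : F),
      D.ph 1 (wS c.K) * D.ψ (tA (zero_ne_one (α := Fin (k + 2))) t) * (D.ph 1 (wS c.K))⁻¹ =
        D.φ (wS c.K) * D.ψ (tA one_ne_zero (c.σ t)) * (D.φ (wS c.K))⁻¹ →
      D.ph 1 (wS c.K) * D.ψ (tA (zero_ne_one (α := Fin (k + 2))) ((u : F) * t)) * (D.ph 1 (wS c.K))⁻¹ =
        D.φ (wS c.K) * D.ψ (tA one_ne_zero (c.σ ((u : F) * t))) * (D.φ (wS c.K))⁻¹ := by
    intro u t h
    rcases eq_or_ne u 0 with rfl | hu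
    · rw [show ((0 : c.K) : F) * t = 0 from zero_mul t, map_zero, tA_zero, tA_zero, map_one, mul_one, mul_one,
        mul_inv_cancel, mul_inv_cancel]
    have e := congrArg (fun x => D.φ (hd u hu) * x * (D.φ (hd u hu))⁻¹) h
    rw [D.w_conj hg hω hu] at e
    rw [show D.φ (hd u hu) * (D.ph 1 (wS c.K) * D.ψ (tA zero_ne_one t) * (D.ph 1 (wS c.K))⁻¹) * (D.φ (hd u hu))⁻¹ =
      (D.φ (hd u hu) * D.ph 1 (wS c.K)) * D.ψ (tA zero_ne_one t) * (D.φ (hd u hu) * D.ph 1 (wS c.K))⁻¹ by group,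
      (D.lng_all hg _ _).eq, show ∀ W H x : G, W * H * x * (W * H)⁻¹ = W * (H * x * H⁻¹) * W⁻¹ by intro W H x; group,
      D.nrm_all hg hω hu] at e
    rw [map_mul, c.fix]
    exact e
  refine forall_span (c := c) (P := fun t => D.ph 1 (wS c.K) * D.ψ (tA (zero_ne_one (α := Fin (k + 2))) t) *
      (D.ph 1 (wS c.K))⁻¹ = D.φ (wS c.K) * D.ψ (tA one_ne_zero (c.σ t)) * (D.φ (wS c.K))⁻¹)
    (fun x y hx hy => ?_) hK ?_ (z := (ω : F) / c.σ ω) (fun e => hω.2 ?_) ?_ t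
  · rw [← Pre.tA_add, map_mul, map_add, ← Pre.tA_add, map_mul,
      show ∀ W A B : G, W * (A * B) * W⁻¹ = (W * A * W⁻¹) * (W * B * W⁻¹) by intro W A B; group, hx, hy]
    group
  · rw [map_one]; exact D.sym
  · have hs : c.σ (ω : F) ≠ 0 := fun e => ω.ne_zero ((map_eq_zero c.σ).1 e)
    rw [map_div₀, c.σσ] at e
    field_simp at e
    rw [map_mul]
    linear_combination e
  · have e := congrArg (fun x => D.ψ (d01 k ω) * x * (D.ψ (d01 k ω))⁻¹)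
      (show D.ph 1 (wS c.K) * D.ψ (tA (zero_ne_one (α := Fin (k + 2))) 1) * (D.ph 1 (wS c.K))⁻¹ = _ from D.sym)
    rw [D.D_W hg hb hω, show D.ψ (d01 k ω) * (D.φ (wS c.K) * D.ψ (tA one_ne_zero 1) * (D.φ (wS c.K))⁻¹) * (D.ψ (d01 k ω))⁻¹ =
      (D.ψ (d01 k ω) * D.φ (wS c.K) * (D.ψ (d01 k ω))⁻¹) * (D.ψ (d01 k ω) * D.ψ (tA one_ne_zero 1) * (D.ψ (d01 k ω))⁻¹) *
      (D.ψ (d01 k ω) * D.φ (wS c.K) * (D.ψ (d01 k ω))⁻¹)⁻¹ by group, D.torC_all hg hω, D.D_tA10, sc_wS, map_mul,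
      mul_one, mul_one] at e
    have h := D.w_conj hg hω (Nu c ω).ne_zero ((ω : F)⁻¹ * (ω : F)⁻¹)
    rw [show (((Nu c ω : c.Kˣ) : c.K) : F) * ((ω : F)⁻¹ * (ω : F)⁻¹) = c.σ ((ω : F) / c.σ ω) by
      simp [Nu, Conj.N_coe, map_div₀, c.σσ]; field_simp] at h
    rw [e, ← h]
    group

include hb hg hω in
theorem sym_gen [Finite F] (i j : Fin (k + 2)) (h : i ≠ j) (t : F) :
    D.ph j (wS c.K) * D.ψ (tA h t) * (D.ph j (wS c.K))⁻¹ =
      D.ph i (wS c.K) * D.ψ (tA h.symm (c.σ t)) * (D.ph i (wS c.K))⁻¹ := by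
  obtain ⟨σ, rfl, rfl⟩ := exists_perm_pair h
  have h1 := congrArg (D.cjm σ) (D.sym_all hg hb hω (t * msgn F σ 1))
  rw [← D.ph_zero, map_mul, map_mul, map_inv, map_mul, map_mul, map_inv, D.cjm_ph hg hb hω, D.cjm_ph hg hb hω,
    D.cjm_tA, D.cjm_tA, msgn_zero, one_mul, mul_one, mul_assoc t, msgn_sq, mul_one, map_mul c.σ, σ_msgn,
    mul_comm (c.σ t) (msgn F σ 1), ← mul_assoc, msgn_sq, one_mul] at h1
  exact h1

include hb hg hω in
theorem sym_rev [Finite F] (t : F) :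
    (D.ph 1 (wS c.K))⁻¹ * D.ψ (tA (one_ne_zero (α := Fin (k + 2))) t) * D.ph 1 (wS c.K) =
      (D.φ (wS c.K))⁻¹ * D.ψ (tA zero_ne_one (c.σ t)) * D.φ (wS c.K) := by
  have e := D.sym_all hg hb hω (c.σ t)
  rw [c.σσ] at e
  have hc : Commute (D.φ (wS c.K)) (D.ph 1 (wS c.K)) := D.lng_all hg _ _
  generalize D.φ (wS c.K) = A at e hc
  generalize D.ph 1 (wS c.K) = B at e hc
  calc B⁻¹ * D.ψ (tA one_ne_zero t) * B
      = B⁻¹ * A⁻¹ * (A * D.ψ (tA one_ne_zero t) * A⁻¹) * (A * B) := by group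
    _ = (A * B)⁻¹ * (B * D.ψ (tA zero_ne_one (c.σ t)) * B⁻¹) * (A * B) := by rw [e, _root_.mul_inv_rev]
    _ = A⁻¹ * D.ψ (tA zero_ne_one (c.σ t)) * A := by rw [hc.eq]; group

end Core

namespace Glue

variable {g : Fin 2 → SpecialLinearGroup (Fin 2) c.K} {b : Fin 2 → SpecialLinearGroup (Fin (k + 1)) F} {ω : Fˣ}
  (D : Glue c k g b ω G) (hg : Subgroup.closure (Set.range g) = ⊤) (hb : Subgroup.closure (Set.range b) = ⊤)
  (hω : Gen c ω)

include hb hg hω in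
theorem fx'_all [Finite F] (s : c.K) (t : F) :
    Commute (D.φ (xm s)) (D.ψ (tA (one_ne_zero (α := Fin (k + 2))) t)) := by
  have hK : ∀ (s : c.K) (t : F), Commute (D.φ (xm s)) (D.ψ (tA (one_ne_zero (α := Fin (k + 2))) t)) →
      ∀ v : c.K, Commute (D.φ (xm s)) (D.ψ (tA (one_ne_zero (α := Fin (k + 2))) ((v : F) * t))) := by
    intro s t h v
    rcases eq_or_ne v 0 with rfl | hv
    · rw [show ((0 : c.K) : F) * t = 0 from zero_mul t, tA_zero, map_one]; exact Commute.one_right _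
    have h' := h.map (MulAut.conj (D.ph 1 (hd v hv))).toMonoidHom
    simp only [MulEquiv.coe_toMonoidHom, MulAut.conj_apply] at h'
    rwa [D.nrm_gen hg hb hω 1 0 one_ne_zero, ← (D.lng_all hg _ _).eq, mul_inv_cancel_right] at h'
  have hbase : ∀ s : c.K, Commute (D.φ (xm s)) (D.ψ (tA (one_ne_zero (α := Fin (k + 2))) (1 : F))) := fun s => by
    refine forall_of_sq (P := fun s : c.K => Commute (D.φ (xm s)) (D.ψ (tA (one_ne_zero (α := Fin (k + 2))) (1 : F))))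
      (fun x y hx hy => by rw [← xm_add, map_mul]; exact hx.mul_left hy) (fun u => ?_) s
    rcases eq_or_ne u 0 with rfl | hu
    · rw [mul_zero, xm_zero, map_one]; exact Commute.one_left _
    have h1 := D.fx'.map (MulAut.conj (D.φ (hd u⁻¹ (inv_ne_zero hu)))).toMonoidHom
    simp only [MulEquiv.coe_toMonoidHom, MulAut.conj_apply] at h1
    rw [D.nrm'_all hg hω (inv_ne_zero hu), ← map_mul, hd_xm, map_mul, mul_inv_cancel_right, mul_one, mul_one,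
      inv_inv] at h1
    push_cast at h1
    rw [inv_inv] at h1
    have := hK _ _ h1 u⁻¹
    rwa [show ((u⁻¹ : c.K) : F) * (u : F) = 1 by push_cast; exact inv_mul_cancel₀ (c.coe_ne hu)] at this
  refine forall_span (c := c) (P := fun t => ∀ s : c.K, Commute (D.φ (xm s)) (D.ψ (tA (one_ne_zero (α := Fin (k + 2))) t)))
    (fun x y hx hy s => by rw [← Pre.tA_add, map_mul]; exact (hx s).mul_right (hy s))
    (fun v t ht s => hK s t (ht s) v) hbase (z := ((ω : F) * ω)⁻¹) (fun e => hω.2 (by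
      rw [map_inv₀, inv_inj] at e; exact e)) (fun s => ?_) t s
  have h2 := (hbase ((Nu c ω : c.K) * s)).map (MulAut.conj (D.ψ (d01 k ω))).toMonoidHom
  simp only [MulEquiv.coe_toMonoidHom, MulAut.conj_apply] at h2
  rwa [D.torC_all hg hω, sc_xm, D.D_tA10, mul_one, inv_mul_cancel_left₀ (Nu c ω).ne_zero, ← mul_inv] at h2

include hb hg hω in
theorem fx'_gen [Finite F] (i j : Fin (k + 2)) (h : j ≠ i) (s : c.K) (t : F) :
    Commute (D.ph i (xm s)) (D.ψ (tA h t)) := by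
  obtain ⟨σ, rfl, rfl⟩ := exists_perm_pair h.symm
  have h1 := (D.fx'_all hg hb hω s (msgn F σ 1 * t)).map (D.cjm σ)
  rwa [← D.ph_zero, D.cjm_ph hg hb hω, D.cjm_tA, msgn_zero, mul_one, ← mul_assoc, msgn_sq, one_mul] at h1

/-- the relation `form` -/
def FormP (s : F) (t : c.K) : Prop :=
  D.ψ (tA (one_ne_zero (α := Fin (k + 2))) s) * D.φ (xp t) * (D.ψ (tA one_ne_zero s))⁻¹ =
    D.φ (xp t) * (D.ph 1 (wS c.K) * D.ψ (tA zero_ne_one (-(c.σ s * t))) * (D.ph 1 (wS c.K))⁻¹) *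
      D.ph 1 (xp (c.N s * t))

/-- the relation `form'` -/
def FormP' (s : F) (t : c.K) : Prop :=
  D.ψ (tA (zero_ne_one (α := Fin (k + 2))) (-c.σ s)) * D.φ (xm t) * (D.ψ (tA zero_ne_one (-c.σ s)))⁻¹ =
    D.φ (xm t) * ((D.ph 1 (wS c.K))⁻¹ * D.ψ (tA one_ne_zero (s * t)) * D.ph 1 (wS c.K)) *
      D.ph 1 (xm (c.N s * t))

include hb hg hω in
theorem formP_add [Finite F] {s : F} {t u : c.K} (ht : D.FormP s t) (hu : D.FormP s u) : D.FormP s (t + u) := by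
  unfold FormP at ht hu ⊢
  rw [← xp_add, map_mul, show D.ψ (tA one_ne_zero s) * (D.φ (xp t) * D.φ (xp u)) * (D.ψ (tA one_ne_zero s))⁻¹ =
      (D.ψ (tA one_ne_zero s) * D.φ (xp t) * (D.ψ (tA one_ne_zero s))⁻¹) *
        (D.ψ (tA one_ne_zero s) * D.φ (xp u) * (D.ψ (tA one_ne_zero s))⁻¹) by group, ht, hu, mul_add, AddMemClass.coe_add,
      mul_add, neg_add, ← Pre.tA_add, map_mul, ← xp_add, map_mul]
  obtain ⟨W, hW⟩ : ∃ W, W = D.ph 1 (wS c.K) := ⟨_, rfl⟩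
  rw [← hW]
  have c1 : Commute (D.ph 1 (xp (c.N s * t))) (D.φ (xp u)) := (D.lng_all hg _ _).symm
  have c2 : Commute (W * D.ψ (tA zero_ne_one (-(c.σ s * t))) * W⁻¹) (D.φ (xp u)) := by
    have h1 : Commute W (D.φ (xp u)) := hW ▸ (D.lng_all hg _ _).symm
    exact (h1.mul_left (D.fx_all hg hb hω u _).symm).mul_left h1.inv_left
  have c3 : Commute (D.ph 1 (xp (c.N s * t))) (W * D.ψ (tA zero_ne_one (-(c.σ s * u))) * W⁻¹) := by
    rw [hW, D.sym_all hg hb hω]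
    have h1 : Commute (D.ph 1 (xp (c.N s * t))) (D.φ (wS c.K)) := (D.lng_all hg _ _).symm
    exact (h1.mul_right (D.fx_gen hg hb hω 1 0 one_ne_zero _ _)).mul_right h1.inv_right
  generalize D.φ (xp t) = P
  generalize D.φ (xp u) = P' at c1 c2 ⊢
  generalize D.ph 1 (xp (c.N s * t)) = Q at c1 c3 ⊢
  generalize D.ph 1 (xp (c.N s * u)) = Q'
  generalize hU : W * D.ψ (tA zero_ne_one (-(c.σ s * t))) * W⁻¹ = U at c2 ⊢
  generalize hU' : W * D.ψ (tA zero_ne_one (-(c.σ s * u))) * W⁻¹ = U' at c3 ⊢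
  calc P * U * Q * (P' * U' * Q') = P * U * (Q * P') * (U' * Q') := by simp only [mul_assoc]
    _ = P * (U * P') * (Q * U') * Q' := by rw [c1.eq]; simp only [mul_assoc]
    _ = P * (P' * U) * (U' * Q) * Q' := by rw [c2.eq, c3.eq]
    _ = _ := by
      rw [← hU, ← hU']
      group

include hb hg hω in
theorem formP'_add [Finite F] {s : F} {t u : c.K} (ht : D.FormP' s t) (hu : D.FormP' s u) :
    D.FormP' s (t + u) := by
  unfold FormP' at ht hu ⊢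
  rw [← xm_add, map_mul, show D.ψ (tA zero_ne_one (-c.σ s)) * (D.φ (xm t) * D.φ (xm u)) * (D.ψ (tA zero_ne_one (-c.σ s)))⁻¹ =
      (D.ψ (tA zero_ne_one (-c.σ s)) * D.φ (xm t) * (D.ψ (tA zero_ne_one (-c.σ s)))⁻¹) *
        (D.ψ (tA zero_ne_one (-c.σ s)) * D.φ (xm u) * (D.ψ (tA zero_ne_one (-c.σ s)))⁻¹) by group, ht, hu, mul_add,
      AddMemClass.coe_add, mul_add, ← Pre.tA_add, map_mul, ← xm_add, map_mul]
  obtain ⟨W, hW⟩ : ∃ W, W = D.ph 1 (wS c.K) := ⟨_, rfl⟩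
  rw [← hW]
  have c1 : Commute (D.ph 1 (xm (c.N s * t))) (D.φ (xm u)) := (D.lng_all hg _ _).symm
  have c2 : Commute (W⁻¹ * D.ψ (tA one_ne_zero (s * t)) * W) (D.φ (xm u)) := by
    have h1 : Commute W (D.φ (xm u)) := hW ▸ (D.lng_all hg _ _).symm
    exact (h1.inv_left.mul_left (D.fx'_all hg hb hω u _).symm).mul_left h1
  have c3 : Commute (D.ph 1 (xm (c.N s * t))) (W⁻¹ * D.ψ (tA one_ne_zero (s * u)) * W) := by
    rw [hW, D.sym_rev hg hb hω]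
    have h1 : Commute (D.ph 1 (xm (c.N s * t))) (D.φ (wS c.K)) := (D.lng_all hg _ _).symm
    exact (h1.inv_right.mul_right (D.fx'_gen hg hb hω 1 0 zero_ne_one _ _)).mul_right h1
  generalize D.φ (xm t) = P
  generalize D.φ (xm u) = P' at c1 c2 ⊢
  generalize D.ph 1 (xm (c.N s * t)) = Q at c1 c3 ⊢
  generalize D.ph 1 (xm (c.N s * u)) = Q'
  generalize hU : W⁻¹ * D.ψ (tA one_ne_zero (s * t)) * W = U at c2 ⊢
  generalize hU' : W⁻¹ * D.ψ (tA one_ne_zero (s * u)) * W = U' at c3 ⊢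
  calc P * U * Q * (P' * U' * Q') = P * U * (Q * P') * (U' * Q') := by simp only [mul_assoc]
    _ = P * (U * P') * (Q * U') * Q' := by rw [c1.eq]; simp only [mul_assoc]
    _ = P * (P' * U) * (U' * Q) * Q' := by rw [c2.eq, c3.eq]
    _ = _ := by
      rw [← hU, ← hU']
      group

include hb hg hω in
theorem formP_D [Finite F] {s : F} {t : c.K} (a : Fˣ) (h : D.FormP s t) :
    D.FormP ((a : F)⁻¹ * s * (a : F)⁻¹) (c.N (a : F) * t) := by
  unfold FormP at h ⊢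
  obtain ⟨C, hC⟩ : ∃ C : G →* G, C = (MulAut.conj (D.ψ (d01 k a))).toMonoidHom := ⟨_, rfl⟩
  have hCa : ∀ x, C x = D.ψ (d01 k a) * x * (D.ψ (d01 k a))⁻¹ := fun x => by rw [hC]; rfl
  have e := congrArg C h
  rw [map_mul, map_mul, map_inv, map_mul C, map_mul C, hCa (D.ψ _), D.D_tA10, hCa (D.φ _), D.torC_all hg hω, sc_xp,
    hCa (D.ph 1 (wS c.K) * _ * _), D.D_W hg hb hω, hCa (D.ph 1 (xp _)), D.torC_one hg hω, sc_xp] at e
  have hσ : c.σ (a : F) ≠ 0 := fun x => a.ne_zero ((map_eq_zero c.σ).1 x)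
  have e1 : (a : F) / c.σ (a : F) * -(c.σ s * (t : F)) =
      -(c.σ ((a : F)⁻¹ * s * (a : F)⁻¹) * ((c.N (a : F) * t : c.K) : F)) := by
    simp [map_inv₀, Conj.N_coe]
    field_simp
  have e2 : (Nu c a⁻¹ : c.K) * (c.N s * t) = c.N ((a : F)⁻¹ * s * (a : F)⁻¹) * (c.N (a : F) * t) := by
    apply Subtype.ext
    simp [Nu, Conj.N_coe, map_inv₀]
    field_simp
  rw [e1, e2] at e
  exact e

include hb hg hω in
theorem formP'_D [Finite F] {s : F} {t : c.K} (a : Fˣ) (h : D.FormP' s t) :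
    D.FormP' (c.σ a * s * c.σ a) ((c.N (a : F))⁻¹ * t) := by
  unfold FormP' at h ⊢
  obtain ⟨C, hC⟩ : ∃ C : G →* G, C = (MulAut.conj (D.ψ (d01 k a))).toMonoidHom := ⟨_, rfl⟩
  have hCa : ∀ x, C x = D.ψ (d01 k a) * x * (D.ψ (d01 k a))⁻¹ := fun x => by rw [hC]; rfl
  have e := congrArg C h
  rw [map_mul, map_mul, map_inv, map_mul C, map_mul C, hCa (D.ψ _), D.D_tA01, hCa (D.φ _), D.torC_all hg hω, sc_xm,
    hCa ((D.ph 1 (wS c.K))⁻¹ * _ * _), D.D_W' hg hb hω, hCa (D.ph 1 (xm _)), D.torC_one hg hω, sc_xm] at e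
  have hσ : c.σ (a : F) ≠ 0 := fun x => a.ne_zero ((map_eq_zero c.σ).1 x)
  rw [show (a : F) * -c.σ s * a = -c.σ (c.σ a * s * c.σ a) by rw [map_mul, map_mul, c.σσ]; ring] at e
  have e1 : c.σ (a : F) / (a : F) * (s * (t : F)) =
      c.σ (a : F) * s * c.σ (a : F) * (((c.N (a : F))⁻¹ * t : c.K) : F) := by
    simp [Conj.N_coe]
    field_simp
  have e2 : (Nu c a⁻¹ : c.K)⁻¹ * (c.N s * t) = c.N (c.σ (a : F) * s * c.σ (a : F)) * ((c.N (a : F))⁻¹ * t) := by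
    apply Subtype.ext
    simp [Nu, Conj.N_coe, map_inv₀, c.σσ]
    field_simp
  rw [e1, e2] at e
  exact e

include hb hg hω in
theorem formP_H [Finite F] {s : F} {t : c.K} {u : c.K} (hu : u ≠ 0) (h : D.FormP s t) :
    D.FormP s (u * t * u) := by
  unfold FormP at h ⊢
  obtain ⟨H, hH⟩ : ∃ H, H = D.φ (hd u hu) := ⟨_, rfl⟩
  obtain ⟨K, hK⟩ : ∃ K, K = D.ph 1 (hd u hu) := ⟨_, rfl⟩
  obtain ⟨C, hC⟩ : ∃ C : G →* G, C = (MulAut.conj (H * K)).toMonoidHom := ⟨_, rfl⟩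
  have hCa : ∀ x, C x = H * (K * x * K⁻¹) * H⁻¹ := fun x => by
    rw [hC]; show H * K * x * (H * K)⁻¹ = _; group
  have h10 : C (D.ψ (tA one_ne_zero s)) = D.ψ (tA one_ne_zero s) := by
    rw [hCa, hK, D.nrm_gen hg hb hω 1 0 one_ne_zero, hH, D.nrm'_all hg hω, ← mul_assoc,
      inv_mul_cancel₀ (c.coe_ne hu), one_mul]
  have hP : C (D.φ (xp t)) = D.φ (xp (u * t * u)) := by
    rw [hCa, hK, ← (D.lng_all hg (xp t) _).eq, mul_inv_cancel_right, hH, ← map_mul, hd_xp, map_mul,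
      mul_inv_cancel_right]
  have hQ : C (D.ph 1 (xp (c.N s * t))) = D.ph 1 (xp (c.N s * (u * t * u))) := by
    rw [hCa, hK, ← map_mul, hd_xp, map_mul, mul_inv_cancel_right, hH, (D.lng_all hg _ _).eq, mul_inv_cancel_right]
    congr 2; ring
  have hU : C (D.ph 1 (wS c.K) * D.ψ (tA zero_ne_one (-(c.σ s * t))) * (D.ph 1 (wS c.K))⁻¹) =
      D.ph 1 (wS c.K) * D.ψ (tA zero_ne_one (-(c.σ s * ((u * t * u : c.K) : F)))) * (D.ph 1 (wS c.K))⁻¹ := by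
    rw [hCa, hK, D.W_conj hg hb hω hu, hH,
      show ∀ (A W x : G), A * (W * x * W⁻¹) * A⁻¹ = (A * W) * x * (A * W)⁻¹ by intro A W x; group,
      (D.lng_all hg _ _).eq, show ∀ (A W x : G), W * A * x * (W * A)⁻¹ = W * (A * x * A⁻¹) * W⁻¹ by intro A W x; group,
      D.nrm_all hg hω]
    congr 4
    push_cast; ring
  have e := congrArg C h
  rw [map_mul, map_mul, map_inv, map_mul C, map_mul C, h10, hP, hU, hQ] at e
  exact e

include hb hg hω in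
theorem formP'_H [Finite F] {s : F} {t : c.K} {u : c.K} (hu : u ≠ 0) (h : D.FormP' s t) :
    D.FormP' s (u * t * u) := by
  unfold FormP' at h ⊢
  have hu' : u⁻¹ ≠ 0 := inv_ne_zero hu
  obtain ⟨H, hH⟩ : ∃ H, H = D.φ (hd u⁻¹ hu') := ⟨_, rfl⟩
  obtain ⟨K, hK⟩ : ∃ K, K = D.ph 1 (hd u⁻¹ hu') := ⟨_, rfl⟩
  obtain ⟨C, hC⟩ : ∃ C : G →* G, C = (MulAut.conj (H * K)).toMonoidHom := ⟨_, rfl⟩
  have hCa : ∀ x, C x = H * (K * x * K⁻¹) * H⁻¹ := fun x => by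
    rw [hC]; show H * K * x * (H * K)⁻¹ = _; group
  have h01 : C (D.ψ (tA zero_ne_one (-c.σ s))) = D.ψ (tA zero_ne_one (-c.σ s)) := by
    rw [hCa, hK, D.nrm'_gen hg hb hω 1 0 zero_ne_one, hH, D.nrm_all hg hω, ← mul_assoc]
    push_cast
    rw [inv_inv, inv_mul_cancel₀ (c.coe_ne hu), one_mul]
  have hP : C (D.φ (xm t)) = D.φ (xm (u * t * u)) := by
    rw [hCa, hK, ← (D.lng_all hg (xm t) _).eq, mul_inv_cancel_right, hH, ← map_mul, hd_xm, map_mul,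
      mul_inv_cancel_right, inv_inv]
  have hQ : C (D.ph 1 (xm (c.N s * t))) = D.ph 1 (xm (c.N s * (u * t * u))) := by
    rw [hCa, hK, ← map_mul, hd_xm, map_mul, mul_inv_cancel_right, hH, (D.lng_all hg _ _).eq, mul_inv_cancel_right,
      inv_inv]
    congr 2; ring
  have hU : C ((D.ph 1 (wS c.K))⁻¹ * D.ψ (tA one_ne_zero (s * t)) * D.ph 1 (wS c.K)) =
      (D.ph 1 (wS c.K))⁻¹ * D.ψ (tA one_ne_zero (s * ((u * t * u : c.K) : F))) * D.ph 1 (wS c.K) := by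
    rw [hCa, hK, D.W_conj' hg hb hω hu', hH,
      show ∀ (A W x : G), A * (W⁻¹ * x * W) * A⁻¹ = (A * W⁻¹) * x * (A * W⁻¹)⁻¹ by intro A W x; group,
      (D.lng_all hg (hd u⁻¹ hu') (wS c.K)).inv_right.eq,
      show ∀ (A W x : G), W⁻¹ * A * x * (W⁻¹ * A)⁻¹ = W⁻¹ * (A * x * A⁻¹) * W by intro A W x; group,
      D.nrm'_all hg hω]
    congr 4
    push_cast; rw [inv_inv]; ring
  have e := congrArg C h
  rw [map_mul, map_mul, map_inv, map_mul C, map_mul C, h01, hP, hU, hQ] at e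
  exact e

include hω in
theorem sq_or [Finite F] {s : F} (hs : s ≠ 0) :
    ∃ s₀ ∈ ({1, (ω : F)} : Set F), ∃ a : Fˣ, s = (a : F) * s₀ * a := by
  obtain ⟨n, hn⟩ := hω.unit_pow (Units.mk0 s hs)
  have hn' : (ω : F) ^ n = s := by rw [← Units.val_pow_eq_pow_val, hn, Units.val_mk0]
  rcases Nat.even_or_odd' n with ⟨j, rfl | rfl⟩
  · exact ⟨1, Or.inl rfl, ω ^ j, by rw [← hn', Units.val_pow_eq_pow_val]; ring⟩
  · exact ⟨(ω : F), Or.inr rfl, ω ^ j, by rw [← hn', Units.val_pow_eq_pow_val]; ring⟩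

include hb hg hω in
theorem form_all [Finite F] (s : F) (t : c.K) : D.FormP s t := by
  rcases eq_or_ne s 0 with rfl | hs
  · simp [FormP, tA_zero, xp_zero, Conj.N_zero]
  obtain ⟨s₀, hs₀, a, rfl⟩ := sq_or hω hs
  have h0 : D.FormP s₀ 1 := by
    unfold FormP
    rw [mul_one, OneMemClass.coe_one, mul_one]
    exact D.form s₀ hs₀
  obtain ⟨t₀, ht₀⟩ : ∃ t₀ : c.K, t₀ = c.N ((a⁻¹ : Fˣ) : F) * 1 := ⟨_, rfl⟩
  have h1 : D.FormP ((a : F) * s₀ * a) t₀ := by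
    have := D.formP_D hg hb hω a⁻¹ h0
    rwa [Units.val_inv_eq_inv_val, inv_inv, ← Units.val_inv_eq_inv_val, ← ht₀] at this
  have ht0 : t₀ ≠ 0 := by rw [ht₀, mul_one]; exact c.N_ne (a⁻¹).ne_zero
  suffices ∀ x : c.K, D.FormP ((a : F) * s₀ * a) (x * t₀) by
    have := this (t / t₀)
    rwa [div_mul_cancel₀ _ ht0] at this
  refine forall_of_sq (fun x y hx hy => by rw [add_mul]; exact D.formP_add hg hb hω hx hy) fun u => ?_
  rcases eq_or_ne u 0 with rfl | hu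
  · simp [FormP, tA_zero, xp_zero]
  · rw [show u * u * t₀ = u * t₀ * u by ring]; exact D.formP_H hg hb hω hu h1

include hb hg hω in
theorem form'_all [Finite F] (s : F) (t : c.K) : D.FormP' s t := by
  rcases eq_or_ne s 0 with rfl | hs
  · simp [FormP', tA_zero, xm_zero, Conj.N_zero]
  obtain ⟨s₀, hs₀, a, rfl⟩ := sq_or hω hs
  have h0 : D.FormP' s₀ 1 := by
    unfold FormP'
    rw [mul_one, OneMemClass.coe_one, mul_one]
    exact D.form' s₀ hs₀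
  obtain ⟨b', hb'⟩ : ∃ b' : Fˣ, (b' : F) = c.σ a := ⟨Units.mk0 _ (fun x => a.ne_zero ((map_eq_zero c.σ).1 x)), rfl⟩
  obtain ⟨t₀, ht₀⟩ : ∃ t₀ : c.K, t₀ = (c.N (b' : F))⁻¹ * 1 := ⟨_, rfl⟩
  have h1 : D.FormP' ((a : F) * s₀ * a) t₀ := by
    have := D.formP'_D hg hb hω b' h0
    rwa [← ht₀, hb', c.σσ] at this
  have ht0 : t₀ ≠ 0 := by rw [ht₀, mul_one]; exact inv_ne_zero (c.N_ne b'.ne_zero)
  suffices ∀ x : c.K, D.FormP' ((a : F) * s₀ * a) (x * t₀) by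
    have := this (t / t₀)
    rwa [div_mul_cancel₀ _ ht0] at this
  refine forall_of_sq (fun x y hx hy => by rw [add_mul]; exact D.formP'_add hg hb hω hx hy) fun u => ?_
  rcases eq_or_ne u 0 with rfl | hu
  · simp [FormP', tA_zero, xm_zero]
  · rw [show u * u * t₀ = u * t₀ * u by ring]; exact D.formP'_H hg hb hω hu h1

/-- all the relations -/
def toPre [Finite F] : Pre c (k + 2) G where
  ψ := D.ψ
  φ := D.ph
  fix := D.fix_gen hg hb hω
  long := D.long_gen hg hb hω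
  tor := D.tor_gen hg hb hω
  nrm := D.nrm_gen hg hb hω
  nrm' := D.nrm'_gen hg hb hω
  fx := D.fx_gen hg hb hω
  fx' := D.fx'_gen hg hb hω
  sym := D.sym_gen hg hb hω
  form i j h s t := by
    obtain ⟨σ, rfl, rfl⟩ := exists_perm_pair h
    have h1 := congrArg (D.cjm σ) (D.form_all hg hb hω (msgn F σ 1 * s) t)
    have e1 : msgn F σ 1 * (msgn F σ 1 * s) * msgn F σ 0 = s := by
      rw [msgn_zero, mul_one, ← mul_assoc, msgn_sq, one_mul]
    have e2 : msgn F σ 0 * -(c.σ (msgn F σ 1 * s) * (t : F)) * msgn F σ 1 = -(c.σ s * t) := by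
      rw [msgn_zero, map_mul, σ_msgn]; linear_combination (-(c.σ s * (t : F))) * msgn_sq (F := F) σ 1
    have e3 : c.N (msgn F σ 1 * s) * t = c.N s * t := by
      congr 1; apply Subtype.ext
      simp only [Conj.N_coe, map_mul, σ_msgn]
      linear_combination (s * c.σ s) * msgn_sq (F := F) σ 1
    simp only [map_mul (D.cjm σ), map_inv (D.cjm σ), ← D.ph_zero, D.cjm_ph hg hb hω, D.cjm_tA, e1, e2, e3] at h1
    exact h1
  form' i j h s t := by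
    obtain ⟨σ, rfl, rfl⟩ := exists_perm_pair h
    have h1 := congrArg (D.cjm σ) (D.form'_all hg hb hω (s * msgn F σ 1) t)
    have e1 : msgn F σ 0 * -c.σ (s * msgn F σ 1) * msgn F σ 1 = -c.σ s := by
      rw [msgn_zero, map_mul, σ_msgn]; linear_combination (-c.σ s) * msgn_sq (F := F) σ 1
    have e2 : msgn F σ 1 * (s * msgn F σ 1 * (t : F)) * msgn F σ 0 = s * t := by
      rw [msgn_zero]; linear_combination (s * (t : F)) * msgn_sq (F := F) σ 1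
    have e3 : c.N (s * msgn F σ 1) * t = c.N s * t := by
      congr 1; apply Subtype.ext
      simp only [Conj.N_coe, map_mul, σ_msgn]
      linear_combination (s * c.σ s) * msgn_sq (F := F) σ 1
    simp only [map_mul (D.cjm σ), map_inv (D.cjm σ), ← D.ph_zero, D.cjm_ph hg hb hω, D.cjm_tA, e1, e2, e3] at h1
    exact h1

end Glue

end CfsgLib.Known.SUEven
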