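import Cfsg.Agent.Lib.Known.SUEven.Canon
import Cfsg.Agent.Lib.Known.SpBounded.Check

/-!
# The unitary group satisfies the twenty relations
-/

set_option autoImplicit false

namespace CfsgLib.Known.SUEven

open Matrix (SpecialLinearGroup fromBlocks)
open CfsgLib.Known.SpBounded (tA mono msgn msgn_zero mono_single ev pad bs coe_bs smul_eq_mv xp xm hd wS xp_coe xm_coe
  hd_coe wS_coe mu mu_wS coe_mu col_of_smul mul_single00)

variable {F : Type*} [Field F] {c : Conj F} {m k : ℕ}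

theorem row_of_iot {B : SpecialLinearGroup (Fin (k + 1)) F} {j : Fin (k + 1)}
    (h : iot c _ B • ev k F = Pi.single j 1) (l : Fin (k + 1)) : B.1 j l = if l = 0 then 1 else 0 := by
  have h' : iot c _ B⁻¹ • (Pi.single j 1 : Fin (k + 1) → F) = ev k F := by rw [map_inv, ← h, inv_smul_smul]
  rw [← smul_eq_mv, coe_iot, inv_inv] at h'
  have := congrFun h' l
  rw [Matrix.mulVec_single_one] at this
  have h2 : c.σ (B.1 j l) = ev k F l := by simpa [Matrix.col, st_apply] using this
  rw [← c.σσ (B.1 j l), h2]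
  simp [ev, Pi.single_apply, apply_ite c.σ]

theorem conj_s2 {A : SpecialLinearGroup (Fin (k + 1)) F} {j : Fin (k + 1)}
    (h1 : A • ev k F = Pi.single j 1) (h2 : iot c _ A • ev k F = Pi.single j 1)
    (M : SpecialLinearGroup (Fin 2) c.K) : leviU c (k + 1) A * s2 c 0 M * (leviU c (k + 1) A)⁻¹ = s2 c j M := by
  rw [mul_inv_eq_iff_eq_mul]
  refine Subtype.ext ?_
  have c1 := col_of_smul h1
  have c2 := col_of_smul h2
  have r1 := row_of_iot h2
  have r2 : ∀ l, (iot c _ A).1 j l = if l = 0 then 1 else 0 := row_of_iot (c := c) (by rwa [iot_iot])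
  rw [Submonoid.coe_mul, Submonoid.coe_mul, coe_leviU, coe_s2, coe_s2, u2m, u2m]
  simp only [Matrix.fromBlocks_multiply, Matrix.mul_zero, Matrix.zero_mul, add_zero, zero_add, mul_add, add_mul,
    mul_one, one_mul]
  rw [mul_single00 c1 r1, mul_single00 c1 r2, mul_single00 c2 r1, mul_single00 c2 r2]

theorem s2_blk (M : SpecialLinearGroup (Fin 2) c.K) (B : SpecialLinearGroup (Fin k) F) :
    Commute (s2 c 0 M) (leviU c (k + 1) (bs k F B)) := by
  refine Subtype.ext ?_
  rw [Submonoid.coe_mul, Submonoid.coe_mul, coe_leviU, coe_s2, u2m, iot_bs, coe_bs, coe_bs]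
  have e : ∀ (x : F) (C D : Matrix (Fin k) (Fin k) F),
      pad 1 C * Matrix.single 0 0 x = Matrix.single 0 0 x * pad 1 D := fun x C D =>
    mul_single00 (fun l => by cases l using Fin.cases <;> simp [Fin.succ_ne_zero])
      (fun l => by cases l using Fin.cases <;> simp [Fin.succ_ne_zero]) x
  simp only [Matrix.fromBlocks_multiply, Matrix.mul_zero, Matrix.zero_mul, add_zero, zero_add, mul_add, add_mul,
    mul_one, one_mul]
  rw [e _ B.1 B.1, e _ B.1 (iot c _ B).1, e _ (iot c _ B).1 B.1, e _ (iot c _ B).1 (iot c _ B).1]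

theorem s2_lng {i j : Fin m} (h : i ≠ j) (M N : SpecialLinearGroup (Fin 2) c.K) :
    Commute (s2 c i M) (s2 c j N) := by
  refine Subtype.ext ?_
  rw [Submonoid.coe_mul, Submonoid.coe_mul, coe_s2, coe_s2]
  simp [u2m, Matrix.fromBlocks_multiply, add_mul, mul_add, Matrix.single_mul_single_of_ne, h, Ne.symm h]
  and_intros <;> abel

theorem s2_torC {i j : Fin m} (h : i ≠ j) (a : Fˣ) (M : SpecialLinearGroup (Fin 2) c.K) :
    leviU c m (SpecialLinearGroup.diag2n h (a : F) a.ne_zero) * s2 c i M *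
      (leviU c m (SpecialLinearGroup.diag2n h (a : F) a.ne_zero))⁻¹ = s2 c i (sc (Nu c a) M) := by
  rw [mul_inv_eq_iff_eq_mul]
  refine Subtype.ext ?_
  have hσ : c.σ (a : F) ≠ 0 := fun e => a.ne_zero ((map_eq_zero c.σ).1 e)
  rw [Submonoid.coe_mul, Submonoid.coe_mul, coe_leviU, coe_s2, coe_s2, iot_diag, SpecialLinearGroup.diag2n_coe,
    SpecialLinearGroup.diag2n_coe]
  simp only [u2m, emK_apply, sc_coe, Matrix.fromBlocks_multiply, Matrix.mul_zero, Matrix.zero_mul, add_zero,
    zero_add, Matrix.fromBlocks_inj]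
  refine ⟨?_, ?_, ?_, ?_⟩ <;> ext x y <;>
    rw [Matrix.diagonal_mul, Matrix.mul_diagonal] <;>
    by_cases hxy : x = y <;> by_cases hx : i = x <;> by_cases hy : i = y <;>
    simp [Nu, Conj.N_coe, Matrix.one_apply, Matrix.single, hxy, hx, hy] <;>
    (try subst hx) <;> (try subst hy) <;> (try subst hxy) <;> (try simp [h] at *) <;> (try simp [*]) <;> field_simp

theorem s2_tor {i j : Fin m} (h : i ≠ j) {a : c.K} (ha : a ≠ 0) :
    leviU c m (SpecialLinearGroup.diag2n h (a : F) (c.coe_ne ha)) =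
      s2 c i (hd a ha) * s2 c j (hd a⁻¹ (inv_ne_zero ha)) := by
  refine Subtype.ext ?_
  rw [Submonoid.coe_mul, coe_leviU, coe_s2, coe_s2, iot_diag, SpecialLinearGroup.diag2n_coe,
    SpecialLinearGroup.diag2n_coe, hd_coe, hd_coe]
  simp [u2m, emK_apply, c.fix, Matrix.fromBlocks_multiply, add_mul, mul_add, Matrix.single_mul_single_of_ne, h]
  ext x y
  rcases x with x | x <;> rcases y with y | y <;> by_cases hab : x = y <;> by_cases hi : x = i <;>
    by_cases hj : x = j <;>
    simp [Matrix.diagonal_apply, Matrix.one_apply, Matrix.single, hab, hi, hj, h, Ne.symm h, eq_comm] <;>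
    simp_all [eq_comm]

theorem s2_nrm {i j : Fin m} (h : i ≠ j) {a : c.K} (ha : a ≠ 0) (t : F) :
    s2 c i (hd a ha) * leviU c m (tA h t) * (s2 c i (hd a ha))⁻¹ = leviU c m (tA h ((a : F) * t)) := by
  rw [mul_inv_eq_iff_eq_mul]
  refine Subtype.ext ?_
  rw [Submonoid.coe_mul, Submonoid.coe_mul, coe_leviU, coe_leviU, coe_s2, iot_tr, iot_tr, hd_coe]
  simp [u2m, emK_apply, c.fix, SpecialLinearGroup.transvection_coe, Matrix.fromBlocks_multiply, add_mul, mul_add,
    Matrix.single_mul_single_of_ne, Matrix.single_mul_single_same, h, Ne.symm h]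
  have ha' : (a : F) ≠ 0 := c.coe_ne ha
  refine ⟨?_, ?_⟩ <;> ext x y <;>
    simp only [Matrix.add_apply, Matrix.neg_apply, Matrix.one_apply, Matrix.single, Matrix.of_apply] <;>
    split_ifs <;> first | ring1 | (field_simp; ring1) | simp_all

theorem s2_nrm' {i j : Fin m} (h : j ≠ i) {a : c.K} (ha : a ≠ 0) (t : F) :
    s2 c i (hd a ha) * leviU c m (tA h t) * (s2 c i (hd a ha))⁻¹ = leviU c m (tA h ((a : F)⁻¹ * t)) := by
  rw [mul_inv_eq_iff_eq_mul]
  refine Subtype.ext ?_
  rw [Submonoid.coe_mul, Submonoid.coe_mul, coe_leviU, coe_leviU, coe_s2, iot_tr, iot_tr, hd_coe]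
  simp [u2m, emK_apply, c.fix, SpecialLinearGroup.transvection_coe, Matrix.fromBlocks_multiply, add_mul, mul_add,
    Matrix.single_mul_single_of_ne, Matrix.single_mul_single_same, h, Ne.symm h]
  have ha' : (a : F) ≠ 0 := c.coe_ne ha
  refine ⟨?_, ?_⟩ <;> ext x y <;>
    simp only [Matrix.add_apply, Matrix.neg_apply, Matrix.one_apply, Matrix.single, Matrix.of_apply] <;>
    split_ifs <;> first | ring1 | (field_simp; ring1) | simp_all

theorem s2_fx {i j : Fin m} (h : i ≠ j) (s : c.K) (t : F) : Commute (s2 c i (xp s)) (leviU c m (tA h t)) := by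
  refine Subtype.ext ?_
  rw [Submonoid.coe_mul, Submonoid.coe_mul, coe_leviU, coe_s2, iot_tr, xp_coe]
  simp [u2m, emK_apply, SpecialLinearGroup.transvection_coe, Matrix.fromBlocks_multiply, add_mul, mul_add,
    Matrix.single_mul_single_of_ne, h, Ne.symm h, add_comm]

theorem s2_fx' {i j : Fin m} (h : j ≠ i) (s : c.K) (t : F) : Commute (s2 c i (xm s)) (leviU c m (tA h t)) := by
  refine Subtype.ext ?_
  rw [Submonoid.coe_mul, Submonoid.coe_mul, coe_leviU, coe_s2, iot_tr, xm_coe]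
  simp [u2m, emK_apply, SpecialLinearGroup.transvection_coe, Matrix.fromBlocks_multiply, add_mul, mul_add,
    Matrix.single_mul_single_of_ne, h, Ne.symm h, add_comm]

theorem s2_root {i j : Fin m} (h : i ≠ j) (t : F) :
    ((s2 c j (wS c.K) * leviU c m (tA h t) * (s2 c j (wS c.K))⁻¹ : UJ c m) :
      Matrix (Fin m ⊕ Fin m) (Fin m ⊕ Fin m) F) = fromBlocks 1 (Hm c i j (-t)) 0 1 := by
  rw [← map_inv, Submonoid.coe_mul, Submonoid.coe_mul, coe_s2, coe_s2, coe_leviU, ← mu_wS, coe_mu, iot_tr c h]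
  simp only [SpecialLinearGroup.transvection_coe, wS_coe, u2m, emK_apply, Matrix.fromBlocks_multiply,
    Matrix.fromBlocks_inj]
  have hji : j ≠ i := Ne.symm h
  simp [Hm, h, hji, add_mul, mul_add, Matrix.single_mul_single_same, Matrix.single_mul_single_of_ne,
    ← Matrix.single_add]
  refine ⟨?_, ?_, ?_⟩ <;> ext x y <;>
    simp only [Matrix.add_apply, Matrix.one_apply, Matrix.single, Matrix.of_apply] <;>
    split_ifs <;> first | ring1 | simp_all

theorem tau_s2 (i : Fin m) (M : SpecialLinearGroup (Fin 2) c.K) : tau c m (s2 c i M) = s2 c i (mu c.K M) := by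
  refine Subtype.ext ?_
  simp only [coe_tau, coe_s2, u2m, tau_fromBlocks, coe_mu, emK_apply]
  simp

theorem tau_leviU (A : SpecialLinearGroup (Fin m) F) : tau c m (leviU c m A) = leviU c m (iot c _ A) := by
  refine Subtype.ext ?_
  simp only [coe_tau, coe_leviU, tau_fromBlocks, iot_iot]

theorem s2_root' {i j : Fin m} (h : j ≠ i) (t : F) :
    (((s2 c j (wS c.K))⁻¹ * leviU c m (tA h t) * s2 c j (wS c.K) : UJ c m) :
      Matrix (Fin m ⊕ Fin m) (Fin m ⊕ Fin m) F) = fromBlocks 1 0 (Hm c i j (c.σ t)) 1 := by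
  have e : (s2 c j (wS c.K))⁻¹ * leviU c m (tA h t) * s2 c j (wS c.K) =
      tau c m (s2 c j (wS c.K) * leviU c m (tA h.symm (-c.σ t)) * (s2 c j (wS c.K))⁻¹) := by
    rw [map_mul, map_mul, map_inv, tau_s2, tau_leviU, mu_wS, map_inv, iot_tr, map_neg, neg_neg, c.σσ, inv_inv]
  rw [e, coe_tau, s2_root, tau_fromBlocks, neg_neg]

theorem s2_sym {i j : Fin m} (h : i ≠ j) (t : F) :
    s2 c j (wS c.K) * leviU c m (tA h t) * (s2 c j (wS c.K))⁻¹ =
      s2 c i (wS c.K) * leviU c m (tA h.symm (c.σ t)) * (s2 c i (wS c.K))⁻¹ :=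
  Subtype.ext (by rw [s2_root, s2_root, Hm_comm h, map_neg])

theorem s2_form {i j : Fin m} (h : i ≠ j) (s : F) :
    leviU c m (tA h.symm s) * s2 c i (xp 1) * (leviU c m (tA h.symm s))⁻¹ =
      s2 c i (xp 1) * (s2 c j (wS c.K) * leviU c m (tA h (-c.σ s)) * (s2 c j (wS c.K))⁻¹) * s2 c j (xp (c.N s)) := by
  rw [mul_inv_eq_iff_eq_mul]
  refine Subtype.ext ?_
  rw [Submonoid.coe_mul, Submonoid.coe_mul, Submonoid.coe_mul, Submonoid.coe_mul, s2_root, coe_leviU, coe_s2,
    coe_s2, iot_tr, xp_coe, xp_coe]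
  simp [u2m, emK_apply, Hm, Conj.N_coe, c.σσ, SpecialLinearGroup.transvection_coe, Matrix.fromBlocks_multiply,
    add_mul, mul_add, Matrix.single_mul_single_same, Matrix.single_mul_single_of_ne, h, Ne.symm h]
  ext x y
  simp only [Matrix.add_apply, Matrix.neg_apply, Matrix.one_apply, Matrix.single, Matrix.of_apply] <;>
    split_ifs <;> first | ring1 | simp_all

theorem s2_form' {i j : Fin m} (h : i ≠ j) (s : F) :
    leviU c m (tA h (-c.σ s)) * s2 c i (xm 1) * (leviU c m (tA h (-c.σ s)))⁻¹ =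
      s2 c i (xm 1) * ((s2 c j (wS c.K))⁻¹ * leviU c m (tA h.symm s) * s2 c j (wS c.K)) * s2 c j (xm (c.N s)) := by
  rw [mul_inv_eq_iff_eq_mul]
  refine Subtype.ext ?_
  rw [Submonoid.coe_mul, Submonoid.coe_mul, Submonoid.coe_mul, Submonoid.coe_mul, s2_root', coe_leviU, coe_s2,
    coe_s2, iot_tr, xm_coe, xm_coe]
  simp [u2m, emK_apply, Hm, Conj.N_coe, c.σσ, SpecialLinearGroup.transvection_coe, Matrix.fromBlocks_multiply,
    add_mul, mul_add, Matrix.single_mul_single_same, Matrix.single_mul_single_of_ne, h, Ne.symm h]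
  ext x y
  simp only [Matrix.add_apply, Matrix.neg_apply, Matrix.one_apply, Matrix.single, Matrix.of_apply] <;>
    split_ifs <;> first | ring1 | simp_all

theorem phOf_levi (j : Fin (k + 2)) (M : SpecialLinearGroup (Fin 2) c.K) :
    phOf (leviU c (k + 2)) (s2 c 0) j M = s2 c j M := by
  refine conj_s2 ?_ ?_ M
  · rw [ev, mono_single, Equiv.swap_apply_left, msgn_zero, mul_one]
  · rw [ev, iot_mono_single, Equiv.swap_apply_left, msgn_zero, mul_one]

/-- the unitary group with the twenty relations -/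
noncomputable def glueU (c : Conj F) (k : ℕ) (g : Fin 2 → SpecialLinearGroup (Fin 2) c.K)
    (b : Fin 2 → SpecialLinearGroup (Fin (k + 1)) F) (ω : Fˣ) :
    Glue c k g b ω (UJ c (k + 2)) where
  ψ := leviU c (k + 2)
  φ := s2 c 0
  blk _ _ := s2_blk _ _
  lng a e := by rw [phOf_levi]; exact s2_lng zero_ne_one _ _
  torC _ := s2_torC zero_ne_one _ _
  tor := by rw [phOf_levi]; exact s2_tor zero_ne_one _
  nrm := by
    have e := s2_nrm (zero_ne_one (α := Fin (k + 2))) (Nu c ω).ne_zero (1 : F)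
    rwa [mul_one] at e
  nrm' := by
    have e := s2_nrm' (one_ne_zero (α := Fin (k + 2))) (Nu c ω).ne_zero (1 : F)
    rwa [mul_one] at e
  fx := s2_fx _ _ _
  fx' := s2_fx' _ _ _
  sym := by
    rw [phOf_levi]
    have e := s2_sym (c := c) (zero_ne_one (α := Fin (k + 2))) (1 : F)
    rwa [map_one] at e
  form s _ := by rw [phOf_levi, phOf_levi]; exact s2_form zero_ne_one s
  form' s _ := by rw [phOf_levi, phOf_levi]; exact s2_form' zero_ne_one s

end CfsgLib.Known.SUEven
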