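import Cfsg.Agent.Lib.Known.SUEven.Pres

/-!
# Eleven relations suffice in degree four
-/

set_option autoImplicit false

namespace CfsgLib.Known.SUEven

open Matrix (SpecialLinearGroup)
open CfsgLib.Known.SpBounded (tA mono msgn msgn_zero mono_tA mono_smul bs xp xm hd wS xp_coe xm_coe wS_coe
  tA_zero diag_tA01 diag_tA10 diag_eq_one forall_of_sq hd_inv wS_sq hd_eq_one)

variable {F : Type*} [Field F] {c : Conj F} {G : Type*} [Group G]

/-- the eleven relations -/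
structure Four (c : Conj F) (g : Fin 2 → SpecialLinearGroup (Fin 2) c.K) (ω : Fˣ) (G : Type*) [Group G] where
  ψ : SpecialLinearGroup (Fin (0 + 2)) F →* G
  φ : SpecialLinearGroup (Fin 2) c.K →* G
  lng00 : Commute (φ (g 0)) (phOf ψ φ 1 (g 0))
  lng01 : Commute (φ (g 0)) (phOf ψ φ 1 (g 1))
  lng11 : Commute (φ (g 1)) (phOf ψ φ 1 (g 1))
  torC : ∀ a, ψ (d01 0 ω) * φ (g a) * (ψ (d01 0 ω))⁻¹ = φ (sc (Nu c ω) (g a))
  tor : ψ (SpecialLinearGroup.diag2n (zero_ne_one (α := Fin (0 + 2))) ((Nu c ω : c.K) : F)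
      (c.coe_ne (Nu c ω).ne_zero)) =
    φ (hd (Nu c ω : c.K) (Nu c ω).ne_zero) * phOf ψ φ 1 (hd (Nu c ω : c.K)⁻¹ (inv_ne_zero (Nu c ω).ne_zero))
  nrm : φ (hd (Nu c ω : c.K) (Nu c ω).ne_zero) * ψ (tA (zero_ne_one (α := Fin (0 + 2))) (1 : F)) *
    (φ (hd (Nu c ω : c.K) (Nu c ω).ne_zero))⁻¹ = ψ (tA zero_ne_one ((Nu c ω : c.K) : F))
  fx : Commute (φ (xp 1)) (ψ (tA (zero_ne_one (α := Fin (0 + 2))) 1))
  sym : phOf ψ φ 1 (wS c.K) * ψ (tA (zero_ne_one (α := Fin (0 + 2))) 1) * (phOf ψ φ 1 (wS c.K))⁻¹ =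
    φ (wS c.K) * ψ (tA one_ne_zero 1) * (φ (wS c.K))⁻¹
  form : ∀ s ∈ ({1, (ω : F)} : Set F),
    ψ (tA (one_ne_zero (α := Fin (0 + 2))) s) * φ (xp 1) * (ψ (tA one_ne_zero s))⁻¹ =
      φ (xp 1) * (phOf ψ φ 1 (wS c.K) * ψ (tA zero_ne_one (-(c.σ s))) * (phOf ψ φ 1 (wS c.K))⁻¹) *
        phOf ψ φ 1 (xp (c.N s))

theorem wS_xp {K : Type*} [Field K] (t : K) : wS K * xp t * (wS K)⁻¹ = xm (-t) := by
  rw [mul_inv_eq_iff_eq_mul]
  refine Subtype.ext ?_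
  rw [Matrix.SpecialLinearGroup.coe_mul, Matrix.SpecialLinearGroup.coe_mul, wS_coe, xp_coe, xm_coe]
  ext i j
  fin_cases i <;> fin_cases j <;> simp [Matrix.mul_apply, Fin.sum_univ_two]

theorem mono_swap_sq : mono F (Equiv.swap (0 : Fin (0 + 2)) 1) * mono F (Equiv.swap 0 1) = d01 0 (-1 : Fˣ) := by
  refine CfsgLib.Classical.sl_ext_smul fun x => funext fun l => ?_
  have h : ∀ (y : Fin (0 + 2) → F) (l : Fin (0 + 2)), (mono F (Equiv.swap 0 1) • y) (Equiv.swap 0 1 l) =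
      msgn F (Equiv.swap 0 1) l * y l := fun y l => mono_smul _ y l
  obtain ⟨l', rfl⟩ := (Equiv.swap (0 : Fin (0 + 2)) 1).surjective l
  obtain ⟨l'', rfl⟩ := (Equiv.swap (0 : Fin (0 + 2)) 1).surjective l'
  rw [mul_smul, h, h, d01, CfsgLib.Classical.diag2n_smul_apply]
  fin_cases l'' <;> simp [msgn]

namespace Four

variable {g : Fin 2 → SpecialLinearGroup (Fin 2) c.K} {ω : Fˣ} (D : Four c g ω G)

/-- the element moving the first coordinate to the second -/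
def C : G := D.ψ (mono F (Equiv.swap 0 1))

theorem phOf_eq (M : SpecialLinearGroup (Fin 2) c.K) : phOf D.ψ D.φ 1 M = D.C * D.φ M * D.C⁻¹ := rfl

variable (hg : Subgroup.closure (Set.range g) = ⊤) (hω : Gen c ω)

include hg hω in
theorem C_sq [Finite F] (M : SpecialLinearGroup (Fin 2) c.K) : D.C * D.C * D.φ M * (D.C * D.C)⁻¹ = D.φ M := by
  have h1 : (MulAut.conj (D.ψ (d01 0 ω))).toMonoidHom.comp D.φ = D.φ.comp (sc (Nu c ω)) :=
    MonoidHom.eq_of_eqOn_dense hg (by rintro _ ⟨a, rfl⟩; exact D.torC a)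
  have h2 : ∀ (n : ℕ) M, D.ψ (d01 0 (ω ^ n)) * D.φ M * (D.ψ (d01 0 (ω ^ n)))⁻¹ = D.φ (sc (Nu c (ω ^ n)) M) := by
    intro n
    induction n with
    | zero => intro M; rw [pow_zero, d01_one, Nu_one, sc_one, map_one, one_mul, inv_one, mul_one]
    | succ n ih =>
      intro M
      have h3 : D.ψ (d01 0 ω) * D.φ M * (D.ψ (d01 0 ω))⁻¹ = D.φ (sc (Nu c ω) M) := DFunLike.congr_fun h1 M
      rw [pow_succ, Nu_mul, d01_mul, sc_mul, map_mul, ← ih, ← h3]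
      group
  obtain ⟨n, hn⟩ := hω.unit_pow (-1)
  have hN : Nu c (-1 : Fˣ) = 1 := Units.ext (Subtype.ext (by simp [Nu, Conj.N_coe]))
  rw [C, ← map_mul, mono_swap_sq, ← hn, h2, hn, hN, sc_one]

theorem blk_triv (b : Fin 2 → SpecialLinearGroup (Fin (0 + 1)) F) (e : Fin 2) : bs (0 + 1) F (b e) = 1 := by
  have : b e = 1 := Subtype.ext (Matrix.ext fun i j => by
    obtain rfl : i = 0 := Fin.ext (by omega)
    obtain rfl : j = 0 := Fin.ext (by omega)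
    exact (Matrix.det_fin_one (b e).1).symm.trans (b e).2)
  rw [this, map_one]

include hg hω in
theorem lng_gens [Finite F] (a e : Fin 2) : Commute (D.φ (g a)) (phOf D.ψ D.φ 1 (g e)) := by
  fin_cases a <;> fin_cases e
  · exact D.lng00
  · exact D.lng01
  · have h := (D.lng01.map (MulAut.conj D.C).toMonoidHom)
    simp only [MulEquiv.coe_toMonoidHom, MulAut.conj_apply, phOf_eq] at h ⊢
    rw [show D.C * (D.C * D.φ (g 1) * D.C⁻¹) * D.C⁻¹ = D.C * D.C * D.φ (g 1) * (D.C * D.C)⁻¹ by group,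
      D.C_sq hg hω] at h
    exact h.symm
  · exact D.lng11

include hg hω in
theorem lng_comm [Finite F] (M N : SpecialLinearGroup (Fin 2) c.K) : Commute (D.φ M) (phOf D.ψ D.φ 1 N) :=
  SpBounded.commute_of_closure hg hg D.φ (phOf D.ψ D.φ 1) (by
    rintro _ ⟨a, rfl⟩ _ ⟨e, rfl⟩
    exact D.lng_gens hg hω a e) M N

theorem nrm' : D.φ (hd (Nu c ω : c.K) (Nu c ω).ne_zero) *
    D.ψ (tA (one_ne_zero (α := Fin (0 + 2))) (1 : F)) * (D.φ (hd (Nu c ω : c.K) (Nu c ω).ne_zero))⁻¹ =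
      D.ψ (tA one_ne_zero ((Nu c ω : c.K) : F)⁻¹) := by
  obtain ⟨ν, hν⟩ : ∃ ν : c.K, ν = (Nu c ω : c.K) := ⟨_, rfl⟩
  have hν0 : ν ≠ 0 := hν ▸ (Nu c ω).ne_zero
  have hmove : ∀ x : F, D.C * D.ψ (tA (zero_ne_one (α := Fin (0 + 2))) x) * D.C⁻¹ =
      D.ψ (tA one_ne_zero (-x)) := fun x => by
    rw [C, ← map_mul, mono_tA, map_mul, mul_inv_cancel_right]
    congr 2
    simp [msgn]
  have h1 := congrArg (fun x => D.C * x * D.C⁻¹) D.nrm
  simp only [← hν] at h1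
  rw [show D.C * (D.φ (hd ν hν0) * D.ψ (tA zero_ne_one 1) * (D.φ (hd ν hν0))⁻¹) * D.C⁻¹ =
    (D.C * D.φ (hd ν hν0) * D.C⁻¹) * (D.C * D.ψ (tA zero_ne_one 1) * D.C⁻¹) * (D.C * D.φ (hd ν hν0) * D.C⁻¹)⁻¹
    by group, hmove, hmove, ← phOf_eq] at h1
  have h2 := congrArg (fun x => x⁻¹) h1
  have hinv : ∀ x : F, (D.ψ (tA (one_ne_zero (α := Fin (0 + 2))) (-x)))⁻¹ = D.ψ (tA one_ne_zero x) := fun x => by
    rw [inv_eq_of_mul_eq_one_right]
    rw [← map_mul, Pre.tA_add, neg_add_cancel, tA_zero, map_one]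
  simp only [hinv, _root_.mul_inv_rev, inv_inv, ← mul_assoc] at h2
  have ht := D.tor
  simp only [← hν] at ht ⊢
  obtain ⟨P, hP⟩ : ∃ P, P = D.ψ (SpecialLinearGroup.diag2n (zero_ne_one (α := Fin (0 + 2))) (ν : F) (c.coe_ne hν0)) :=
    ⟨_, rfl⟩
  have hφ : D.φ (hd ν hν0) = P * phOf D.ψ D.φ 1 (hd ν hν0) := by
    rw [hP, ht, mul_assoc, ← map_mul, ← hd_inv hν0, inv_mul_cancel, map_one, mul_one]
  rw [hφ, show P * phOf D.ψ D.φ 1 (hd ν hν0) * D.ψ (tA one_ne_zero 1) * (P * phOf D.ψ D.φ 1 (hd ν hν0))⁻¹ =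
    P * (phOf D.ψ D.φ 1 (hd ν hν0) * D.ψ (tA one_ne_zero 1) * (phOf D.ψ D.φ 1 (hd ν hν0))⁻¹) * P⁻¹ by group, h2,
    hP, ← map_mul, diag_tA10, map_mul, mul_inv_cancel_right]
  congr 2
  have : (ν : F) ≠ 0 := c.coe_ne hν0
  field_simp

/-- the relations proved so far -/
noncomputable def core [Finite F] (b : Fin 2 → SpecialLinearGroup (Fin (0 + 1)) F) : Core c 0 g b ω G where
  ψ := D.ψ
  φ := D.φ
  blk a e := by rw [blk_triv b e, map_one]; exact Commute.one_right _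
  lng := D.lng_gens hg hω
  torC := D.torC
  tor := D.tor
  nrm := D.nrm
  nrm' := D.nrm'
  fx := D.fx
  sym := D.sym
  form := D.form

include hg hω in
/-- eleven relations give all twenty -/
theorem exists_glue [Finite F] (b : Fin 2 → SpecialLinearGroup (Fin (0 + 1)) F)
    (hb : Subgroup.closure (Set.range b) = ⊤) : ∃ E : Glue c 0 g b ω G, E.ψ = D.ψ ∧ E.φ = D.φ := by
  obtain ⟨E, hE⟩ : ∃ E, E = D.core hg hω b := ⟨_, rfl⟩
  obtain ⟨A, hA⟩ : ∃ A, A = E.φ (wS c.K) := ⟨_, rfl⟩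
  obtain ⟨B, hB⟩ : ∃ B, B = E.ph 1 (wS c.K) := ⟨_, rfl⟩
  have hAB : Commute A B := by rw [hA, hB]; exact E.lng_all hg _ _
  have hm1 : (-1 : c.K) ≠ 0 := neg_ne_zero.2 one_ne_zero
  have hA2 : A * A = E.φ (hd (-1) hm1) := by rw [hA, ← map_mul, wS_sq]
  -- the long element acts on the block
  have h01 : A * B * E.ψ (tA zero_ne_one 1) * (A * B)⁻¹ = E.ψ (tA one_ne_zero (-1)) := by
    have hs : B * E.ψ (tA zero_ne_one 1) * B⁻¹ = A * E.ψ (tA one_ne_zero 1) * A⁻¹ := by rw [hA, hB]; exact E.sym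
    rw [show A * B * E.ψ (tA zero_ne_one 1) * (A * B)⁻¹ = A * (B * E.ψ (tA zero_ne_one 1) * B⁻¹) * A⁻¹ by group, hs,
      show A * (A * E.ψ (tA one_ne_zero 1) * A⁻¹) * A⁻¹ = (A * A) * E.ψ (tA one_ne_zero 1) * (A * A)⁻¹ by group, hA2,
      E.nrm'_all hg hω hm1]
    congr 2
    push_cast
    rw [inv_neg, inv_one, mul_one]
  have hW : ∀ t : F, A * B * E.ψ (tA zero_ne_one t) * (A * B)⁻¹ = E.ψ (tA one_ne_zero (-c.σ t)) := by
    refine forall_of_sq (fun s t hs ht => ?_) fun a => ?_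
    · rw [map_add, neg_add, ← Pre.tA_add, ← Pre.tA_add, map_mul, map_mul, ← hs, ← ht]; group
    rcases eq_or_ne a 0 with rfl | ha
    · rw [mul_zero, map_zero, neg_zero, tA_zero, tA_zero, map_one, mul_one, mul_inv_cancel]
    obtain ⟨T, hT⟩ : ∃ T, T = E.ψ (d01 0 (Units.mk0 a ha)) := ⟨_, rfl⟩
    obtain ⟨n, hn⟩ : ∃ n, n = (Nu c (Units.mk0 a ha) : c.K) := ⟨_, rfl⟩
    have hn0 : n ≠ 0 := hn ▸ (Nu c _).ne_zero
    obtain ⟨P, hP⟩ : ∃ P, P = E.ψ (SpecialLinearGroup.diag2n (zero_ne_one (α := Fin (0 + 2))) (n : F) (c.coe_ne hn0)) :=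
      ⟨_, rfl⟩
    have hTW : T * (A * B) * T⁻¹ = P * (A * B) := by
      rw [hA, hB, show T * (E.φ (wS c.K) * E.ph 1 (wS c.K)) * T⁻¹ =
        (T * E.φ (wS c.K) * T⁻¹) * (T * E.ph 1 (wS c.K) * T⁻¹) by group, hT, E.torC_all hg hω, E.torC_one hg hω,
        sc_wS, sc_wS, map_mul, map_mul, hP, E.tor_all hg hω hn0]
      have e1 : (Nu c (Units.mk0 a ha)⁻¹ : c.K) = n⁻¹ := by
        apply Subtype.ext
        rw [hn]
        simp [Nu, Conj.N_coe, map_inv₀, mul_comm]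
      simp only [e1, ← hn]
      have hc := E.lng_all hg (wS c.K) (hd n⁻¹ (inv_ne_zero hn0))
      rw [mul_assoc (E.φ (hd n hn0)), ← mul_assoc (E.φ (wS c.K)), hc.eq]
      simp only [mul_assoc]
    have e := congrArg (fun x => T * x * T⁻¹) h01
    rw [show T * (A * B * E.ψ (tA zero_ne_one 1) * (A * B)⁻¹) * T⁻¹ =
      (T * (A * B) * T⁻¹) * (T * E.ψ (tA zero_ne_one 1) * T⁻¹) * (T * (A * B) * T⁻¹)⁻¹ by group, hTW, hT, E.D_tA01,
      E.D_tA10, Units.val_mk0, mul_one] at e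
    have e' := congrArg (fun x => P⁻¹ * x * P) e
    rw [show P⁻¹ * (P * (A * B) * E.ψ (tA zero_ne_one (a * a)) * (P * (A * B))⁻¹) * P =
      A * B * E.ψ (tA zero_ne_one (a * a)) * (A * B)⁻¹ by group] at e'
    rw [e', mul_assoc, inv_mul_eq_iff_eq_mul, hP, ← map_mul, ← map_mul, diag_tA10]
    congr 3
    rw [hn]
    have hσ : c.σ a ≠ 0 := fun h => ha ((map_eq_zero c.σ).1 h)
    simp [Nu, Conj.N_coe]
    field_simp
  have hW' : ∀ s : F, A * B * E.ψ (tA one_ne_zero s) * (A * B)⁻¹ = E.ψ (tA zero_ne_one (-c.σ s)) := by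
    intro s
    have e := hW (-c.σ s)
    rw [map_neg, c.σσ, neg_neg] at e
    rw [← e]
    have e2 : A * B * (A * B) = E.ψ (SpecialLinearGroup.diag2n (zero_ne_one (α := Fin (0 + 2))) ((-1 : c.K) : F)
        (c.coe_ne hm1)) := by
      rw [E.tor_all hg hω hm1, show A * B * (A * B) = (A * A) * (B * B) by
        rw [mul_assoc A B, ← mul_assoc B A B, ← hAB.eq]; simp only [mul_assoc], hA2, hB, ← map_mul, wS_sq]
      simp only [inv_neg, inv_one]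
    rw [show A * B * (A * B * E.ψ (tA zero_ne_one (-c.σ s)) * (A * B)⁻¹) * (A * B)⁻¹ =
      (A * B * (A * B)) * E.ψ (tA zero_ne_one (-c.σ s)) * (A * B * (A * B))⁻¹ by group, e2, ← map_mul, diag_tA01,
      map_mul, mul_inv_cancel_right]
    congr 2
    push_cast
    ring
  have hxp : ∀ t : c.K, A * B * E.φ (xp t) * (A * B)⁻¹ = E.φ (xm (-t)) := fun t => by
    rw [show A * B * E.φ (xp t) * (A * B)⁻¹ = A * (B * E.φ (xp t) * B⁻¹) * A⁻¹ by group, hB,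
      ← (E.lng_all hg (xp t) _).eq, mul_inv_cancel_right, hA, ← map_inv, ← map_mul, ← map_mul, wS_xp]
  have hxp1 : ∀ t : c.K, A * B * E.ph 1 (xp t) * (A * B)⁻¹ = E.ph 1 (xm (-t)) := fun t => by
    rw [show A * B * E.ph 1 (xp t) * (A * B)⁻¹ = A * (B * E.ph 1 (xp t) * B⁻¹) * A⁻¹ by group, hB, ← map_inv,
      ← map_mul, ← map_mul, wS_xp, hA, (E.lng_all hg (wS c.K) _).eq, mul_inv_cancel_right]
  have hfx' : ∀ (t : c.K) (s : F), Commute (E.φ (xm (-t))) (E.ψ (tA one_ne_zero (-c.σ s))) := fun t s => by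
    have h := (E.fx_all hg hb hω t s).map (MulAut.conj (A * B)).toMonoidHom
    simp only [MulEquiv.coe_toMonoidHom, MulAut.conj_apply] at h
    rwa [hxp, hW] at h
  have hfx'' : ∀ (t : c.K) (s : F), Commute (E.φ (xm t)) (E.ψ (tA one_ne_zero s)) := fun t s => by
    have h := hfx' (-t) (-c.σ s)
    rwa [neg_neg, map_neg, c.σσ, neg_neg] at h
  have hform' : ∀ s ∈ ({1, (ω : F)} : Set F),
      E.ψ (tA zero_ne_one (-c.σ s)) * E.φ (xm 1) * (E.ψ (tA zero_ne_one (-c.σ s)))⁻¹ =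
        E.φ (xm 1) * (B⁻¹ * E.ψ (tA one_ne_zero s) * B) * E.ph 1 (xm (c.N s)) := by
    intro s hs
    have e := congrArg (fun x => A * B * x * (A * B)⁻¹) (show E.ψ (tA one_ne_zero s) * E.φ (xp 1) *
        (E.ψ (tA one_ne_zero s))⁻¹ = E.φ (xp 1) * (B * E.ψ (tA zero_ne_one (-(c.σ s))) * B⁻¹) * E.ph 1 (xp (c.N s))
      by rw [hB]; exact E.form s hs)
    obtain ⟨W, hWd⟩ : ∃ W, W = A * B := ⟨_, rfl⟩
    have hWB : W * B = B * W := by rw [hWd, mul_assoc, ← mul_assoc B A B, ← hAB.eq, mul_assoc]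
    simp only [← hWd] at e hW hW' hxp hxp1
    rw [show W * (E.ψ (tA one_ne_zero s) * E.φ (xp 1) * (E.ψ (tA one_ne_zero s))⁻¹) * W⁻¹ =
      (W * E.ψ (tA one_ne_zero s) * W⁻¹) * (W * E.φ (xp 1) * W⁻¹) * (W * E.ψ (tA one_ne_zero s) * W⁻¹)⁻¹ by group,
      show W * (E.φ (xp 1) * (B * E.ψ (tA zero_ne_one (-(c.σ s))) * B⁻¹) * E.ph 1 (xp (c.N s))) * W⁻¹ =
      (W * E.φ (xp 1) * W⁻¹) * ((W * B) * E.ψ (tA zero_ne_one (-(c.σ s))) * (W * B)⁻¹) *
        (W * E.ph 1 (xp (c.N s)) * W⁻¹) by group, hWB,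
      show (B * W) * E.ψ (tA zero_ne_one (-(c.σ s))) * (B * W)⁻¹ =
        B * (W * E.ψ (tA zero_ne_one (-(c.σ s))) * W⁻¹) * B⁻¹ by group, hW', hxp, hxp1, hW, map_neg, c.σσ, neg_neg]
      at e
    -- `B⁻¹` and `B` act on the block in opposite ways
    have hflip : B⁻¹ * E.ψ (tA one_ne_zero s) * B = (B * E.ψ (tA one_ne_zero s) * B⁻¹)⁻¹ := by
      have h2 : (B * B) * E.ψ (tA one_ne_zero (-s)) * (B * B)⁻¹ = E.ψ (tA one_ne_zero s) := by
        rw [hB, ← map_mul, wS_sq, E.nrm_gen hg hb hω 1 0 one_ne_zero]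
        congr 2
        push_cast
        ring
      have hneg : E.ψ (tA (one_ne_zero (α := Fin (0 + 2))) (-s)) = (E.ψ (tA one_ne_zero s))⁻¹ :=
        eq_inv_of_mul_eq_one_left (by rw [← map_mul, Pre.tA_add, neg_add_cancel, tA_zero, map_one])
      rw [hneg] at h2
      conv_lhs => rw [← h2]
      group
    have hxinv : ∀ t : c.K, (E.φ (xm (-t)))⁻¹ = E.φ (xm t) := fun t => by
      rw [inv_eq_of_mul_eq_one_right]
      rw [← map_mul, SpBounded.xm_add, neg_add_cancel, SpBounded.xm_zero, map_one]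
    have hxinv1 : ∀ t : c.K, (E.ph 1 (xm (-t)))⁻¹ = E.ph 1 (xm t) := fun t => by
      rw [inv_eq_of_mul_eq_one_right]
      rw [← map_mul, SpBounded.xm_add, neg_add_cancel, SpBounded.xm_zero, map_one]
    have e' := congrArg (fun x => x⁻¹) e
    simp only [_root_.mul_inv_rev, inv_inv, hxinv, hxinv1] at e'
    rw [← mul_assoc] at e'
    rw [e', show B * ((E.ψ (tA one_ne_zero s))⁻¹ * B⁻¹) = (B * E.ψ (tA one_ne_zero s) * B⁻¹)⁻¹ by group, ← hflip]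
    -- reorder
    have c1 : Commute (E.ph 1 (xm (c.N s))) (E.φ (xm 1)) := (E.lng_all hg _ _).symm
    have c2 : Commute (B⁻¹ * E.ψ (tA one_ne_zero s) * B) (E.φ (xm 1)) := by
      have hb1 : Commute B (E.φ (xm 1)) := hB ▸ (E.lng_all hg _ _).symm
      exact (hb1.inv_left.mul_left (hfx'' 1 s).symm).mul_left hb1
    have c3 : Commute (E.ph 1 (xm (c.N s))) (B⁻¹ * E.ψ (tA one_ne_zero s) * B) := by
      have h0 := E.fx_gen hg hb hω 1 0 one_ne_zero (-c.N s) s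
      have h1 := h0.map (MulAut.conj B⁻¹).toMonoidHom
      simp only [MulEquiv.coe_toMonoidHom, MulAut.conj_apply, inv_inv] at h1
      have e3 : B⁻¹ * E.ph 1 (xp (-c.N s)) * B = E.ph 1 (xm (c.N s)) := by
        have h4 : B * E.ph 1 (xp (-c.N s)) * B⁻¹ = E.ph 1 (xm (c.N s)) := by
          rw [hB, ← map_inv, ← map_mul, ← map_mul, wS_xp, neg_neg]
        have h5 : Commute (B * B) (E.ph 1 (xp (-c.N s))) := by
          rw [hB, ← map_mul, wS_sq]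
          refine Commute.map ?_ _
          exact (SpBounded.hd_central hm1 (by ring) (xp (-c.N s)))
        rw [← h4]
        calc B⁻¹ * E.ph 1 (xp (-c.N s)) * B = B⁻¹ * (E.ph 1 (xp (-c.N s)) * (B * B)) * B⁻¹ := by group
          _ = _ := by rw [← h5.eq]; group
      rwa [e3] at h1
    rw [c2.eq, ← mul_assoc, c1.eq, mul_assoc, c3.eq, ← mul_assoc]
  refine ⟨{ E with fx' := ?_, form' := ?_ }, ?_, ?_⟩
  · exact hfx'' 1 1
  · intro s hs
    have := hform' s hs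
    rw [hB] at this
    exact this
  · show E.ψ = D.ψ
    rw [hE]; rfl
  · show E.φ = D.φ
    rw [hE]; rfl

end Four

end CfsgLib.Known.SUEven
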