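import Cfsg.Agent.Lib.Known.SL2Bounded.Main
import Cfsg.Agent.Lib.Known.SpBounded.Pre
import Cfsg.Agent.Lib.Perm.AltBounded.Tietze

/-!
# The presentation of `SL 2` with named generators, and removing redundant generators
-/

set_option autoImplicit false

namespace CfsgLib.Known.SUEven

open CfsgLib.Known.SL2Bounded (slRels baseRels gens ev exists_commRels exists_rep ev_slRels ev_bijective)
open CfsgLib.Known.SpBounded (xp hd wS)

/-- `SL 2` on a transvection, a torus element and the Weyl element -/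
theorem sl_two_gens (F : Type*) [Field F] [Finite F] (p : ℕ) [Fact p.Prime] [Algebra (ZMod p) F] {ω : Fˣ}
    (hcyc : ∀ x : Fˣ, x ∈ Subgroup.zpowers ω) :
    ∃ (R : Finset (FreeGroup (Fin 3))) (e : PresentedGroup (↑R : Set (FreeGroup (Fin 3))) ≃*
      Matrix.SpecialLinearGroup (Fin 2) F), R.card ≤ (if p = 2 then 5 else 9) ∧
      e (PresentedGroup.of 0) = xp 1 ∧ e (PresentedGroup.of 1) = hd (ω : F) ω.ne_zero ∧
      e (PresentedGroup.of 2) = wS F := by
  classical
  obtain ⟨C, hC3, hC1, hCev, hcomm⟩ := exists_commRels (p := p) hcyc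
  choose rep hrep using exists_rep (p := p) hcyc
  obtain ⟨R, hR⟩ : ∃ R, R = (slRels ω rep C).toFinset := ⟨_, rfl⟩
  have hL : ∀ r ∈ (↑R : Set (FreeGroup (Fin 3))), FreeGroup.lift (gens ω) r = 1 := fun r hr =>
    ev_slRels hrep hCev r (List.mem_toFinset.1 (by rw [← hR]; exact hr))
  let π := PresentedGroup.mk (↑R : Set (FreeGroup (Fin 3)))
  let f := PresentedGroup.toGroup hL
  have hf : f.comp π = ev ω := FreeGroup.ext_hom _ _ fun x =>
    (PresentedGroup.toGroup.of hL).trans FreeGroup.lift_apply_of.symm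
  have hbij : Function.Bijective f :=
    ev_bijective hcyc hrep hcomm π (PresentedGroup.mk_surjective _) f hf fun r hr =>
      PresentedGroup.one_of_mem (Finset.mem_coe.2 (by rw [hR]; exact List.mem_toFinset.2 hr))
  have hof : ∀ i, f (PresentedGroup.of i) = gens ω i := fun i => PresentedGroup.toGroup.of hL
  refine ⟨R, MulEquiv.ofBijective f hbij, ?_, ?_, ?_, ?_⟩
  · rw [hR]
    refine (List.toFinset_card_le _).trans ?_
    simp only [slRels, baseRels, List.length_append, List.length_cons, List.length_nil]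
    by_cases hp : p = 2
    · rw [if_pos hp, if_pos hp]; simp; have := hC1 hp; omega
    · rw [if_neg hp, if_neg hp]; simp; omega
  · rw [show MulEquiv.ofBijective f hbij (PresentedGroup.of 0) = _ from hof 0]
    refine Subtype.ext ?_
    rw [SpBounded.xp_coe]; rfl
  · rw [show MulEquiv.ofBijective f hbij (PresentedGroup.of 1) = _ from hof 1]
    refine Subtype.ext ?_
    rw [SpBounded.hd_coe]; rfl
  · rw [show MulEquiv.ofBijective f hbij (PresentedGroup.of 2) = _ from hof 2]
    refine Subtype.ext ?_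
    rw [SpBounded.wS_coe]; rfl

/-- generators lying in the group generated by the others are dropped for free -/
theorem restrict_gens {α β : Type*} (R : Finset (FreeGroup α)) {H : Type*} [Group H]
    (e : PresentedGroup (↑R : Set (FreeGroup α)) ≃* H) (ι : β → α) (hι : Function.Injective ι)
    (hgen : Subgroup.closure (Set.range fun b => e (PresentedGroup.of (ι b))) = ⊤) :
    ∃ R' : Finset (FreeGroup β), R'.card ≤ R.card ∧
      Nonempty (PresentedGroup (↑R' : Set (FreeGroup β)) ≃* H) := by
  classical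
  obtain ⟨g, hg⟩ : ∃ g : β → H, g = fun b => e (PresentedGroup.of (ι b)) := ⟨_, rfl⟩
  have hex : ∀ a : α, ∃ w : FreeGroup β, FreeGroup.lift g w = e (PresentedGroup.of a) ∧
      ∀ b, ι b = a → w = FreeGroup.of b := by
    intro a
    by_cases h : ∃ b, ι b = a
    · obtain ⟨b, rfl⟩ := h
      exact ⟨FreeGroup.of b, by rw [FreeGroup.lift_apply_of, hg], fun b' hb' => by rw [hι hb']⟩
    · have hm : e (PresentedGroup.of a) ∈ (FreeGroup.lift g).range := by
        rw [FreeGroup.range_lift_eq_closure, hg, hgen]; exact Subgroup.mem_top _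
      obtain ⟨w, hw⟩ := hm
      exact ⟨w, hw, fun b hb => absurd ⟨b, hb⟩ h⟩
  choose σ hσ hσι using hex
  obtain ⟨R', hR'⟩ : ∃ R', R' = R.image (FreeGroup.lift σ) := ⟨_, rfl⟩
  have hcomp : (FreeGroup.lift g).comp (FreeGroup.lift σ) =
      e.toMonoidHom.comp (PresentedGroup.mk (↑R : Set (FreeGroup α))) :=
    FreeGroup.ext_hom _ _ fun a => by simp [hσ, PresentedGroup.of]
  have hv : ∀ w ∈ (↑R' : Set (FreeGroup β)), FreeGroup.lift g w = 1 := by
    intro w hw
    rw [hR', Finset.coe_image] at hw
    obtain ⟨r, hr, rfl⟩ := hw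
    rw [← MonoidHom.comp_apply, hcomp, MonoidHom.comp_apply, PresentedGroup.one_of_mem hr, map_one]
  let mk := PresentedGroup.mk (↑R' : Set (FreeGroup β))
  have hl : ∀ r ∈ (↑R : Set (FreeGroup α)), FreeGroup.lift (fun a => mk (σ a)) r = 1 := by
    intro r hr
    rw [show FreeGroup.lift (fun a => mk (σ a)) = mk.comp (FreeGroup.lift σ) from
      FreeGroup.ext_hom _ _ fun a => by simp, MonoidHom.comp_apply]
    exact PresentedGroup.one_of_mem (Finset.mem_coe.2 (by rw [hR']; exact Finset.mem_image_of_mem _ hr))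
  let Φ : H →* PresentedGroup (↑R' : Set (FreeGroup β)) := (PresentedGroup.toGroup hl).comp e.symm.toMonoidHom
  have hΦ : ∀ a, Φ (e (PresentedGroup.of a)) = mk (σ a) := fun a => by
    show PresentedGroup.toGroup hl (e.symm (e (PresentedGroup.of a))) = _
    rw [e.symm_apply_apply, PresentedGroup.toGroup.of]
  obtain ⟨e', -⟩ := CfsgLib.Perm.AltBounded.Tietze.iso_of_back (↑R' : Set (FreeGroup β)) g hv Φ (fun h => by
    have : (PresentedGroup.toGroup hv).comp Φ = MonoidHom.id H := by
      refine MonoidHom.eq_of_eqOn_dense hgen ?_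
      rintro _ ⟨b, rfl⟩
      show PresentedGroup.toGroup hv (Φ (e (PresentedGroup.of (ι b)))) = e (PresentedGroup.of (ι b))
      rw [hΦ, hσι _ b rfl]
      exact (PresentedGroup.toGroup.of hv).trans (by rw [hg])
    exact DFunLike.congr_fun this h) (fun b => ⟨e (PresentedGroup.of (ι b)), by rw [hΦ, hσι _ b rfl]; rfl⟩)
  exact ⟨R', hR' ▸ Finset.card_image_le, ⟨e'⟩⟩

end CfsgLib.Known.SUEven
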