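import Cfsg.Agent.Lib.Known.SUEven.FourPres
import Cfsg.Agent.Lib.Known.SUEven.SLTwoGens
import Cfsg.Agent.Lib.Known.SUEven.All
import Cfsg.Agent.Lib.Known.SUBounded.Coord

/-!
# A presentation of `SU 4` with named generators
-/

set_option autoImplicit false

namespace CfsgLib.Known.SUEven

open Matrix (SpecialLinearGroup)
open CfsgLib.Classical (isoCongrEq)
open CfsgLib.Classical.Herm
open CfsgLib.Known.SpBounded (xp xm hd wS xp_coe xm_coe hd_coe wS_coe wS_sq mono tA)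
open CfsgLib.Known.SUBounded (act permSU act_perm)

variable {F : Type*} [Field F] [Fintype F] {q : ℕ}

/-- the double transposition -/
def pi4 : alternatingGroup (Fin 4) :=
  ⟨Equiv.swap 0 1 * Equiv.swap 2 3, Equiv.Perm.mem_alternatingGroup.2 (by decide)⟩

/-- the two coordinates of a pair -/
def pairPi (i : Fin (0 + 2)) : (Fin (0 + 2) ⊕ Fin (0 + 2) → F) →ₗ[F] (Fin 1 ⊕ Fin 1 → F) :=
  LinearMap.funLeft F F (Sum.map (fun _ => i) fun _ => i)

theorem exists_isometry (hF : Fintype.card F = q ^ 2) {δ : F} (hδ : δ ≠ 0)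
    (hs : (powConj hF).σ δ = -δ) :
    ∃ E : (Fin (0 + 2) ⊕ Fin (0 + 2) → F) ≃ₗ[F] (Fin 4 → F),
      (∀ v w, hermStd 4 hF (E v) (E w) = skewB (powConj hF) (0 + 2) δ v w) ∧
      ∀ v, E (v ∘ Sum.map (Equiv.swap (0 : Fin (0 + 2)) 1) (Equiv.swap (0 : Fin (0 + 2)) 1)) = E v ∘ pi4.1.symm := by
  obtain ⟨e, he⟩ := IsHerm.exists_isometry_of_finrank_eq (σ := powHom hF)
    (skewB_isHerm (m := 1) (powConj hF) δ hδ hs) (hermStd_isHerm (n := 2) hF) (by
      rw [Module.finrank_fintype_fun_eq_card, finrank_std]; simp)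
  obtain ⟨L, hL⟩ : ∃ L : (Fin (0 + 2) ⊕ Fin (0 + 2) → F) →ₗ[F] (Fin 4 → F), L = LinearMap.pi
      ![(LinearMap.proj 0).comp (e.toLinearMap.comp (pairPi 0)), (LinearMap.proj 0).comp (e.toLinearMap.comp (pairPi 1)),
        (LinearMap.proj 1).comp (e.toLinearMap.comp (pairPi 0)), (LinearMap.proj 1).comp (e.toLinearMap.comp (pairPi 1))] :=
    ⟨_, rfl⟩
  have hform : ∀ v w, hermStd 4 hF (L v) (L w) = skewB (powConj hF) (0 + 2) δ v w := by
    intro v w
    have h0 := he (pairPi 0 v) (pairPi 0 w)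
    have h1 := he (pairPi 1 v) (pairPi 1 w)
    have split : skewB (powConj hF) (0 + 2) δ v w =
        skewB (powConj hF) 1 δ (pairPi 0 v) (pairPi 0 w) + skewB (powConj hF) 1 δ (pairPi 1 v) (pairPi 1 w) := by
      obtain ⟨a, b, rfl⟩ : ∃ a b, v = Sum.elim a b := ⟨_, _, (Sum.elim_comp_inl_inr v).symm⟩
      obtain ⟨a', b', rfl⟩ : ∃ a' b', w = Sum.elim a' b' := ⟨_, _, (Sum.elim_comp_inl_inr w).symm⟩
      have hp : ∀ (i : Fin (0 + 2)) (x y : Fin (0 + 2) → F),
          pairPi i (Sum.elim x y) = Sum.elim (fun _ : Fin 1 => x i) (fun _ : Fin 1 => y i) := fun i x y => by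
        funext z; rcases z with z | z <;> rfl
      rw [hp, hp, hp, hp, skewB_elim, skewB_elim, skewB_elim]
      simp [dotProduct, Fin.sum_univ_two]
      ring
    rw [split]
    erw [← h0, ← h1]
    rw [hermStd_apply, hermStd_apply, hermStd_apply]
    simp [Cfsg.hermForm, hL, Fin.sum_univ_four, Fin.sum_univ_two]
    ring
  have hinj : Function.Injective L := by
    rw [injective_iff_map_eq_zero]
    intro v hv
    refine (skewB_isHerm (m := 0 + 2) (powConj hF) δ hδ hs).nondeg v fun w => ?_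
    rw [← hform, hv, zero_left]
  refine ⟨LinearEquiv.ofBijective L ⟨hinj, (LinearMap.injective_iff_surjective_of_finrank_eq_finrank (by
    rw [Module.finrank_fintype_fun_eq_card, finrank_std]; simp)).1 hinj⟩, hform, fun v => ?_⟩
  show L _ = L v ∘ _
  have hp : ∀ i : Fin (0 + 2), pairPi i (v ∘ Sum.map (Equiv.swap (0 : Fin (0 + 2)) 1) (Equiv.swap (0 : Fin (0 + 2)) 1)) =
      pairPi (Equiv.swap (0 : Fin (0 + 2)) 1 i) v := fun i => by
    funext z; rcases z with z | z <;> rfl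
  have hπ : pi4.1.symm = pi4.1 := by decide
  rw [hπ]
  funext j
  fin_cases j <;> simp [hL, hp, pi4, Equiv.swap_apply_def]

theorem swap_elt (c : Conj F) (v : Fin (0 + 2) ⊕ Fin (0 + 2) → F) :
    Matrix.mulVec ((s2 c 0 (hd (-1 : c.K) (neg_ne_zero.2 one_ne_zero)) *
        leviU c (0 + 2) (mono F (Equiv.swap 0 1)) : UJ c (0 + 2)) :
      Matrix (Fin (0 + 2) ⊕ Fin (0 + 2)) (Fin (0 + 2) ⊕ Fin (0 + 2)) F) v =
    v ∘ Sum.map (Equiv.swap (0 : Fin (0 + 2)) 1) (Equiv.swap (0 : Fin (0 + 2)) 1) := by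
  rw [Submonoid.coe_mul, coe_s2, coe_leviU, iot_mono, SpBounded.coe_mono, u2m]
  funext x
  rcases x with x | x <;> fin_cases x <;>
    simp [Matrix.fromBlocks_multiply, Matrix.mulVec, dotProduct, Matrix.mul_apply, Fin.sum_univ_two, emK_apply,
      hd_coe, Matrix.single, SpBounded.monoM_apply, SpBounded.msgn, Matrix.add_apply, Matrix.one_apply]

variable (hF : Fintype.card F = q ^ 2)

include hF in
/-- the group of degree four on named generators -/
theorem exists_block : ∃ (R : Finset (FreeGroup (Fin 3 ⊕ Fin 3)))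
    (e : PresentedGroup (↑R : Set (FreeGroup (Fin 3 ⊕ Fin 3))) ≃* Cfsg.SU 4 F q),
    R.card ≤ (if q = 2 then 21 else 29) ∧
    (∀ H : Subgroup (Cfsg.SU 4 F q), e (PresentedGroup.of (Sum.inl 0)) ∈ H → e (PresentedGroup.of (Sum.inl 1)) ∈ H →
      e (PresentedGroup.of (Sum.inr 0)) ∈ H → e (PresentedGroup.of (Sum.inr 2)) ∈ H →
      permSU F q 4 pi4 ∈ H → H = ⊤) ∧
    permSU F q 4 pi4 ∈ Subgroup.closure
      ({e (PresentedGroup.of (Sum.inl 2)), e (PresentedGroup.of (Sum.inr 2))} : Set (Cfsg.SU 4 F q)) := by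
  classical
  obtain ⟨p, f, hpr, hp, hqf⟩ := exists_prime_pow_root hF
  haveI : Fact p.Prime := ⟨hpr⟩
  letI := ZMod.algebra F p
  letI : Algebra (ZMod p) (powConj hF).K := ZMod.algebra _ p
  obtain ⟨ω, hω⟩ := exists_gen hF
  obtain ⟨ν, hν⟩ := IsCyclic.exists_generator (α := (powConj hF).Kˣ)
  obtain ⟨R1, e1, h1, e1a, e1h, e1w⟩ := sl_two_gens F p hω.1
  obtain ⟨R2, e2, h2, e2a, e2h, e2w⟩ := sl_two_gens (powConj hF).K p hν
  obtain ⟨z, hz⟩ : ∃ z : F, (powConj hF).σ z ≠ z := ⟨_, hω.2⟩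
  obtain ⟨δ, hδd⟩ : ∃ δ, δ = z - (powConj hF).σ z := ⟨_, rfl⟩
  have hδ : δ ≠ 0 := hδd ▸ sub_ne_zero.2 (Ne.symm hz)
  have hs : (powConj hF).σ δ = -δ := by
    rw [hδd, map_sub, (powConj hF).σσ]; ring
  obtain ⟨rels, hr, e, θ, hθ, hθl, hθr⟩ := exists_pres_four (powConj hF) hω hδ hs R1 e1 R2 e2
  obtain ⟨E, hE, hEπ⟩ := exists_isometry hF hδ hs
  let I : HU (skewB (powConj hF) (0 + 2) δ) ≃* HU (hermStd 4 hF) :=
    isoCongrEq (f := fun u v => skewB (powConj hF) (0 + 2) δ u v) (f' := fun u v => hermStd 4 hF u v) E hE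
  have hdet : ∀ g, HU.det (hermStd 4 hF) (I g) = HU.det (skewB (powConj hF) (0 + 2) δ) g := fun g => by
    show LinearEquiv.det (E.symm.trans ((g : (Fin (0 + 2) ⊕ Fin (0 + 2) → F) ≃ₗ[F] _).trans E)) =
      LinearEquiv.det (g : (Fin (0 + 2) ⊕ Fin (0 + 2) → F) ≃ₗ[F] _)
    exact LinearEquiv.det_conj _ _
  have hI : (HSU (skewB (powConj hF) (0 + 2) δ)).map I.toMonoidHom = HSU (hermStd 4 hF) := by
    ext g
    rw [Subgroup.mem_map_equiv, MonoidHom.mem_ker, MonoidHom.mem_ker]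
    conv_rhs => rw [← I.apply_symm_apply g, hdet]
  obtain ⟨e', he'⟩ : ∃ e' : PresentedGroup (↑rels : Set (FreeGroup (Fin 3 ⊕ Fin 3))) ≃* Cfsg.SU 4 F q,
      e' = e.trans (((I.subgroupMap (HSU (skewB (powConj hF) (0 + 2) δ))).trans (MulEquiv.subgroupCongr hI)).trans
        (suEquiv 4 hF).symm) := ⟨_, rfl⟩
  have hact : ∀ x v, act (e' x) (E v) = E (Matrix.mulVec (θ x).1 v) := fun x v => by
    show Matrix.mulVec _ _ = _
    rw [← suEquiv_apply hF, he', MulEquiv.trans_apply, MulEquiv.trans_apply, MulEquiv.apply_symm_apply]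
    show E (((e x : HU (skewB (powConj hF) (0 + 2) δ)) : (Fin (0 + 2) ⊕ Fin (0 + 2) → F) ≃ₗ[F] _) (E.symm (E v))) = _
    rw [hθ, toHU_apply, E.symm_apply_apply]
  have hθinj : Function.Injective θ := fun x y hxy => e'.injective (SUBounded.act_ext fun u => by
    obtain ⟨v, rfl⟩ := E.surjective u
    rw [hact, hact, hxy])
  have hm1 : (-1 : (powConj hF).K) ≠ 0 := neg_ne_zero.2 one_ne_zero
  obtain ⟨G1, hG1⟩ : ∃ G1, G1 = fun i => (PresentedGroup.of (Sum.inl i) :
      PresentedGroup (↑rels : Set (FreeGroup (Fin 3 ⊕ Fin 3)))) := ⟨_, rfl⟩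
  have hl : ∀ i, θ (PresentedGroup.of (Sum.inl i)) = leviU (powConj hF) (0 + 2) (e1 (PresentedGroup.of i)) := hθl
  -- the permutation
  obtain ⟨P, hP⟩ : ∃ P : PresentedGroup (↑rels : Set (FreeGroup (Fin 3 ⊕ Fin 3))),
      P = PresentedGroup.of (Sum.inr 2) * PresentedGroup.of (Sum.inr 2) * (PresentedGroup.of (Sum.inl 2))⁻¹ :=
    ⟨_, rfl⟩
  have hPθ : θ P = s2 (powConj hF) 0 (hd (-1) hm1) * leviU (powConj hF) (0 + 2) (mono F (Equiv.swap 0 1)) := by
    have hmono : (mono F (Equiv.swap (0 : Fin (0 + 2)) 1) : SpecialLinearGroup (Fin (0 + 2)) F) = (wS F)⁻¹ :=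
      eq_inv_of_mul_eq_one_left (Subtype.ext (by
        rw [Matrix.SpecialLinearGroup.coe_mul, SpBounded.coe_mono, wS_coe, Matrix.SpecialLinearGroup.coe_one]
        ext i j
        fin_cases i <;> fin_cases j <;>
          simp [Matrix.mul_apply, Fin.sum_univ_two, SpBounded.monoM_apply, SpBounded.msgn]))
    rw [hP, map_mul, map_mul, map_inv, hl, hθr, e1w, e2w, ← map_mul, wS_sq, hmono, map_inv]
  have hPe : e' P = permSU F q 4 pi4 := SUBounded.act_ext fun u => by
    obtain ⟨v, rfl⟩ := E.surjective u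
    rw [hact, hPθ, swap_elt, hEπ, act_perm]
  refine ⟨rels, e', ?_, fun H ha hh hb hw hπ => ?_, ?_⟩
  · rcases eq_or_ne q 2 with rfl | hq
    · have hp2 : p = 2 := by
        have : p ∣ 2 := hqf.symm ▸ dvd_pow_self p (by rintro rfl; simp at hqf)
        exact (Nat.prime_dvd_prime_iff_eq hpr Nat.prime_two).1 this
      rw [if_pos hp2] at h1 h2
      rw [if_pos rfl]
      omega
    · rw [if_neg hq]
      split_ifs at h1 h2 <;> omega
  · let K' := H.comap e'.toMonoidHom
    suffices hK : K' = ⊤ by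
      refine (Subgroup.eq_top_iff' H).2 fun x => ?_
      have := hK.ge (Subgroup.mem_top (e'.symm x))
      simpa [K'] using this
    have hPK : P ∈ K' := by show e' P ∈ H; rw [hPe]; exact hπ
    have hwl : PresentedGroup.of (Sum.inl 2) ∈ K' := by
      have : PresentedGroup.of (Sum.inl 2) = P⁻¹ * (PresentedGroup.of (Sum.inr 2) * PresentedGroup.of (Sum.inr 2)) := by
        rw [hP]; group
      rw [this]
      exact mul_mem (inv_mem hPK) (mul_mem hw hw)
    let A := K'.map θ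
    have hA : ∀ x ∈ K', θ x ∈ A := fun x hx => Subgroup.mem_map_of_mem θ hx
    have hψ : ∀ M, leviU (powConj hF) (0 + 2) M ∈ A := by
      intro M
      obtain ⟨x, rfl⟩ := e1.surjective M
      have hle : ∀ y, leviU (powConj hF) (0 + 2) (e1 y) ∈ A := fun y => by
        have : (A.comap ((leviU (powConj hF) (0 + 2)).comp e1.toMonoidHom)) = ⊤ := by
          rw [eq_top_iff, ← PresentedGroup.closure_range_of (↑R1 : Set (FreeGroup (Fin 3))), Subgroup.closure_le]
          rintro _ ⟨i, rfl⟩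
          show leviU (powConj hF) (0 + 2) (e1 (PresentedGroup.of i)) ∈ A
          rw [← hl]
          refine hA _ ?_
          fin_cases i
          exacts [ha, hh, hwl]
        exact this.ge (Subgroup.mem_top y)
      exact hle x
    obtain ⟨A2, hA2⟩ : ∃ A2, A2 = A.comap (s2 (powConj hF) (0 : Fin (0 + 2))) := ⟨_, rfl⟩
    have hxp1 : xp 1 ∈ A2 := by
      rw [hA2, Subgroup.mem_comap, ← e2a, ← hθr]; exact hA _ hb
    have hwS : wS _ ∈ A2 := by
      rw [hA2, Subgroup.mem_comap, ← e2w, ← hθr]; exact hA _ hw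
    have hxp : ∀ t : (powConj hF).K, xp t ∈ A2 := by
      intro t
      rcases eq_or_ne t 0 with rfl | ht
      · rw [SpBounded.xp_zero]; exact one_mem _
      obtain ⟨n, hn⟩ := hω.exists_norm ht
      have hN : ∀ n : ℕ, ((Nu (powConj hF) (ω ^ n) : (powConj hF).Kˣ) : (powConj hF).K) =
          (Nu (powConj hF) ω : (powConj hF).K) ^ n := fun n => by
        induction n with
        | zero => rw [pow_zero, pow_zero, Nu_one, Units.val_one]
        | succ n ih => rw [pow_succ, pow_succ, Nu_mul, Units.val_mul, ih]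
      have e3 := s2_torC (c := powConj hF) (zero_ne_one (α := Fin (0 + 2))) (ω ^ n) (xp 1)
      rw [sc_xp, mul_one, hN, hn] at e3
      rw [hA2, Subgroup.mem_comap] at hxp1 ⊢
      rw [← e3]
      exact mul_mem (mul_mem (hψ _) hxp1) (inv_mem (hψ _))
    have hA2top : A2 = ⊤ := by
      refine CfsgLib.Classical.closure_transvection_eq_top A2 fun a b hab t => ?_
      fin_cases a <;> fin_cases b <;> simp at hab
      · exact hxp t
      · have e4 : xm t = wS _ * xp (-t) * (wS (powConj hF).K)⁻¹ := by rw [wS_xp, neg_neg]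
        show xm t ∈ A2
        rw [e4]
        exact mul_mem (mul_mem hwS (hxp _)) (inv_mem hwS)
    rw [eq_top_iff, ← PresentedGroup.closure_range_of (↑rels : Set (FreeGroup (Fin 3 ⊕ Fin 3))), Subgroup.closure_le]
    rintro _ ⟨i | j, rfl⟩
    · fin_cases i
      exacts [ha, hh, hwl]
    · have hmem : s2 (powConj hF) 0 (e2 (PresentedGroup.of j)) ∈ A := by
        have := hA2top.ge (Subgroup.mem_top (e2 (PresentedGroup.of j)))
        rwa [hA2, Subgroup.mem_comap] at this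
      rw [← hθr] at hmem
      obtain ⟨x, hx, hxe⟩ := hmem
      rw [← hθinj hxe]
      exact hx
  · rw [← hPe, hP, map_mul, map_mul, map_inv]
    exact mul_mem (mul_mem (Subgroup.subset_closure (Or.inr rfl)) (Subgroup.subset_closure (Or.inr rfl)))
      (inv_mem (Subgroup.subset_closure (Or.inl rfl)))

end CfsgLib.Known.SUEven
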