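import Cfsg.Agent.Lib.Known.SUEven.Orbit
import Cfsg.Agent.Lib.Known.SpBounded.Good

/-!
# Every element moves the first vector in one of two ways
-/

set_option autoImplicit false

namespace CfsgLib.Known.SUEven

open Matrix (SpecialLinearGroup fromBlocks)
open CfsgLib.Known.SpBounded (pad bs coe_bs ev ev_ne_zero mulVec_ev mu mu_mu xp xm hd wS xp_coe xm_coe hd_coe wS_coe tA ev2
  smul_eq_mv)
open scoped Matrix

variable {F : Type*} [Field F] {c : Conj F} {k : ℕ}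

theorem exists_isH_mulVec {v : Fin (k + 1) → F} (hv : c.σ (v 0) = v 0) :
    ∃ T : Matrix (Fin (k + 1)) (Fin (k + 1)) F, IsH c T ∧ T.mulVec (ev k F) = v := by
  refine ⟨Matrix.vecMulVec v (ev k F) + Matrix.vecMulVec (ev k F) (fun i => c.σ (v i)) -
    v 0 • Matrix.vecMulVec (ev k F) (ev k F), IsH.ext' fun a b => ?_, ?_⟩
  · simp only [Matrix.sub_apply, Matrix.add_apply, Matrix.smul_apply, Matrix.vecMulVec_apply, ev, Pi.single_apply,
      map_sub, map_add, map_mul, smul_eq_mul, hv, c.σσ, apply_ite c.σ, map_one, map_zero]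
    ring
  · funext i
    rw [mulVec_ev]
    simp [Matrix.sub_apply, Matrix.add_apply, Matrix.smul_apply, Matrix.vecMulVec_apply, ev, Pi.single_apply]
    split_ifs <;> simp_all

/-- the pairing of the two halves -/
def pr (c : Conj F) (a b : Fin (k + 1) → F) : F := ∑ i, c.σ (a i) * b i

theorem pr_mulVec (c : Conj F) (M : Matrix (Fin (k + 1)) (Fin (k + 1)) F) (a b : Fin (k + 1) → F) :
    pr c (M.mulVec a) b = pr c a ((st c M).mulVec b) := by
  simp only [pr, Matrix.mulVec, dotProduct, map_sum, map_mul, st_apply, Finset.sum_mul, Finset.mul_sum]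
  rw [Finset.sum_comm]
  exact Finset.sum_congr rfl fun i _ => Finset.sum_congr rfl fun j _ => by ring

theorem pr_ev (c : Conj F) (b : Fin (k + 1) → F) : pr c (ev k F) b = b 0 := by
  simp [pr, ev, Pi.single_apply, apply_ite c.σ]

theorem pr_symm (c : Conj F) (a b : Fin (k + 1) → F) : c.σ (pr c a b) = pr c b a := by
  simp only [pr, map_sum, map_mul, c.σσ]
  exact Finset.sum_congr rfl fun i _ => mul_comm _ _

theorem pr_real (c : Conj F) {M : Matrix (Fin (k + 1)) (Fin (k + 1)) F} (hM : IsH c M) (x : Fin (k + 1) → F) :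
    c.σ (pr c (M.mulVec x) x) = pr c (M.mulVec x) x := by
  rw [pr_symm, pr_mulVec c M x x, hM.eq]

theorem exists_vec (hk : 1 ≤ k) {a : Fin (k + 1) → F} (ha : a ≠ 0) {b : Fin (k + 1) → F}
    (hab : c.σ (pr c a b) = pr c a b) :
    ∃ A : SpecialLinearGroup (Fin (k + 1)) F, ∃ S : Matrix (Fin (k + 1)) (Fin (k + 1)) F,
      IsH c S ∧ A.1.mulVec (ev k F) = a ∧ S.mulVec a = b := by
  obtain ⟨n, rfl⟩ : ∃ n, k = n + 1 := ⟨k - 1, by omega⟩
  obtain ⟨A, hA⟩ := CfsgLib.Classical.exists_smul_eq_SL (v := ev (n + 1) F) ev_ne_zero ha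
  rw [← smul_eq_mv] at hA
  obtain ⟨T, hT, hTe⟩ := exists_isH_mulVec (c := c) (v := (st c A.1).mulVec b) (by
    rw [← pr_ev c ((st c A.1).mulVec b), ← pr_mulVec, hA, hab])
  refine ⟨A, (iot c _ A).1 * T * st c (iot c _ A).1, isH_conj hT _, hA, ?_⟩
  have h1 : (A⁻¹).1.mulVec a = ev (n + 1) F := by
    rw [← hA, smul_eq_mv, smul_eq_mv, inv_smul_smul]
  rw [← Matrix.mulVec_mulVec, ← Matrix.mulVec_mulVec, coe_iot, st_st, h1, hTe, ← coe_iot,
    ← coe_iot_inv, map_inv, smul_eq_mv, smul_eq_mv, smul_inv_smul]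

namespace Pre

variable {G : Type*} [Group G] (R : Pre c (k + 1) G)

/-- the two shapes -/
def Good (g : G) : Prop :=
  (∃ S A p, IsH c S ∧ p ∈ R.P1 ∧ g = R.V S * R.ψ A * p) ∨
    (∃ S A p, IsH c S ∧ p ∈ R.P1 ∧ g = R.U S * R.ψ A * R.φ 0 (wS c.K) * p)

theorem good_one : R.Good 1 :=
  Or.inl ⟨0, 1, 1, IsH.zero, one_mem _, by rw [R.V_zero, map_one, one_mul, one_mul]⟩

theorem good_ψ (hk : 1 ≤ k) (C : SpecialLinearGroup (Fin (k + 1)) F) {y : G} (hy : R.Good y) :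
    R.Good (R.ψ C * y) := by
  rcases hy with ⟨S, A, p, hS, hp, rfl⟩ | ⟨S, A, p, hS, hp, rfl⟩
  · refine Or.inl ⟨_, C * A, p, isH_conj hS (iot c _ C).1, hp, ?_⟩
    rw [← R.conj_V (by omega) C hS, map_mul]; group
  · refine Or.inr ⟨_, C * A, p, isH_conj hS C.1, hp, ?_⟩
    rw [← R.conj_U (by omega) C hS, map_mul]; group

theorem good_U (hk : 1 ≤ k) {M : Matrix (Fin (k + 1)) (Fin (k + 1)) F} (hM : IsH c M) {y : G}
    (hy : R.Good y) : R.Good (R.U M * y) := by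
  rcases hy with ⟨S, A, p, hS, hp, rfl⟩ | ⟨S, A, p, hS, hp, rfl⟩
  · by_cases hb : S.mulVec (A.1.mulVec (ev k F)) = 0
    · have hT : IsH c ((st c A.1) * S * A.1) := by simpa [st_st] using isH_conj hS (st c A.1)
      have hT0 : ((st c A.1) * S * A.1).mulVec (ev k F) = 0 := by
        rw [← Matrix.mulVec_mulVec, ← Matrix.mulVec_mulVec, hb, Matrix.mulVec_zero]
      have hU : IsH c ((A⁻¹).1 * M * (iot c _ A).1) := by rw [coe_iot]; exact isH_conj hM _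
      refine Or.inl ⟨0, A, R.U ((A⁻¹).1 * M * (iot c _ A).1) * (R.V ((st c A.1) * S * A.1) * p),
        IsH.zero, mul_mem (R.U_mem_P1 hU) (mul_mem (R.V_mem_P1 hT hT0) hp), ?_⟩
      rw [R.V_zero, one_mul, R.V_ψ hk A hS, ← mul_assoc (R.ψ A), ← R.U_ψ hk A hM]
      group
    · obtain ⟨S', A', hS', h⟩ := R.switch hk hS hb
      refine Or.inr ⟨M + S', A', _, hM.add hS', mul_mem h hp, ?_⟩
      rw [R.U_add]; group
  · refine Or.inr ⟨M + S, A, p, hM.add hS, hp, ?_⟩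
    rw [R.U_add]; group

variable {R} {θ : G →* UJ c (k + 1)}

theorem θ_form1 (h : Rep R θ) {S : Matrix (Fin (k + 1)) (Fin (k + 1)) F} (hS : IsH c S)
    (A : SpecialLinearGroup (Fin (k + 1)) F) :
    (θ (R.V S * R.ψ A)).1.mulVec (ev2 k F) =
      Sum.elim (A.1.mulVec (ev k F)) (S.mulVec (A.1.mulVec (ev k F))) := by
  rw [map_mul, Submonoid.coe_mul, θ_V h hS, h.hψ, coe_leviU, ← Matrix.mulVec_mulVec]
  simp [ev2, Matrix.fromBlocks_mulVec]

theorem θ_form2 (h : Rep R θ) {S : Matrix (Fin (k + 1)) (Fin (k + 1)) F} (hS : IsH c S)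
    (A : SpecialLinearGroup (Fin (k + 1)) F) :
    (θ (R.U S * R.ψ A * R.φ 0 (wS c.K))).1.mulVec (ev2 k F) =
      Sum.elim (S.mulVec (-(iot c _ A).1.mulVec (ev k F))) (-(iot c _ A).1.mulVec (ev k F)) := by
  have hs : ∀ c : F, (Matrix.single (0 : Fin (k + 1)) (0 : Fin (k + 1)) c).mulVec (ev k F) = c • ev k F := by
    intro c
    funext i
    rw [mulVec_ev]
    by_cases hi : i = 0
    · subst hi; simp [ev]
    · simp [ev, hi, Ne.symm hi]
  rw [map_mul, map_mul, Submonoid.coe_mul, Submonoid.coe_mul, θ_U h hS, h.hψ, coe_leviU, h.hφ, coe_s2, u2m]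
  simp only [emK_apply, wS_coe]
  rw [← Matrix.mulVec_mulVec, ← Matrix.mulVec_mulVec]
  simp [ev2, Matrix.fromBlocks_mulVec, Matrix.add_mulVec, hs, Matrix.mulVec_neg]

theorem θ_P1 (h : Rep R θ) {p : G} (hp : p ∈ R.P1) : (θ p).1.mulVec (ev2 k F) = ev2 k F := by
  induction hp using Subgroup.closure_induction with
  | mem x hx =>
    rcases hx with (⟨A, hA, rfl⟩ | ⟨M, hM, rfl⟩) | ⟨M, hM, rfl⟩
    · have := θ_form1 h IsH.zero A
      rwa [R.V_zero, one_mul, Matrix.zero_mulVec, (hA : A.1.mulVec (ev k F) = ev k F)] at this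
    · rw [θ_U h hM]
      simp [ev2, Matrix.fromBlocks_mulVec]
    · have := θ_form1 h hM.1 1
      rwa [map_one, mul_one, Matrix.SpecialLinearGroup.coe_one, Matrix.one_mulVec, hM.2] at this
  | one => simp
  | mul a b _ _ ha hb => rw [map_mul, Submonoid.coe_mul, ← Matrix.mulVec_mulVec, hb, ha]
  | inv a _ ha =>
    have e : (θ a⁻¹).1 * (θ a).1 = 1 := by
      rw [← Submonoid.coe_mul, ← map_mul, inv_mul_cancel, map_one]; rfl
    conv_lhs => rw [← ha]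
    rw [Matrix.mulVec_mulVec, e, Matrix.one_mulVec]

theorem iot_ev_ne_zero (A : SpecialLinearGroup (Fin (k + 1)) F) : (iot c _ A).1.mulVec (ev k F) ≠ 0 := by
  rw [smul_eq_mv]
  exact fun e => ev_ne_zero ((smul_eq_zero_iff_eq _).1 e)

theorem good_V (h : Rep R θ) (hk : 1 ≤ k) {M : Matrix (Fin (k + 1)) (Fin (k + 1)) F} (hM : IsH c M) {y : G}
    (hy : R.Good y) : R.Good (R.V M * y) := by
  rcases hy with ⟨S, A, p, hS, hp, rfl⟩ | ⟨S, A, p, hS, hp, rfl⟩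
  · refine Or.inl ⟨M + S, A, p, hM.add hS, hp, ?_⟩
    rw [R.V_add]; group
  · by_cases ha : S.mulVec ((iot c _ A).1.mulVec (ev k F)) = 0
    · have hT : IsH c ((A⁻¹).1 * S * (iot c _ A).1) := by rw [coe_iot]; exact isH_conj hS _
      have hT0 : ((A⁻¹).1 * S * (iot c _ A).1).mulVec (ev k F) = 0 := by
        rw [← Matrix.mulVec_mulVec, ← Matrix.mulVec_mulVec, ha, Matrix.mulVec_zero]
      have hV : IsH c ((st c A.1) * M * A.1) := by simpa [st_st] using isH_conj hM (st c A.1)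
      refine Or.inr ⟨0, A, (R.φ 0 (wS c.K))⁻¹ * R.V ((st c A.1) * M * A.1) * R.φ 0 (wS c.K) *
        R.U ((A⁻¹).1 * S * (iot c _ A).1) * p, IsH.zero,
        mul_mem (mul_mem (R.conj_V0 hV) (R.U_mem_P1 hT)) hp, ?_⟩
      have e : R.U S * R.ψ A * R.φ 0 (wS c.K) = R.ψ A * R.φ 0 (wS c.K) * R.U ((A⁻¹).1 * S * (iot c _ A).1) := by
        rw [R.U_ψ hk A hS, mul_assoc, ← (R.comm0_U hT hT0 (wS c.K)).eq, ← mul_assoc]
      rw [e, R.U_zero, one_mul, show R.V M * (R.ψ A * R.φ 0 (wS c.K) * R.U ((A⁻¹).1 * S * (iot c _ A).1) * p) =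
        (R.V M * R.ψ A) * R.φ 0 (wS c.K) * R.U ((A⁻¹).1 * S * (iot c _ A).1) * p by group, R.V_ψ hk A hM]
      group
    · obtain ⟨a, rfl⟩ : ∃ a, a = S.mulVec (-(iot c _ A).1.mulVec (ev k F)) := ⟨_, rfl⟩
      have ha' : S.mulVec (-(iot c _ A).1.mulVec (ev k F)) ≠ 0 := by
        rw [Matrix.mulVec_neg]; exact neg_ne_zero.2 ha
      obtain ⟨A1, S1, hS1, hA1, hS1a⟩ := exists_vec (c := c) hk ha' (b := -(iot c _ A).1.mulVec (ev k F))
        (pr_real c hS _)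
      have hb : S1.mulVec (A1.1.mulVec (ev k F)) ≠ 0 := by
        rw [hA1, hS1a]; exact neg_ne_zero.2 (iot_ev_ne_zero A)
      obtain ⟨S2, A2, hS2, hq⟩ := R.switch hk hS1 hb
      obtain ⟨q, hqe⟩ : ∃ q, q = (R.U S2 * R.ψ A2 * R.φ 0 (wS c.K))⁻¹ * (R.V S1 * R.ψ A1) := ⟨_, rfl⟩
      rw [← hqe] at hq
      have e1 : R.V S1 * R.ψ A1 = R.U S2 * R.ψ A2 * R.φ 0 (wS c.K) * q := by rw [hqe]; group
      have e2 := congrArg (fun g => (θ g).1.mulVec (ev2 k F)) e1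
      rw [θ_form1 h hS1, map_mul θ _ q, Submonoid.coe_mul, ← Matrix.mulVec_mulVec, θ_P1 h hq, θ_form2 h hS2,
        hA1, hS1a, Sum.elim_eq_iff] at e2
      obtain ⟨e3, e4⟩ := e2
      rw [neg_inj] at e4
      rw [← e4, Matrix.mulVec_neg, Matrix.mulVec_neg, neg_inj] at e3
      have hr := R.coset2 hk hS hS2 e4.symm e3
      refine Or.inl ⟨M + S1, A1, q⁻¹ * ((R.U S * R.ψ A * R.φ 0 (wS c.K))⁻¹ *
        (R.U S2 * R.ψ A2 * R.φ 0 (wS c.K)))⁻¹ * p, hM.add hS1, mul_mem (mul_mem (inv_mem hq) (inv_mem hr)) hp, ?_⟩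
      rw [R.V_add, show R.V M * R.V S1 * R.ψ A1 = R.V M * (R.V S1 * R.ψ A1) by group, e1]
      group

theorem good_mem (h : Rep R θ) (hk : 1 ≤ k) {g : G} (hg : g ∈ R.gen) : R.Good g := by
  let H : Subgroup G :=
    { carrier := {x | (∀ y, R.Good y → R.Good (x * y)) ∧ ∀ y, R.Good y → R.Good (x⁻¹ * y)}
      one_mem' := ⟨fun y hy => by rwa [one_mul], fun y hy => by rwa [inv_one, one_mul]⟩
      mul_mem' := fun {a b} ha hb => ⟨fun y hy => by rw [mul_assoc]; exact ha.1 _ (hb.1 y hy),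
        fun y hy => by rw [mul_inv_rev, mul_assoc]; exact hb.2 _ (ha.2 y hy)⟩
      inv_mem' := fun {a} ha => ⟨ha.2, by rw [inv_inv]; exact ha.1⟩ }
  have hle : R.gen ≤ H := (Subgroup.closure_le _).2 (by
    rintro x (⟨A, rfl⟩ | hx)
    · exact ⟨fun y hy => R.good_ψ hk A hy, fun y hy => by rw [← map_inv]; exact R.good_ψ hk _ hy⟩
    · obtain ⟨i, A, rfl⟩ := Set.mem_iUnion.1 hx
      exact R.φ_mem_of i H
        (fun t => ⟨fun y hy => R.good_U hk (Hm_isH _ _ _) hy,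
          fun y hy => by rw [← R.U_neg]; exact R.good_U hk (Hm_isH _ _ _).neg hy⟩)
        (fun t => ⟨fun y hy => good_V h hk (Hm_isH _ _ _) hy,
          fun y hy => by rw [← R.V_neg]; exact good_V h hk (Hm_isH _ _ _).neg hy⟩) A)
  have := (hle hg).1 1 R.good_one
  rwa [mul_one] at this

/-- the stabiliser of the first vector -/
theorem stab (h : Rep R θ) (hk : 1 ≤ k) {g : G} (hg : g ∈ R.gen)
    (he : (θ g).1.mulVec (ev2 k F) = ev2 k F) : g ∈ R.P1 := by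
  rcases good_mem h hk hg with ⟨S, A, p, hS, hp, rfl⟩ | ⟨S, A, p, hS, hp, rfl⟩
  · rw [map_mul θ _ p, Submonoid.coe_mul, ← Matrix.mulVec_mulVec, θ_P1 h hp, θ_form1 h hS, ev2,
      Sum.elim_eq_iff] at he
    refine mul_mem (mul_mem (R.V_mem_P1 hS ?_) (R.ψ_mem_P1 he.1)) hp
    rw [← he.1]; exact he.2
  · rw [map_mul θ _ p, Submonoid.coe_mul, ← Matrix.mulVec_mulVec, θ_P1 h hp, θ_form2 h hS, ev2,
      Sum.elim_eq_iff, neg_eq_zero] at he
    exact absurd he.2 (iot_ev_ne_zero A)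

theorem exists_reach (h : Rep R θ) (hk : 1 ≤ k) {a b : Fin (k + 1) → F} (hv : Sum.elim a b ≠ 0)
    (hab : c.σ (pr c a b) = pr c a b) :
    ∃ g ∈ R.gen, (θ g).1.mulVec (ev2 k F) = Sum.elim a b := by
  by_cases ha : a = 0
  · subst ha
    have hb : b ≠ 0 := fun e => hv (by subst e; funext x; cases x <;> rfl)
    obtain ⟨A, -, -, hA, -⟩ := exists_vec (c := c) hk (neg_ne_zero.2 hb) (b := 0) (by simp [pr])
    refine ⟨R.U 0 * R.ψ (iot c _ A) * R.φ 0 (wS c.K),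
      mul_mem (mul_mem (R.U_mem_gen IsH.zero) (R.ψ_mem_gen _)) (R.φ_mem_gen _ _), ?_⟩
    rw [θ_form2 h IsH.zero, iot_iot, hA, neg_neg, Matrix.zero_mulVec]
  · obtain ⟨A, S, hS, hA, hSa⟩ := exists_vec hk ha hab
    refine ⟨R.V S * R.ψ A, mul_mem (R.V_mem_gen hS) (R.ψ_mem_gen _), ?_⟩
    rw [θ_form1 h hS, hA, hSa]

end Pre

end CfsgLib.Known.SUEven
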