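import Cfsg.Agent.Lib.Known.SUEven.Kernel
import Cfsg.Agent.Lib.Classical.Unitary.Transvection

/-!
# The image is the special unitary group of a skew Hermitian matrix
-/

set_option autoImplicit false

namespace CfsgLib.Known.SUEven

open Matrix (SpecialLinearGroup fromBlocks)
open CfsgLib.Classical.Herm (IsHerm HU HSU)
open CfsgLib.Known.SpBounded (ev ev2 xp xp_coe)
open scoped Matrix

variable {F : Type*} [Field F] (c : Conj F) {m k : ℕ} (δ : F)

/-- the Hermitian form of `J` scaled by a skew element -/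
def skewB (m : ℕ) (δ : F) : (Fin m ⊕ Fin m → F) →ₛₗ[c.σ] (Fin m ⊕ Fin m → F) →ₗ[F] F :=
  LinearMap.mk₂'ₛₗ c.σ (RingHom.id F) (fun x y => δ * ((⇑c.σ ∘ x) ⬝ᵥ (J m F *ᵥ y)))
    (fun x x' y => by
      rw [← mul_add, ← add_dotProduct]
      congr 2
      funext i
      simp)
    (fun a x y => by
      rw [smul_eq_mul, show ⇑c.σ ∘ (a • x) = c.σ a • (⇑c.σ ∘ x) from funext fun i => by simp, smul_dotProduct,
        smul_eq_mul]
      ring)
    (fun x y y' => by rw [Matrix.mulVec_add, dotProduct_add, mul_add])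
    (fun a x y => by
      rw [Matrix.mulVec_smul, dotProduct_smul, RingHom.id_apply, smul_eq_mul, smul_eq_mul]
      ring)

theorem skewB_apply (x y : Fin m ⊕ Fin m → F) : skewB c m δ x y = δ * ((⇑c.σ ∘ x) ⬝ᵥ (J m F *ᵥ y)) := rfl

theorem J_mulVec (a b : Fin m → F) : J m F *ᵥ Sum.elim a b = Sum.elim (-b) a := by
  rw [J, Matrix.J, Matrix.fromBlocks_mulVec]
  simp [Matrix.neg_mulVec]

theorem skewB_elim (a b a' b' : Fin m → F) :
    skewB c m δ (Sum.elim a b) (Sum.elim a' b') = δ * ((⇑c.σ ∘ b) ⬝ᵥ a' - (⇑c.σ ∘ a) ⬝ᵥ b') := by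
  rw [skewB_apply, J_mulVec, Sum.comp_elim, sumElim_dotProduct_sumElim, dotProduct_neg]
  ring

theorem σ_dot (x y : Fin m → F) : c.σ ((⇑c.σ ∘ x) ⬝ᵥ y) = (⇑c.σ ∘ y) ⬝ᵥ x := by
  simp [dotProduct, map_sum, c.σσ, mul_comm]

theorem skewB_isHerm (hδ : δ ≠ 0) (hs : c.σ δ = -δ) : IsHerm (skewB c m δ) where
  invol := c.hσ
  symm x y := by
    obtain ⟨a, b, rfl⟩ : ∃ a b, x = Sum.elim a b := ⟨_, _, (Sum.elim_comp_inl_inr x).symm⟩
    obtain ⟨a', b', rfl⟩ : ∃ a' b', y = Sum.elim a' b' := ⟨_, _, (Sum.elim_comp_inl_inr y).symm⟩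
    rw [skewB_elim, skewB_elim, map_mul, map_sub, σ_dot, σ_dot, hs]
    ring
  nondeg x hx := by
    have h : ∀ y, (⇑c.σ ∘ x) ⬝ᵥ y = 0 := fun y => by
      have h1 := hx (J m F *ᵥ (-y))
      rw [skewB_apply, Matrix.mulVec_mulVec, J_mul_J, Matrix.neg_mulVec, Matrix.one_mulVec, neg_neg] at h1
      exact (mul_eq_zero.1 h1).resolve_left hδ
    funext i
    have h2 := h (Pi.single i 1)
    rw [dotProduct_single, mul_one] at h2
    exact (map_eq_zero c.σ).1 h2

theorem comp_mulVec (A : Matrix (Fin m ⊕ Fin m) (Fin m ⊕ Fin m) F) (x : Fin m ⊕ Fin m → F) :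
    ⇑c.σ ∘ (A *ᵥ x) = (⇑c.σ ∘ x) ᵥ* st c A := by
  funext i
  simp [Matrix.mulVec, Matrix.vecMul, dotProduct, map_sum, st_apply, mul_comm]

theorem st_J_mul {A : Matrix (Fin m ⊕ Fin m) (Fin m ⊕ Fin m) F} (hA : A ∈ UJ c m) :
    st c A * J m F * A = J m F := by
  have h := (inv_aux c hA).2
  have h2 : J m F * (-(J m F * st c A * J m F) * A) = J m F * 1 := by rw [h]
  rw [neg_mul, mul_neg, mul_one, ← mul_assoc, ← mul_assoc, ← mul_assoc, J_mul_J, neg_mul, neg_mul, neg_mul,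
    one_mul, neg_neg] at h2
  exact h2

theorem skewB_preserves (A : UJ c m) (x y : Fin m ⊕ Fin m → F) :
    skewB c m δ (A.1.mulVecLin x) (A.1.mulVecLin y) = skewB c m δ x y := by
  rw [Matrix.mulVecLin_apply, Matrix.mulVecLin_apply, skewB_apply, skewB_apply, comp_mulVec,
    ← Matrix.dotProduct_mulVec, Matrix.mulVec_mulVec, Matrix.mulVec_mulVec, st_J_mul c A.2]

/-- the action on column vectors -/
noncomputable def toHU (hB : IsHerm (skewB c m δ)) : UJ c m →* HU (skewB c m δ) where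
  toFun A := hB.ofPreserves A.1.mulVecLin (skewB_preserves c δ A)
  map_one' := Subtype.ext (LinearEquiv.ext fun y => by
    rw [hB.ofPreserves_apply]
    simp)
  map_mul' A B := Subtype.ext (LinearEquiv.ext fun y => by
    rw [Subgroup.coe_mul, LinearEquiv.mul_apply, hB.ofPreserves_apply, hB.ofPreserves_apply, hB.ofPreserves_apply]
    simp [Matrix.mulVec_mulVec])

theorem toHU_apply (hB : IsHerm (skewB c m δ)) (A : UJ c m) (y : Fin m ⊕ Fin m → F) :
    (toHU c δ hB A : (Fin m ⊕ Fin m → F) ≃ₗ[F] (Fin m ⊕ Fin m → F)) y = A.1 *ᵥ y := rfl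

theorem toHU_injective (hB : IsHerm (skewB c m δ)) : Function.Injective (toHU c δ hB) := fun A B h => by
  refine Subtype.ext (Matrix.mulVec_injective ?_)
  funext y
  rw [← toHU_apply c δ hB A, h, toHU_apply]

theorem det_toHU (hB : IsHerm (skewB c m δ)) (A : UJ c m) :
    ((HU.det (skewB c m δ) (toHU c δ hB A) : Fˣ) : F) = A.1.det := by
  show ((LinearEquiv.det (toHU c δ hB A : (Fin m ⊕ Fin m → F) ≃ₗ[F] (Fin m ⊕ Fin m → F))) : Fˣ) = (_ : F)
  rw [LinearEquiv.coe_det, show ((toHU c δ hB A : (Fin m ⊕ Fin m → F) ≃ₗ[F] (Fin m ⊕ Fin m → F)) :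
      (Fin m ⊕ Fin m → F) →ₗ[F] (Fin m ⊕ Fin m → F)) = A.1.mulVecLin from LinearMap.ext fun y => rfl,
    ← Matrix.toLin'_apply', LinearMap.det_toLin']

theorem det_leviU (A : SpecialLinearGroup (Fin m) F) : (leviU c m A).1.det = 1 := by
  rw [coe_leviU, Matrix.det_fromBlocks_zero₂₁, A.2, (iot c (Fin m) A).2, one_mul]

theorem det_s2 (i : Fin m) (M : SpecialLinearGroup (Fin 2) c.K) : (s2 c i M).1.det = 1 := by
  let f : SpecialLinearGroup (Fin 2) c.K →* F :=
    (Matrix.detMonoidHom.comp (UJ c m).subtype).comp (s2 c i)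
  have h : f.ker = ⊤ := CfsgLib.Classical.closure_transvection_eq_top f.ker fun a b hab t => by
    rw [MonoidHom.mem_ker]
    show (u2m i (emK _)).det = 1
    have hd : ∀ x : F, (1 + Matrix.single i i x - Matrix.single i i x : Matrix (Fin m) (Fin m) F) = 1 := fun x =>
      add_sub_cancel_right _ _
    fin_cases a <;> fin_cases b <;> simp at hab <;>
      simp [u2m, emK_apply, SpecialLinearGroup.transvection_coe, Matrix.det_fromBlocks_zero₂₁,
        Matrix.det_fromBlocks_zero₁₂]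
  exact MonoidHom.mem_ker.1 (show M ∈ f.ker from h ▸ Subgroup.mem_top M)

variable {c} {G : Type*} [Group G]

/-- a faithful representation is onto the special unitary group -/
theorem Pre.exists_equiv [Finite F] (hδ : δ ≠ 0) (hs : c.σ δ = -δ) {R : Pre c (k + 1) G} {θ : G →* UJ c (k + 1)}
    (h : Pre.Rep R θ) (hk : 1 ≤ k) (hgen : R.gen = ⊤) : ∃ e : G ≃* HSU (skewB c (k + 1) δ), ∀ g,
      ((e g : HU (skewB c (k + 1) δ))) = toHU c δ (skewB_isHerm (m := k + 1) c δ hδ hs) (θ g) := by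
  have hB := skewB_isHerm (m := k + 1) c δ hδ hs
  obtain ⟨f, hf⟩ : ∃ f : G →* HU (skewB c (k + 1) δ), f = (toHU c δ hB).comp θ := ⟨_, rfl⟩
  have hinj : Function.Injective f := by
    rw [injective_iff_map_eq_one]
    intro g hg
    refine Pre.eq_one (by omega) h g (hgen ▸ Subgroup.mem_top g) (toHU_injective c δ hB ?_)
    rw [map_one, ← hg, hf]
    rfl
  have hdet : f.range ≤ HSU (skewB c (k + 1) δ) := by
    rw [MonoidHom.range_eq_map, ← hgen, Pre.gen, MonoidHom.map_closure, Subgroup.closure_le]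
    rintro _ ⟨x, (⟨A, rfl⟩ | hx), rfl⟩
    · rw [SetLike.mem_coe, MonoidHom.mem_ker, Units.ext_iff, Units.val_one, hf, MonoidHom.comp_apply, det_toHU,
        h.hψ, det_leviU]
    · obtain ⟨i, M, rfl⟩ := Set.mem_iUnion.1 hx
      rw [SetLike.mem_coe, MonoidHom.mem_ker, Units.ext_iff, Units.val_one, hf, MonoidHom.comp_apply, det_toHU,
        h.hφ, det_s2]
  have hsur : HSU (skewB c (k + 1) δ) ≤ f.range := by
    refine le_trans (hB.generated ?_ ?_) ((Subgroup.closure_le _).2 ?_)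
    · rw [Module.finrank_fintype_fun_eq_card]; simp; omega
    · rw [Module.finrank_fintype_fun_eq_card]; simp; omega
    rintro _ ⟨u, hu, e, he, rfl⟩
    by_cases hu0 : u = 0
    · subst hu0
      refine ⟨1, ?_⟩
      rw [map_one]
      refine Subtype.ext (LinearEquiv.ext fun y => ?_)
      rw [hB.tr_apply, smul_zero, add_zero]
      rfl
    obtain ⟨a, b, rfl⟩ : ∃ a b, u = Sum.elim a b := ⟨_, _, (Sum.elim_comp_inl_inr u).symm⟩
    have hab : c.σ (pr c a b) = pr c a b := by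
      rw [skewB_elim] at hu
      have h1 := sub_eq_zero.1 ((mul_eq_zero.1 hu).resolve_left hδ)
      have h2 : pr c a b = (⇑c.σ ∘ a) ⬝ᵥ b := rfl
      rw [h2, σ_dot, h1]
    obtain ⟨g, -, hge⟩ := Pre.exists_reach h hk hu0 hab
    have het : c.σ (-(e * δ)) = -(e * δ) := by
      rw [map_neg, map_mul, hs, eq_neg_of_add_eq_zero_right he]; ring
    have hev : skewB c (k + 1) δ (ev2 k F) (ev2 k F) = 0 := by
      rw [ev2, skewB_elim]; simp
    have hbase : f (R.φ 0 (xp ⟨-(e * δ), het⟩)) = hB.tr hev he := by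
      refine Subtype.ext (LinearEquiv.ext fun y => ?_)
      obtain ⟨y1, y2, rfl⟩ : ∃ y1 y2, y = Sum.elim y1 y2 := ⟨_, _, (Sum.elim_comp_inl_inr y).symm⟩
      rw [hf, MonoidHom.comp_apply, toHU_apply, h.hφ, hB.tr_apply, ev2, skewB_elim, coe_s2, u2m, xp_coe,
        Matrix.fromBlocks_mulVec]
      funext x
      rcases x with x | x
      · rcases eq_or_ne x 0 with rfl | hx
        · simp [emK_apply, ev, Matrix.mulVec, dotProduct, Matrix.single, Pi.single_apply, Matrix.one_apply,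
            apply_ite c.σ, mul_assoc]
        · simp [emK_apply, ev, Matrix.mulVec, dotProduct, Matrix.single, Pi.single_apply, Matrix.one_apply, hx,
            Ne.symm hx]
      · simp [emK_apply, ev]
    refine ⟨g * R.φ 0 (xp ⟨-(e * δ), het⟩) * g⁻¹, ?_⟩
    rw [map_mul, map_mul, map_inv, hbase, hB.conj_tr]
    congr 1
    rw [hf, MonoidHom.comp_apply, toHU_apply, hge]
  exact ⟨(MonoidHom.ofInjective hinj).trans (MulEquiv.subgroupCongr (le_antisymm hdet hsur)), fun g => by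
    show f g = _
    rw [hf]; rfl⟩

/-- a faithful representation is onto the special unitary group -/
theorem Pre.nonempty_equiv [Finite F] (hδ : δ ≠ 0) (hs : c.σ δ = -δ) {R : Pre c (k + 1) G} {θ : G →* UJ c (k + 1)}
    (h : Pre.Rep R θ) (hk : 1 ≤ k) (hgen : R.gen = ⊤) : Nonempty (G ≃* HSU (skewB c (k + 1) δ)) :=
  let ⟨e, _⟩ := Pre.exists_equiv δ hδ hs h hk hgen
  ⟨e⟩

end CfsgLib.Known.SUEven
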