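import Cfsg.Agent.Lib.Known.SUEven.UHom

/-!
# The images in the unitary group
-/

set_option autoImplicit false

namespace CfsgLib.Known.SUEven

open Matrix (SpecialLinearGroup fromBlocks single)
open CfsgLib.Known.SpBounded (mu mu_mu coe_mu xp xm wS xp_coe xm_coe wS_coe mu_xp mu_wS tA)
open CfsgLib.Classical.Herm (fixedSub)

variable {F : Type*} [Field F] {c : Conj F} {m : ℕ}

/-- the matrix of an element of the small group -/
def emK {c : Conj F} (M : Matrix (Fin 2) (Fin 2) c.K) : Matrix (Fin 2) (Fin 2) F :=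
  (fixedSub c.σ).subtype.mapMatrix M

theorem emK_apply (M : Matrix (Fin 2) (Fin 2) c.K) (a b : Fin 2) : emK M a b = (M a b : F) := rfl

/-- the matrix of a rank one group at one coordinate -/
def u2m (i : Fin m) (M : Matrix (Fin 2) (Fin 2) F) : Matrix (Fin m ⊕ Fin m) (Fin m ⊕ Fin m) F :=
  fromBlocks (1 + single i i (M 0 0 - 1)) (single i i (M 0 1)) (single i i (M 1 0)) (1 + single i i (M 1 1 - 1))

theorem u2m_mul (i : Fin m) (M N : Matrix (Fin 2) (Fin 2) F) : u2m i (M * N) = u2m i M * u2m i N := by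
  simp only [u2m, Matrix.fromBlocks_multiply, Matrix.fromBlocks_inj, Matrix.mul_apply, Fin.sum_univ_two, add_mul,
    mul_add, one_mul, mul_one, Matrix.single_mul_single_same, add_assoc, ← Matrix.single_add]
  refine ⟨?_, ?_, ?_, ?_⟩ <;> ext a b <;>
    simp only [Matrix.add_apply, Matrix.one_apply, Matrix.single, Matrix.of_apply] <;>
    split_ifs <;> ring

theorem u2m_one (i : Fin m) : u2m i (1 : Matrix (Fin 2) (Fin 2) F) = 1 := by
  simp [u2m, Matrix.fromBlocks_one]

theorem u2m_mem (i : Fin m) {M : Matrix (Fin 2) (Fin 2) F} (hM : M.det = 1) (hf : ∀ a b, c.σ (M a b) = M a b) :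
    u2m i M ∈ UJ c m := by
  rw [Matrix.det_fin_two] at hM
  rw [mem_UJ]
  simp only [u2m, J, Matrix.J, st_fromBlocks, Matrix.fromBlocks_multiply, Matrix.fromBlocks_inj,
    st_add, st_one, st_single, map_sub, map_one, hf, add_mul, mul_add, one_mul, mul_one,
    Matrix.mul_zero, Matrix.zero_mul, zero_add, add_zero, mul_neg, neg_mul, Matrix.single_mul_single_same,
    neg_add_rev, neg_neg]
  refine ⟨?_, ?_, ?_, ?_⟩ <;> ext a b <;>
    simp only [Matrix.add_apply, Matrix.neg_apply, Matrix.one_apply, Matrix.zero_apply, Matrix.single,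
      Matrix.of_apply] <;>
    split_ifs <;> first | ring1 | linear_combination hM | linear_combination -hM

/-- the rank one group at one coordinate -/
def s2 (c : Conj F) (i : Fin m) : SpecialLinearGroup (Fin 2) c.K →* UJ c m where
  toFun M := ⟨u2m i (emK M.1), u2m_mem i
    (by rw [emK, ← RingHom.map_det, M.2, map_one]) fun a b => c.fix (M.1 a b)⟩
  map_one' := Subtype.ext (by simp [emK, u2m_one])
  map_mul' M N := Subtype.ext (by
    show u2m i (emK (M * N).1) = u2m i (emK M.1) * u2m i (emK N.1)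
    rw [Matrix.SpecialLinearGroup.coe_mul, emK, map_mul, u2m_mul]
    rfl)

theorem coe_s2 (i : Fin m) (M : SpecialLinearGroup (Fin 2) c.K) :
    (s2 c i M : Matrix (Fin m ⊕ Fin m) (Fin m ⊕ Fin m) F) = u2m i (emK M.1) := rfl

theorem coe_leviU (A : SpecialLinearGroup (Fin m) F) :
    (leviU c m A : Matrix (Fin m ⊕ Fin m) (Fin m ⊕ Fin m) F) = fromBlocks A.1 0 0 (iot c (Fin m) A).1 := rfl

/-- exchanging the halves of the unitary group -/
def tau (c : Conj F) (m : ℕ) : UJ c m →* UJ c m where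
  toFun A := ⟨A.1.submatrix (Equiv.sumComm _ _) (Equiv.sumComm _ _), by
    have h := (mem_UJ c).1 A.2
    rw [mem_UJ]
    have e : (J m F).submatrix (Equiv.sumComm _ _) (Equiv.sumComm _ _) = -J m F := by
      ext a b
      rcases a with a | a <;> rcases b with b | b <;> simp [J, Matrix.J]
    obtain ⟨σ, hσ⟩ : ∃ σ, σ = Equiv.sumComm (Fin m) (Fin m) := ⟨_, rfl⟩
    rw [← hσ] at e ⊢
    have e2 : J m F = -((J m F).submatrix σ σ) := by rw [e, neg_neg]
    have es : st c (A.1.submatrix σ σ) = (st c A.1).submatrix σ σ := rfl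
    conv_lhs => arg 1; arg 2; rw [e2]
    rw [mul_neg, neg_mul, es, Matrix.submatrix_mul_equiv, Matrix.submatrix_mul_equiv, h, e, neg_neg]⟩
  map_one' := Subtype.ext (Matrix.submatrix_one_equiv (Equiv.sumComm (Fin m) (Fin m)))
  map_mul' A B := Subtype.ext (by
    show (A.1 * B.1).submatrix _ _ = _ * _
    exact (Matrix.submatrix_mul_equiv A.1 B.1 _ (Equiv.sumComm (Fin m) (Fin m)) _).symm)

theorem coe_tau (A : UJ c m) :
    (tau c m A : Matrix (Fin m ⊕ Fin m) (Fin m ⊕ Fin m) F) = A.1.submatrix (Equiv.sumComm _ _) (Equiv.sumComm _ _) :=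
  rfl

theorem tau_fromBlocks (A B C D : Matrix (Fin m) (Fin m) F) :
    (fromBlocks A B C D).submatrix (Equiv.sumComm (Fin m) (Fin m)) (Equiv.sumComm _ _) = fromBlocks D C B A := by
  ext a b
  rcases a with a | a <;> rcases b with b | b <;> simp

namespace Pre

variable {G : Type*} [Group G] (R : Pre c m G)

/-- the lower triangular elements -/
noncomputable def V (M : Matrix (Fin m) (Fin m) F) : G := R.flip.U M

theorem conj_V (hm : 2 ≤ m) (A : SpecialLinearGroup (Fin m) F) {M : Matrix (Fin m) (Fin m) F} (hM : IsH c M) :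
    R.ψ A * R.V M * (R.ψ A)⁻¹ = R.V ((iot c (Fin m) A).1 * M * st c (iot c (Fin m) A).1) := by
  have h := R.flip.conj_U hm (iot c (Fin m) A) hM
  simp only [Pre.flip, MonoidHom.comp_apply, iot_iot] at h
  exact h

theorem V_add (M N : Matrix (Fin m) (Fin m) F) : R.V (M + N) = R.V M * R.V N := R.flip.U_add M N
theorem V_zero : R.V 0 = 1 := R.flip.U_zero
theorem V_neg (M : Matrix (Fin m) (Fin m) F) : R.V (-M) = (R.V M)⁻¹ := R.flip.U_neg M
theorem V_Hm (i j : Fin m) (t : F) : R.V (Hm c i j t) = R.flip.uu i j t := R.flip.U_Hm i j t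

theorem V_diag (i : Fin m) (t : F) : R.V (Hm c i i t) = R.φ i (xm (c.π t)) := by
  rw [V_Hm, uu_self]
  simp [Pre.flip, mu_xp]

theorem U_diag (i : Fin m) (t : F) : R.U (Hm c i i t) = R.φ i (xp (c.π t)) := by rw [U_Hm, uu_self]

/-- compatibility with the unitary group -/
structure Rep (R : Pre c m G) (θ : G →* UJ c m) : Prop where
  hψ : ∀ A, θ (R.ψ A) = leviU c m A
  hφ : ∀ i M, θ (R.φ i M) = s2 c i M

variable {R} {θ : G →* UJ c m}

theorem Rep.flip (h : Rep R θ) : Rep R.flip ((tau c m).comp θ) where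
  hψ A := by
    refine Subtype.ext ?_
    simp only [Pre.flip, MonoidHom.comp_apply, h.hψ, coe_tau, coe_leviU, tau_fromBlocks, iot_iot]
  hφ i M := by
    refine Subtype.ext ?_
    simp only [Pre.flip, MonoidHom.comp_apply, h.hφ, coe_tau, coe_s2, u2m, tau_fromBlocks, coe_mu, emK_apply]
    simp

theorem θ_U (h : Rep R θ) {M : Matrix (Fin m) (Fin m) F} (hM : IsH c M) :
    (θ (R.U M) : Matrix (Fin m ⊕ Fin m) (Fin m ⊕ Fin m) F) = fromBlocks 1 M 0 1 := by
  refine herm_induction (P := fun M => (θ (R.U M) : Matrix (Fin m ⊕ Fin m) (Fin m ⊕ Fin m) F) = fromBlocks 1 M 0 1)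
    ?_ ?_ ?_ hM
  · rw [R.U_zero, map_one]; exact Matrix.fromBlocks_one.symm
  · intro A B _ _ ha hb
    rw [R.U_add, map_mul, Submonoid.coe_mul, ha, hb, Matrix.fromBlocks_multiply]
    simp [add_comm]
  · intro i j t
    rw [R.U_Hm]
    by_cases hij : i = j
    · subst hij
      rw [R.uu_self, h.hφ, coe_s2, u2m]
      simp only [emK_apply, xp_coe]
      simp [Hm]
    · rw [R.uu_ne hij, map_mul, map_mul, map_inv, h.hφ, h.hψ, ← map_inv (s2 c j), Submonoid.coe_mul,
        Submonoid.coe_mul, coe_s2, coe_s2, coe_leviU, ← mu_wS, coe_mu, iot_tr c hij]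
      simp only [SpecialLinearGroup.transvection_coe, wS_coe, u2m, emK_apply, Matrix.fromBlocks_multiply,
        Matrix.fromBlocks_inj]
      have hji : j ≠ i := Ne.symm hij
      simp [Hm, hij, hji, add_mul, mul_add, Matrix.single_mul_single_same, Matrix.single_mul_single_of_ne,
        ← Matrix.single_add]
      refine ⟨?_, ?_, ?_⟩ <;> ext a b <;>
        simp only [Matrix.add_apply, Matrix.one_apply, Matrix.single, Matrix.of_apply] <;>
        split_ifs <;> first | ring1 | simp_all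

theorem θ_V (h : Rep R θ) {M : Matrix (Fin m) (Fin m) F} (hM : IsH c M) :
    (θ (R.V M) : Matrix (Fin m ⊕ Fin m) (Fin m ⊕ Fin m) F) = fromBlocks 1 0 M 1 := by
  have h1 := θ_U h.flip hM
  rw [MonoidHom.comp_apply, coe_tau] at h1
  have h2 := congrArg (fun X => X.submatrix (Equiv.sumComm (Fin m) (Fin m)) (Equiv.sumComm _ _)) h1
  simp only [tau_fromBlocks, Matrix.submatrix_submatrix] at h2
  rw [← h2]
  ext a b
  rcases a with a | a <;> rcases b with b | b <;> rfl

end Pre

end CfsgLib.Known.SUEven
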