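import Cfsg.Agent.Lib.Known.SUEven.Kernel
import Cfsg.Agent.Lib.Known.SpBounded.Canon

/-!
# Signed permutations and the scaling automorphisms of the small group
-/

set_option autoImplicit false

namespace CfsgLib.Known.SUEven

open Matrix (SpecialLinearGroup)
open scoped Matrix
open CfsgLib.Known.SpBounded (msgn msgn_sq msgn_ne monoM monoM_apply monoM_mul_transpose mono coe_mono mono_single xp xm hd wS
  xp_coe xm_coe hd_coe wS_coe ev)

variable {F : Type*} [Field F] {c : Conj F} {k : ℕ}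

theorem σ_msgn (σ : Equiv.Perm (Fin (k + 2))) (l : Fin (k + 2)) : c.σ (msgn F σ l) = msgn F σ l := by
  unfold msgn
  split
  · exact map_intCast c.σ _
  · exact map_one c.σ

theorem iot_mono (σ : Equiv.Perm (Fin (k + 2))) : iot c _ (mono F σ) = mono F σ := by
  refine Subtype.ext ?_
  rw [coe_iot]
  have h1 := monoM_mul_transpose (F := F) σ
  have h2 : (mono F σ)⁻¹.1 * monoM F σ = 1 := by
    rw [← coe_mono, ← Matrix.SpecialLinearGroup.coe_mul, inv_mul_cancel, Matrix.SpecialLinearGroup.coe_one]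
  have h3 : (mono F σ)⁻¹.1 = (monoM F σ).transpose := by
    calc (mono F σ)⁻¹.1 = (mono F σ)⁻¹.1 * (monoM F σ * (monoM F σ).transpose) := by rw [h1, mul_one]
      _ = _ := by rw [← mul_assoc, h2, one_mul]
  rw [h3, coe_mono]
  ext a b
  simp [st_apply, monoM_apply, apply_ite c.σ, σ_msgn]

theorem iot_mono_single (σ : Equiv.Perm (Fin (k + 2))) (l : Fin (k + 2)) (x : F) :
    iot c _ (mono F σ) • (Pi.single l x : Fin (k + 2) → F) = Pi.single (σ l) (msgn F σ l * x) := by
  rw [iot_mono, mono_single]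

/-- conjugation of the small group by `diag(n, 1)` -/
def sc {K : Type*} [Field K] (n : Kˣ) : SpecialLinearGroup (Fin 2) K →* SpecialLinearGroup (Fin 2) K where
  toFun M := ⟨Matrix.of ![![M.1 0 0, M.1 0 1 * n], ![M.1 1 0 * (n⁻¹ : Kˣ), M.1 1 1]], by
    have h := M.2
    rw [Matrix.det_fin_two] at h ⊢
    simp
    field_simp
    linear_combination h⟩
  map_one' := Subtype.ext (by ext i j; fin_cases i <;> fin_cases j <;> simp)
  map_mul' M N := Subtype.ext (by
    show _ = (_ : Matrix (Fin 2) (Fin 2) K) * _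
    ext i j
    fin_cases i <;> fin_cases j <;> simp [Matrix.mul_apply, Fin.sum_univ_two] <;> field_simp)

theorem sc_coe {K : Type*} [Field K] (n : Kˣ) (M : SpecialLinearGroup (Fin 2) K) :
    (sc n M : Matrix (Fin 2) (Fin 2) K) = !![M.1 0 0, M.1 0 1 * n; M.1 1 0 * (n⁻¹ : Kˣ), M.1 1 1] := rfl

theorem sc_one {K : Type*} [Field K] (M : SpecialLinearGroup (Fin 2) K) : sc (1 : Kˣ) M = M := Subtype.ext (by
  rw [sc_coe]
  ext i j
  fin_cases i <;> fin_cases j <;> simp)

theorem sc_mul {K : Type*} [Field K] (m n : Kˣ) (M : SpecialLinearGroup (Fin 2) K) :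
    sc (m * n) M = sc m (sc n M) := Subtype.ext (by
  rw [sc_coe, sc_coe, sc_coe]
  ext i j
  fin_cases i <;> fin_cases j <;> simp <;> field_simp)

theorem sc_hd {K : Type*} [Field K] (n : Kˣ) {a : K} (ha : a ≠ 0) : sc n (hd a ha) = hd a ha := Subtype.ext (by
  rw [sc_coe, hd_coe]
  ext i j
  fin_cases i <;> fin_cases j <;> simp)

theorem sc_xp {K : Type*} [Field K] (n : Kˣ) (t : K) : sc n (xp t) = xp ((n : K) * t) := Subtype.ext (by
  rw [sc_coe, xp_coe, xp_coe]
  ext i j
  fin_cases i <;> fin_cases j <;> simp [mul_comm])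

theorem sc_xm {K : Type*} [Field K] (n : Kˣ) (t : K) : sc n (xm t) = xm ((n : K)⁻¹ * t) := Subtype.ext (by
  rw [sc_coe, xm_coe, xm_coe]
  ext i j
  fin_cases i <;> fin_cases j <;> simp [mul_comm])

theorem sc_wS {K : Type*} [Field K] (n : Kˣ) : sc n (wS K) = hd (n : K) n.ne_zero * wS K := Subtype.ext (by
  rw [sc_coe, Matrix.SpecialLinearGroup.coe_mul, hd_coe, wS_coe]
  ext i j
  fin_cases i <;> fin_cases j <;> simp)

/-- the norm as a unit -/
def Nu (c : Conj F) (a : Fˣ) : c.Kˣ := Units.mk0 (c.N (a : F)) (c.N_ne a.ne_zero)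

theorem Nu_mul (a b : Fˣ) : Nu c (a * b) = Nu c a * Nu c b :=
  Units.ext (by simp [Nu, Conj.N_mul])

theorem Nu_one : Nu c 1 = 1 := Units.ext (by simp [Nu, Conj.N_one])

end CfsgLib.Known.SUEven
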