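import Cfsg.Agent.Lib.Known.SUEven.Blk
import Cfsg.Agent.Lib.Known.SpBounded.Orbit

/-!
# The orbit of the first coordinate vector
-/

set_option autoImplicit false

namespace CfsgLib.Known.SUEven

open Matrix (SpecialLinearGroup fromBlocks)
open CfsgLib.Known.SpBounded (pad pad_ext pad_add pad_zero bs coe_bs ev mulVec_ev fix_mem mu mu_mu xp xm hd wS xp_coe xm_coe hd_coe
  wS_coe mu_xp mu_wS tA)
open CfsgLib.Classical.Herm (fixedSub)

variable {F : Type*} [Field F] {c : Conj F}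

theorem coe_iot_inv {ι : Type*} [Fintype ι] [DecidableEq ι] (A : SpecialLinearGroup ι F) :
    (iot c ι A⁻¹ : Matrix ι ι F) = st c A.1 := by
  rw [coe_iot, inv_inv]

theorem isH_conj {m : ℕ} {M : Matrix (Fin m) (Fin m) F} (hM : IsH c M) (B : Matrix (Fin m) (Fin m) F) :
    IsH c (B * M * st c B) := by
  show st c (B * M * st c B) = _
  rw [st_mul, st_mul, st_st, hM.eq, Matrix.mul_assoc]

open CfsgLib.Known.SpBounded (smul_eq_mv wS_conj_xm hd_mul_inv xm_switch)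

namespace Pre

variable {G : Type*} [Group G]

/-- the subgroup generated by the given groups -/
def gen {m : ℕ} (R : Pre c m G) : Subgroup G := Subgroup.closure (Set.range R.ψ ∪ ⋃ i, Set.range (R.φ i))

theorem ψ_mem_gen {m : ℕ} (R : Pre c m G) (A : SpecialLinearGroup (Fin m) F) : R.ψ A ∈ R.gen :=
  Subgroup.subset_closure (Or.inl ⟨A, rfl⟩)

theorem φ_mem_gen {m : ℕ} (R : Pre c m G) (i : Fin m) (A : SpecialLinearGroup (Fin 2) c.K) : R.φ i A ∈ R.gen :=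
  Subgroup.subset_closure (Or.inr (Set.mem_iUnion.2 ⟨i, A, rfl⟩))

theorem U_mem_gen {m : ℕ} (R : Pre c m G) {M : Matrix (Fin m) (Fin m) F} (hM : IsH c M) : R.U M ∈ R.gen := by
  refine herm_induction (P := fun M => R.U M ∈ R.gen) ?_ ?_ (fun i j t => ?_) hM
  · rw [R.U_zero]; exact one_mem _
  · intro A B _ _ ha hb; rw [R.U_add]; exact mul_mem ha hb
  · rw [R.U_Hm, uu]
    split
    · exact R.φ_mem_gen _ _
    · exact mul_mem (mul_mem (R.φ_mem_gen _ _) (R.ψ_mem_gen _)) (inv_mem (R.φ_mem_gen _ _))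

theorem V_mem_gen {m : ℕ} (R : Pre c m G) {M : Matrix (Fin m) (Fin m) F} (hM : IsH c M) : R.V M ∈ R.gen := by
  refine (Subgroup.closure_le _).2 ?_ (R.flip.U_mem_gen hM)
  rintro x (⟨A, rfl⟩ | hx)
  · exact R.ψ_mem_gen _
  · obtain ⟨i, A, rfl⟩ := Set.mem_iUnion.1 hx
    exact R.φ_mem_gen _ _

theorem φ_mem_of {m : ℕ} (R : Pre c m G) (i : Fin m) (H : Subgroup G) (hU : ∀ t, R.U (Hm c i i t) ∈ H)
    (hV : ∀ t, R.V (Hm c i i t) ∈ H) (M : SpecialLinearGroup (Fin 2) c.K) : R.φ i M ∈ H := by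
  have := CfsgLib.Classical.closure_transvection_eq_top (H.comap (R.φ i)) fun a b hab t => by
    show R.φ i (SpecialLinearGroup.transvection hab t) ∈ H
    fin_cases a <;> fin_cases b <;> first | exact absurd rfl hab | skip
    · show R.φ i (xp t) ∈ H
      rw [← c.π_coe t, ← R.U_diag]; exact hU _
    · show R.φ i (xm t) ∈ H
      rw [← c.π_coe t, ← R.V_diag]; exact hV _
  exact (show M ∈ H.comap (R.φ i) from this ▸ Subgroup.mem_top M)

variable {k : ℕ} (R : Pre c (k + 1) G)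

/-- the stabiliser -/
noncomputable def P1 : Subgroup G := Subgroup.closure
  (R.ψ '' {A | A.1.mulVec (ev k F) = ev k F} ∪ R.U '' {M | IsH c M} ∪
    R.V '' {M | IsH c M ∧ M.mulVec (ev k F) = 0})

theorem ψ_mem_P1 {A : SpecialLinearGroup (Fin (k + 1)) F} (h : A.1.mulVec (ev k F) = ev k F) : R.ψ A ∈ R.P1 :=
  Subgroup.subset_closure (Or.inl (Or.inl ⟨A, h, rfl⟩))

theorem U_mem_P1 {M : Matrix (Fin (k + 1)) (Fin (k + 1)) F} (h : IsH c M) : R.U M ∈ R.P1 :=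
  Subgroup.subset_closure (Or.inl (Or.inr ⟨M, h, rfl⟩))

theorem V_mem_P1 {M : Matrix (Fin (k + 1)) (Fin (k + 1)) F} (h : IsH c M) (h' : M.mulVec (ev k F) = 0) :
    R.V M ∈ R.P1 :=
  Subgroup.subset_closure (Or.inr ⟨M, ⟨h, h'⟩, rfl⟩)

theorem uu_mem_P1 (i j : Fin (k + 1)) (t : F) : R.uu i j t ∈ R.P1 := by
  rw [← R.U_Hm]; exact R.U_mem_P1 (Hm_isH _ _ _)

theorem tA_fix {a b : Fin (k + 1)} (hab : a ≠ b) (hb : b ≠ 0) (t : F) :
    (tA hab t).1.mulVec (ev k F) = ev k F := by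
  funext i
  rw [mulVec_ev, SpecialLinearGroup.transvection_coe, ev, Pi.single_apply]
  simp [Matrix.one_apply, Matrix.single, hb]

theorem Hm_fix {a b : Fin (k + 1)} (ha : a ≠ 0) (hb : b ≠ 0) (t : F) :
    (Hm c a b t).mulVec (ev k F) = 0 := by
  funext i
  rw [mulVec_ev]
  by_cases h : a = b
  · subst h; simp [Hm_self_apply, ha.symm]
  · simp [Hm_apply h, ha.symm, hb.symm]

theorem φ_mem_P1 {j : Fin (k + 1)} (hj : j ≠ 0) (M : SpecialLinearGroup (Fin 2) c.K) : R.φ j M ∈ R.P1 :=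
  R.φ_mem_of j _ (fun _ => R.U_mem_P1 (Hm_isH _ _ _)) (fun t => R.V_mem_P1 (Hm_isH _ _ _) (Hm_fix hj hj t)) M

theorem comm0_uu {i j : Fin (k + 1)} (hi : i ≠ 0) (hj : j ≠ 0) (M : SpecialLinearGroup (Fin 2) c.K) (t : F) :
    Commute (R.φ 0 M) (R.uu i j t) := by
  unfold uu
  split
  · exact R.long 0 i hi.symm _ _
  · rename_i hij
    have h1 : Commute (R.φ 0 M) (R.φ j (wS c.K)) := R.long 0 j hj.symm _ _
    exact (h1.mul_right (R.fix 0 i j hij hi hj _ _)).mul_right h1.inv_right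

theorem comm0_U {S : Matrix (Fin (k + 1)) (Fin (k + 1)) F} (hS : IsH c S) (h : S.mulVec (ev k F) = 0)
    (M : SpecialLinearGroup (Fin 2) c.K) : Commute (R.φ 0 M) (R.U S) := by
  rw [eq_pad_of_isH hS h]
  refine herm_induction (P := fun S => Commute (R.φ 0 M) (R.U (pad 0 S))) ?_ ?_ (fun a b t => ?_) (hS.submatrix _)
  · rw [pad_zero, R.U_zero]; exact Commute.one_right _
  · intro A B _ _ ha hb
    have e : pad (0 : F) (A + B) = pad 0 A + pad 0 B := by rw [pad_add, add_zero]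
    rw [e, R.U_add]
    exact ha.mul_right hb
  · rw [pad_Hm, R.U_Hm]
    exact R.comm0_uu (Fin.succ_ne_zero a) (Fin.succ_ne_zero b) M t

theorem comm0_V {S : Matrix (Fin (k + 1)) (Fin (k + 1)) F} (hS : IsH c S) (h : S.mulVec (ev k F) = 0)
    (M : SpecialLinearGroup (Fin 2) c.K) : Commute (R.φ 0 M) (R.V S) := by
  have := R.flip.comm0_U hS h (mu c.K M)
  simp only [Pre.flip, MonoidHom.comp_apply, mu_mu] at this
  exact this

theorem conj_col {j : Fin (k + 1)} (hj : j ≠ 0) (t : F) :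
    (R.φ 0 (wS c.K))⁻¹ * R.ψ (tA hj t) * R.φ 0 (wS c.K) = R.uu j 0 t := by
  rw [R.hd_w_col hj, R.uu_ne hj]

theorem V_0j {j : Fin (k + 1)} (hj : j ≠ 0) (t : F) :
    R.V (Hm c 0 j t) = (R.φ 0 (wS c.K))⁻¹ * R.ψ (tA hj.symm t) * R.φ 0 (wS c.K) := by
  rw [R.V_Hm, R.flip.uu_symm hj.symm, R.flip.uu_ne hj]
  simp only [Pre.flip, MonoidHom.comp_apply, iot_tr, mu_wS, map_inv, inv_inv, map_neg, neg_neg, c.σσ]

theorem conj_ψ {C : SpecialLinearGroup (Fin (k + 1)) F} (h : (iot c _ C).1.mulVec (ev k F) = ev k F) :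
    (R.φ 0 (wS c.K))⁻¹ * R.ψ C * R.φ 0 (wS c.K) ∈ R.P1 := by
  let H : Subgroup (SpecialLinearGroup (Fin (k + 1)) F) :=
    R.P1.comap ((MulAut.conj (R.φ 0 (wS c.K))⁻¹).toMonoidHom.comp (R.ψ.comp (iot c _)))
  have hm : iot c _ C ∈ H := fix_mem H (fun a b hab hb t => by
    show (R.φ 0 (wS c.K))⁻¹ * R.ψ (iot c _ (tA hab t)) * (R.φ 0 (wS c.K))⁻¹⁻¹ ∈ R.P1
    rw [inv_inv, iot_tr]
    by_cases ha : a = 0
    · subst ha
      rw [R.conj_col hb]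
      exact R.uu_mem_P1 _ _ _
    · rw [mul_assoc, ← (R.fix 0 b a hab.symm hb ha (wS c.K) (-c.σ t)).eq, inv_mul_cancel_left]
      exact R.ψ_mem_P1 (tA_fix hab.symm ha _)) h
  have hm' : (R.φ 0 (wS c.K))⁻¹ * R.ψ (iot c _ (iot c _ C)) * (R.φ 0 (wS c.K))⁻¹⁻¹ ∈ R.P1 := hm
  rwa [iot_iot, inv_inv] at hm'

theorem conj_V0 {S : Matrix (Fin (k + 1)) (Fin (k + 1)) F} (hS : IsH c S) :
    (R.φ 0 (wS c.K))⁻¹ * R.V S * R.φ 0 (wS c.K) ∈ R.P1 := by
  refine herm_induction (P := fun S => (R.φ 0 (wS c.K))⁻¹ * R.V S * R.φ 0 (wS c.K) ∈ R.P1) ?_ ?_ (fun a b t => ?_) hS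
  · rw [R.V_zero, mul_one, inv_mul_cancel]; exact one_mem _
  · intro A B _ _ ha hb
    rw [R.V_add, show (R.φ 0 (wS c.K))⁻¹ * (R.V A * R.V B) * R.φ 0 (wS c.K) =
      ((R.φ 0 (wS c.K))⁻¹ * R.V A * R.φ 0 (wS c.K)) * ((R.φ 0 (wS c.K))⁻¹ * R.V B * R.φ 0 (wS c.K)) by group]
    exact mul_mem ha hb
  · have h0 : ∀ (j : Fin (k + 1)) (_ : j ≠ 0) (t : F),
        (R.φ 0 (wS c.K))⁻¹ * R.V (Hm c 0 j t) * R.φ 0 (wS c.K) ∈ R.P1 := by
      intro j hj t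
      rw [R.V_0j hj, R.hd_w_row hj.symm]
      have e : (R.φ 0 (wS c.K))⁻¹ * (R.φ 0 (wS c.K) * R.ψ (tA hj.symm (-t)) * (R.φ 0 (wS c.K))⁻¹) * R.φ 0 (wS c.K) =
          R.ψ (tA hj.symm (-t)) := by group
      rw [e]
      exact R.ψ_mem_P1 (tA_fix hj.symm hj _)
    by_cases ha : a = 0
    · subst ha
      by_cases hb : b = 0
      · subst hb
        rw [R.V_diag, ← map_inv, ← map_mul, ← map_mul, wS_conj_xm, ← map_neg c.π, ← R.U_diag]
        exact R.U_mem_P1 (Hm_isH _ _ _)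
      · exact h0 b hb t
    · by_cases hb : b = 0
      · subst hb; rw [Hm_comm ha]; exact h0 a ha _
      · rw [mul_assoc, ← (R.comm0_V (Hm_isH a b t) (Hm_fix ha hb t) (wS c.K)).eq, inv_mul_cancel_left]
        exact R.V_mem_P1 (Hm_isH _ _ _) (Hm_fix ha hb t)

theorem V_ψ (hk : 1 ≤ k) (A : SpecialLinearGroup (Fin (k + 1)) F) {S : Matrix (Fin (k + 1)) (Fin (k + 1)) F}
    (hS : IsH c S) : R.V S * R.ψ A = R.ψ A * R.V (st c A.1 * S * A.1) := by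
  have h := R.conj_V (by omega) A⁻¹ hS
  rw [coe_iot_inv, st_st, map_inv, inv_inv] at h
  rw [← h]; group

theorem U_ψ (hk : 1 ≤ k) (A : SpecialLinearGroup (Fin (k + 1)) F) {S : Matrix (Fin (k + 1)) (Fin (k + 1)) F}
    (hS : IsH c S) : R.U S * R.ψ A = R.ψ A * R.U ((A⁻¹).1 * S * (iot c _ A).1) := by
  have h := R.conj_U (by omega) A⁻¹ hS
  rw [← coe_iot, map_inv, inv_inv] at h
  rw [← h]; group

theorem coset1 (hk : 1 ≤ k) {A A' : SpecialLinearGroup (Fin (k + 1)) F}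
    {S S' : Matrix (Fin (k + 1)) (Fin (k + 1)) F} (hS : IsH c S) (hS' : IsH c S')
    (h1 : A'.1.mulVec (ev k F) = A.1.mulVec (ev k F))
    (h2 : S.mulVec (A.1.mulVec (ev k F)) = S'.mulVec (A.1.mulVec (ev k F))) :
    (R.V S * R.ψ A)⁻¹ * (R.V S' * R.ψ A') ∈ R.P1 := by
  have e : (R.V S * R.ψ A)⁻¹ * (R.V S' * R.ψ A') =
      (R.ψ A)⁻¹ * (R.V (-S + S') * R.ψ A) * R.ψ (A⁻¹ * A') := by
    rw [R.V_add, R.V_neg, map_mul, map_inv]; group
  rw [e, R.V_ψ hk A (hS.neg.add hS'), inv_mul_cancel_left]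
  refine mul_mem (R.V_mem_P1 ?_ ?_) (R.ψ_mem_P1 ?_)
  · simpa [st_st] using isH_conj (hS.neg.add hS') (st c A.1)
  · rw [← Matrix.mulVec_mulVec, ← Matrix.mulVec_mulVec, Matrix.add_mulVec, Matrix.neg_mulVec, h2,
      neg_add_cancel, Matrix.mulVec_zero]
  · simp only [smul_eq_mv] at h1 ⊢
    rw [mul_smul, h1, inv_smul_smul]

theorem coset2 (hk : 1 ≤ k) {A A' : SpecialLinearGroup (Fin (k + 1)) F}
    {S S' : Matrix (Fin (k + 1)) (Fin (k + 1)) F} (hS : IsH c S) (hS' : IsH c S')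
    (h1 : (iot c _ A').1.mulVec (ev k F) = (iot c _ A).1.mulVec (ev k F))
    (h2 : S.mulVec ((iot c _ A).1.mulVec (ev k F)) = S'.mulVec ((iot c _ A).1.mulVec (ev k F))) :
    (R.U S * R.ψ A * R.φ 0 (wS c.K))⁻¹ * (R.U S' * R.ψ A' * R.φ 0 (wS c.K)) ∈ R.P1 := by
  have e : (R.U S * R.ψ A * R.φ 0 (wS c.K))⁻¹ * (R.U S' * R.ψ A' * R.φ 0 (wS c.K)) =
      (R.φ 0 (wS c.K))⁻¹ * ((R.ψ A)⁻¹ * (R.U (-S + S') * R.ψ A)) * R.φ 0 (wS c.K) *
        ((R.φ 0 (wS c.K))⁻¹ * R.ψ (A⁻¹ * A') * R.φ 0 (wS c.K)) := by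
    rw [R.U_add, R.U_neg, map_mul, map_inv]; group
  have hM : IsH c ((A⁻¹).1 * (-S + S') * (iot c _ A).1) := by
    rw [coe_iot]; exact isH_conj (hS.neg.add hS') _
  have hM0 : ((A⁻¹).1 * (-S + S') * (iot c _ A).1).mulVec (ev k F) = 0 := by
    rw [← Matrix.mulVec_mulVec, ← Matrix.mulVec_mulVec, Matrix.add_mulVec, Matrix.neg_mulVec, h2,
      neg_add_cancel, Matrix.mulVec_zero]
  rw [e, R.U_ψ hk A (hS.neg.add hS'), inv_mul_cancel_left]
  refine mul_mem ?_ (R.conj_ψ ?_)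
  · rw [mul_assoc, ← (R.comm0_U hM hM0 (wS c.K)).eq, inv_mul_cancel_left]
    exact R.U_mem_P1 hM
  · simp only [smul_eq_mv] at h1 ⊢
    rw [map_mul, map_inv, mul_smul, h1, inv_smul_smul]

theorem conj_φ0 (hk : 1 ≤ k) {A : SpecialLinearGroup (Fin (k + 1)) F} {j : Fin (k + 1)} {e d : F}
    (hA : A.1.mulVec (ev k F) = Pi.single j e) (hA' : (iot c _ A).1.mulVec (ev k F) = Pi.single j d)
    (M : SpecialLinearGroup (Fin 2) c.K) : R.ψ A * R.φ 0 M * (R.ψ A)⁻¹ ∈ (R.φ j).range := by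
  have hcol : ∀ (B : SpecialLinearGroup (Fin (k + 1)) F) (e : F), B.1.mulVec (ev k F) = Pi.single j e →
      ∀ t : c.K, B.1 * Hm c 0 0 (t : F) * st c B.1 = Hm c j j ((c.N e * t : c.K) : F) := by
    intro B e hB t
    have hi : ∀ i, B.1 i 0 = if i = j then e else 0 := fun i => by
      refine ((mulVec_ev _ i).symm.trans (congrFun hB i)).trans ?_
      rw [Pi.single_apply]
    ext a b
    rw [Hm_self_apply, c.π_coe, Matrix.mul_apply, Finset.sum_eq_single 0]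
    · rw [Matrix.mul_apply, Finset.sum_eq_single 0]
      · simp [Hm_self_apply, c.π_coe, st_apply, hi]
        split_ifs <;> simp_all [Conj.N_coe, mul_right_comm]
      · intro x _ hx; simp [Hm_self_apply, hx]
      · simp
    · intro x _ hx
      rw [Matrix.mul_apply, Finset.sum_eq_zero (fun y _ => by simp [Hm_self_apply, hx]), zero_mul]
    · simp
  have := CfsgLib.Classical.closure_transvection_eq_top
    ((R.φ j).range.comap ((MulAut.conj (R.ψ A)).toMonoidHom.comp (R.φ 0))) fun a b hab t => by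
      show R.ψ A * R.φ 0 (SpecialLinearGroup.transvection hab t) * (R.ψ A)⁻¹ ∈ (R.φ j).range
      fin_cases a <;> fin_cases b <;> first | exact absurd rfl hab | skip
      · show R.ψ A * R.φ 0 (xp t) * (R.ψ A)⁻¹ ∈ (R.φ j).range
        rw [← c.π_coe t, ← R.U_diag, R.conj_U (by omega) A (Hm_isH _ _ _),
          hcol A e hA t, R.U_diag]
        exact ⟨_, rfl⟩
      · show R.ψ A * R.φ 0 (xm t) * (R.ψ A)⁻¹ ∈ (R.φ j).range
        rw [← c.π_coe t, ← R.V_diag, R.conj_V (by omega) A (Hm_isH _ _ _),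
          hcol (iot c _ A) d hA' t, R.V_diag]
        exact ⟨_, rfl⟩
  exact this.ge (Subgroup.mem_top M)

/-- the switch at the canonical vectors -/
theorem switch_canon (hk : 1 ≤ k) (j : Fin (k + 1)) {β : F} (hβ : β ≠ 0) (hreal : j = 0 → c.σ β = β) :
    ∃ S A, IsH c S ∧ (R.U S * R.ψ A * R.φ 0 (wS c.K))⁻¹ * R.V (Hm c 0 j β) ∈ R.P1 := by
  obtain ⟨W, hW⟩ : ∃ W, W = R.φ 0 (wS c.K) := ⟨_, rfl⟩
  by_cases hj : j = 0
  · subst hj
    obtain ⟨b, rfl⟩ : ∃ b : c.K, (b : F) = β := ⟨⟨β, hreal rfl⟩, rfl⟩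
    have hb : b ≠ 0 := fun e => hβ (by rw [e]; rfl)
    have hl : (0 : Fin (k + 1)) ≠ Fin.last k := fun e => by
      have := congrArg Fin.val e
      simp at this
      omega
    have hc : -b⁻¹ ≠ (0 : c.K) := neg_ne_zero.2 (inv_ne_zero hb)
    refine ⟨Hm c 0 0 ((b⁻¹ : c.K) : F), SpecialLinearGroup.diag2n hl ((-b⁻¹ : c.K) : F) (c.coe_ne hc), Hm_isH _ _ _, ?_⟩
    have hd0 : R.φ 0 (hd (-b⁻¹) hc) =
        R.ψ (SpecialLinearGroup.diag2n hl ((-b⁻¹ : c.K) : F) (c.coe_ne hc)) * R.φ (Fin.last k) (hd (-b⁻¹) hc) := by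
      rw [R.tor 0 (Fin.last k) hl _ hc, mul_assoc, ← map_mul, hd_mul_inv, map_one, mul_one]
    have hcm : Commute (R.φ (Fin.last k) (hd (-b⁻¹) hc)) W := hW ▸ (R.long 0 (Fin.last k) hl _ _).symm
    rw [R.V_diag, c.π_coe, xm_switch hb, map_mul, map_mul, map_mul, hd0, ← hW, R.U_diag, c.π_coe]
    rw [show R.φ 0 (xp b⁻¹) * (R.ψ (SpecialLinearGroup.diag2n hl ((-b⁻¹ : c.K) : F) (c.coe_ne hc)) *
        R.φ (Fin.last k) (hd (-b⁻¹) hc)) * W =
      R.φ 0 (xp b⁻¹) * R.ψ (SpecialLinearGroup.diag2n hl ((-b⁻¹ : c.K) : F) (c.coe_ne hc)) *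
        (R.φ (Fin.last k) (hd (-b⁻¹) hc) * W) by group,
      hcm.eq]
    simp only [mul_assoc, inv_mul_cancel_left, mul_inv_rev]
    refine mul_mem (R.φ_mem_P1 hl.symm _) ?_
    rw [← c.π_coe b⁻¹, ← R.U_diag]; exact R.U_mem_P1 (Hm_isH _ _ _)
  · obtain ⟨X, hX⟩ : ∃ X, X = tA hj β⁻¹ * tA (Ne.symm hj) (-β) * tA hj β⁻¹ := ⟨_, rfl⟩
    have hσβ : c.σ β ≠ 0 := fun e => hβ ((map_eq_zero c.σ).1 e)
    refine ⟨Hm c j 0 β⁻¹, X⁻¹, Hm_isH _ _ _, ?_⟩
    have e : tA (Ne.symm hj) β = tA hj β⁻¹ * X⁻¹ * tA hj β⁻¹ := by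
      rw [hX, show tA (Ne.symm hj) (-β) = (tA (Ne.symm hj) β)⁻¹ from
        (Matrix.SpecialLinearGroup.transvection_inv (Ne.symm hj) β).symm]
      group
    obtain ⟨a, ha⟩ := R.conj_φ0 hk (A := X) (j := j) (e := β⁻¹) (d := c.σ β) (by
      rw [smul_eq_mv]; funext i
      simp only [hX, tA, mul_smul, CfsgLib.Classical.transvection_smul_apply, ev, Pi.single_apply]
      by_cases hi : i = j
      · subst hi; simp [hj, Ne.symm hj, hβ]
      · by_cases h0 : i = 0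
        · subst h0; simp [hj, Ne.symm hj, hβ]
        · simp [hi, h0]) (by
      rw [smul_eq_mv]; funext i
      simp only [hX, map_mul, iot_tr, tA, mul_smul, CfsgLib.Classical.transvection_smul_apply, ev, Pi.single_apply,
        map_neg, map_inv₀, neg_neg]
      by_cases hi : i = j
      · subst hi; simp [hj, Ne.symm hj, hσβ]
      · by_cases h0 : i = 0
        · subst h0; simp [hj, Ne.symm hj, hσβ]
        · simp [hi, h0]) (wS c.K)⁻¹
    rw [map_inv (R.φ 0), ← hW] at ha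
    have hcm : Commute (R.φ j a) W := hW ▸ (R.long 0 j (Ne.symm hj) _ _).symm
    have hw : W⁻¹ * (R.ψ X)⁻¹ * W = (R.ψ X)⁻¹ * W * R.φ j a := by
      rw [mul_assoc ((R.ψ X)⁻¹), ← hcm.eq, ha]; group
    rw [R.V_0j hj, e, map_mul, map_mul, map_inv, R.U_Hm, ← hW,
      show W⁻¹ * (R.ψ (tA hj β⁻¹) * (R.ψ X)⁻¹ * R.ψ (tA hj β⁻¹)) * W =
        (W⁻¹ * R.ψ (tA hj β⁻¹) * W) * (W⁻¹ * (R.ψ X)⁻¹ * W) * (W⁻¹ * R.ψ (tA hj β⁻¹) * W) by group,
      hw, hW, R.conj_col hj]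
    simp only [mul_assoc, inv_mul_cancel_left, mul_inv_rev, inv_inv, mul_inv_cancel_left]
    exact mul_mem (R.φ_mem_P1 hj _) (R.uu_mem_P1 _ _ _)

/-- the switch -/
theorem switch (hk : 1 ≤ k) {A : SpecialLinearGroup (Fin (k + 1)) F} {S : Matrix (Fin (k + 1)) (Fin (k + 1)) F}
    (hS : IsH c S) (hb : S.mulVec (A.1.mulVec (ev k F)) ≠ 0) :
    ∃ S' A', IsH c S' ∧ (R.U S' * R.ψ A' * R.φ 0 (wS c.K))⁻¹ * (R.V S * R.ψ A) ∈ R.P1 := by
  obtain ⟨v, hv⟩ : ∃ v, v = (st c A.1).mulVec (S.mulVec (A.1.mulVec (ev k F))) := ⟨_, rfl⟩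
  have hv0 : v ≠ 0 := by
    intro h
    apply hb
    rw [hv, ← coe_iot_inv] at h
    simp only [smul_eq_mv] at h ⊢
    rwa [smul_eq_zero_iff_eq] at h
  have hreal : c.σ (v 0) = v 0 := by
    have hT : IsH c (st c A.1 * S * A.1) := by simpa [st_st] using isH_conj hS (st c A.1)
    have e : v 0 = (st c A.1 * S * A.1) 0 0 := by
      rw [hv, Matrix.mulVec_mulVec, Matrix.mulVec_mulVec, mulVec_ev]
    rw [e, hT.apply]
  obtain ⟨j, hvj, hj0⟩ : ∃ j, v j ≠ 0 ∧ (j = 0 ∨ v 0 = 0) := by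
    by_cases h : v 0 = 0
    · obtain ⟨j, hj⟩ := Function.ne_iff.1 hv0
      exact ⟨j, hj, Or.inr h⟩
    · exact ⟨0, h, Or.inl rfl⟩
  obtain ⟨β, hβ⟩ : ∃ β, β = v j := ⟨_, rfl⟩
  have hβ0 : β ≠ 0 := hβ ▸ hvj
  obtain ⟨u, hu⟩ : ∃ u, u = β⁻¹ • v - Pi.single j 1 := ⟨_, rfl⟩
  have huj : u j = 0 := by simp [hu, hβ, hvj]
  have hu0 : u 0 = 0 := by
    rcases hj0 with rfl | h
    · exact huj
    · have : j ≠ 0 := fun e => hvj (e ▸ h)
      simp [hu, h, Pi.single_eq_of_ne this.symm]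
  have hdet : (1 + Matrix.vecMulVec u (Pi.single j 1)).det = 1 := by
    rw [Matrix.vecMulVec_eq Unit, Matrix.det_one_add_replicateCol_mul_replicateRow, single_one_dotProduct, huj,
      add_zero]
  let D : SpecialLinearGroup (Fin (k + 1)) F := ⟨_, hdet⟩
  have hDβ : D • (Pi.single j β : Fin (k + 1) → F) = v := by
    rw [← smul_eq_mv]
    show (1 + Matrix.vecMulVec u (Pi.single j 1)).mulVec _ = v
    rw [Matrix.add_mulVec, Matrix.one_mulVec, Matrix.vecMulVec_mulVec, single_one_dotProduct, Pi.single_eq_same, hu]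
    funext i
    by_cases hi : i = j
    · subst hi; simp [hβ, hvj]
    · simp [hi]; field_simp
  have hCe : (iot c _ D).1.mulVec (ev k F) = ev k F := by
    have h : (iot c _ D⁻¹) • ev k F = ev k F := by
      rw [← smul_eq_mv, coe_iot_inv]
      show (st c (1 + Matrix.vecMulVec u (Pi.single j 1))).mulVec _ = _
      rw [st_add, st_one, st_vecMulVec, Matrix.add_mulVec,
        Matrix.one_mulVec, Matrix.vecMulVec_mulVec, ev, dotProduct_single, hu0]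
      simp
    rw [smul_eq_mv]
    rw [map_inv, inv_smul_eq_iff] at h
    exact h.symm
  obtain ⟨A1, hA1⟩ : ∃ A1, A1 = A * iot c _ D := ⟨_, rfl⟩
  have hA1e : A1.1.mulVec (ev k F) = A.1.mulVec (ev k F) := by
    rw [hA1, smul_eq_mv, smul_eq_mv, mul_smul]
    rw [smul_eq_mv] at hCe
    rw [hCe]
  have hjr : j = 0 → c.σ (c.σ β) = c.σ β := fun e => by rw [hβ, e, hreal, hreal]
  have hT : (st c A1.1 * S * A1.1).mulVec (ev k F) = (Hm c 0 j (c.σ β)).mulVec (ev k F) := by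
    have e1 : st c A1.1 = (D⁻¹).1 * st c A.1 := by
      rw [hA1, Matrix.SpecialLinearGroup.coe_mul, st_mul, coe_iot, st_st]
    have e2 : (Hm c 0 j (c.σ β)).mulVec (ev k F) = Pi.single j β := by
      funext i
      rw [mulVec_ev, Pi.single_apply]
      by_cases hj' : j = 0
      · subst hj'
        rw [Hm_self_apply, c.coe_π_of_fixed (hjr rfl)]
        simp [hβ, hreal]
      · rw [Hm_apply (Ne.symm hj')]
        simp [Ne.symm hj', c.σσ]
    rw [← Matrix.mulVec_mulVec, ← Matrix.mulVec_mulVec, hA1e, e1, ← Matrix.mulVec_mulVec, ← hv, e2, smul_eq_mv,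
      inv_smul_eq_iff, hDβ]
  obtain ⟨S0, A0, hS0, h0⟩ := R.switch_canon hk j (fun e => hβ0 ((map_eq_zero c.σ).1 e)) hjr
  refine ⟨A1.1 * S0 * st c A1.1, A1 * A0, isH_conj hS0 _, ?_⟩
  have hsT : IsH c (st c A1.1 * S * A1.1) := by
    simpa [st_st] using isH_conj hS (st c A1.1)
  have h1 := R.coset1 hk hS hS hA1e rfl
  have h2 : (R.V (Hm c 0 j (c.σ β)) * R.ψ 1)⁻¹ * (R.V (st c A1.1 * S * A1.1) * R.ψ 1) ∈ R.P1 :=
    R.coset1 hk (Hm_isH _ _ _) hsT rfl (by simpa [Matrix.one_mulVec] using hT.symm)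
  rw [map_one, mul_one, mul_one] at h2
  have e : (R.U (A1.1 * S0 * st c A1.1) * R.ψ (A1 * A0) * R.φ 0 (wS c.K))⁻¹ * (R.V S * R.ψ A) =
      ((R.U S0 * R.ψ A0 * R.φ 0 (wS c.K))⁻¹ * R.V (Hm c 0 j (c.σ β))) *
        ((R.V (Hm c 0 j (c.σ β)))⁻¹ * R.V (st c A1.1 * S * A1.1)) * ((R.V S * R.ψ A)⁻¹ * (R.V S * R.ψ A1))⁻¹ := by
    rw [← R.conj_U (by omega) A1 hS0, map_mul, R.V_ψ hk A1 hS]
    group
  rw [e]
  exact mul_mem (mul_mem h0 h2) (inv_mem h1)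

end Pre

end CfsgLib.Known.SUEven
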