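import Cfsg.Agent.Lib.Known.SUEven.Base
import Cfsg.Agent.Lib.Known.SpBounded.Pre

/-!
# The relations between a copy of `SL m` over the large field and rank one groups over the fixed field
-/

set_option autoImplicit false

namespace CfsgLib.Known.SUEven

open Matrix (SpecialLinearGroup)
open CfsgLib.Known.SpBounded (mu mu_mu xp xm hd wS xp_coe xm_coe hd_coe wS_coe xp_add mu_xp mu_xm mu_hd mu_wS wS_sq
  hd_wS_sq tA)

variable {F : Type*} [Field F] {c : Conj F}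

/-- the relations -/
structure Pre (c : Conj F) (m : ℕ) (G : Type*) [Group G] where
  ψ : SpecialLinearGroup (Fin m) F →* G
  φ : Fin m → SpecialLinearGroup (Fin 2) c.K →* G
  fix : ∀ (i k l : Fin m) (h : k ≠ l), k ≠ i → l ≠ i → ∀ M t, Commute (φ i M) (ψ (tA h t))
  long : ∀ i j : Fin m, i ≠ j → ∀ M N, Commute (φ i M) (φ j N)
  tor : ∀ (i j : Fin m) (h : i ≠ j) (a : c.K) (ha : a ≠ 0),
    ψ (SpecialLinearGroup.diag2n h (a : F) (Conj.coe_ne c ha)) = φ i (hd a ha) * φ j (hd a⁻¹ (inv_ne_zero ha))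
  nrm : ∀ (i j : Fin m) (h : i ≠ j) (a : c.K) (ha : a ≠ 0) (t : F),
    φ i (hd a ha) * ψ (tA h t) * (φ i (hd a ha))⁻¹ = ψ (tA h ((a : F) * t))
  nrm' : ∀ (i j : Fin m) (h : j ≠ i) (a : c.K) (ha : a ≠ 0) (t : F),
    φ i (hd a ha) * ψ (tA h t) * (φ i (hd a ha))⁻¹ = ψ (tA h ((a : F)⁻¹ * t))
  fx : ∀ (i j : Fin m) (h : i ≠ j) (s : c.K) (t : F), Commute (φ i (xp s)) (ψ (tA h t))
  fx' : ∀ (i j : Fin m) (h : j ≠ i) (s : c.K) (t : F), Commute (φ i (xm s)) (ψ (tA h t))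
  sym : ∀ (i j : Fin m) (h : i ≠ j) (t : F),
    φ j (wS c.K) * ψ (tA h t) * (φ j (wS c.K))⁻¹ = φ i (wS c.K) * ψ (tA h.symm (c.σ t)) * (φ i (wS c.K))⁻¹
  form : ∀ (i j : Fin m) (h : i ≠ j) (s : F) (t : c.K),
    ψ (tA h.symm s) * φ i (xp t) * (ψ (tA h.symm s))⁻¹ =
      φ i (xp t) * (φ j (wS c.K) * ψ (tA h (-(c.σ s * t))) * (φ j (wS c.K))⁻¹) * φ j (xp (c.N s * t))
  form' : ∀ (i j : Fin m) (h : i ≠ j) (s : F) (t : c.K),
    ψ (tA h (-c.σ s)) * φ i (xm t) * (ψ (tA h (-c.σ s)))⁻¹ =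
      φ i (xm t) * ((φ j (wS c.K))⁻¹ * ψ (tA h.symm (s * t)) * φ j (wS c.K)) * φ j (xm (c.N s * t))

namespace Pre

variable {m : ℕ} {G : Type*} [Group G] (R : Pre c m G)

theorem tA_add {i j : Fin m} (h : i ≠ j) (s t : F) : tA h s * tA h t = tA h (s + t) :=
  CfsgLib.Classical.sl_ext_smul fun x => funext fun k => by
    simp only [tA, mul_smul, CfsgLib.Classical.transvection_smul_apply, if_neg h.symm]
    split_ifs <;> ring

theorem w_sq (i : Fin m) :
    R.φ i (wS c.K) * R.φ i (wS c.K) = R.φ i (hd (-1) (neg_ne_zero.2 one_ne_zero)) := by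
  rw [← map_mul, wS_sq]

theorem hd_w_row {i j : Fin m} (h : i ≠ j) (t : F) :
    (R.φ i (wS c.K))⁻¹ * R.ψ (tA h t) * R.φ i (wS c.K) =
      R.φ i (wS c.K) * R.ψ (tA h (-t)) * (R.φ i (wS c.K))⁻¹ := by
  have h2 := R.nrm i j h (-1) (neg_ne_zero.2 one_ne_zero) (-t)
  rw [← R.w_sq, show (((-1 : c.K) : F) * -t) = t by push_cast; ring] at h2
  obtain ⟨W, hW⟩ : ∃ W, W = R.φ i (wS c.K) := ⟨_, rfl⟩
  rw [← hW] at h2 ⊢
  calc W⁻¹ * R.ψ (tA h t) * W = W⁻¹ * (W * W * R.ψ (tA h (-t)) * (W * W)⁻¹) * W := by rw [h2]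
    _ = _ := by group

theorem hd_w_col {i j : Fin m} (h : j ≠ i) (t : F) :
    (R.φ i (wS c.K))⁻¹ * R.ψ (tA h t) * R.φ i (wS c.K) =
      R.φ i (wS c.K) * R.ψ (tA h (-t)) * (R.φ i (wS c.K))⁻¹ := by
  have h2 := R.nrm' i j h (-1) (neg_ne_zero.2 one_ne_zero) (-t)
  rw [← R.w_sq, show (((-1 : c.K) : F)⁻¹ * -t) = t by push_cast; rw [inv_neg, inv_one]; ring] at h2
  obtain ⟨W, hW⟩ : ∃ W, W = R.φ i (wS c.K) := ⟨_, rfl⟩
  rw [← hW] at h2 ⊢
  calc W⁻¹ * R.ψ (tA h t) * W = W⁻¹ * (W * W * R.ψ (tA h (-t)) * (W * W)⁻¹) * W := by rw [h2]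
    _ = _ := by group

/-- exchanging the two halves -/
def flip : Pre c m G where
  ψ := R.ψ.comp (iot c (Fin m))
  φ i := (R.φ i).comp (mu c.K)
  fix i k l h h1 h2 M t := by
    simp only [MonoidHom.comp_apply, iot_tr]
    exact R.fix i l k h.symm h2 h1 _ _
  long i j h M N := R.long i j h _ _
  tor i j h a ha := by
    simp only [MonoidHom.comp_apply, iot_diag, mu_hd]
    have := R.tor i j h a⁻¹ (inv_ne_zero ha)
    simp only [c.fix]
    exact this
  nrm i j h a ha t := by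
    simp only [MonoidHom.comp_apply, iot_tr, mu_hd]
    rw [R.nrm' i j h.symm a⁻¹ (inv_ne_zero ha), map_mul, c.fix]
    push_cast
    rw [inv_inv, mul_neg]
  nrm' i j h a ha t := by
    simp only [MonoidHom.comp_apply, iot_tr, mu_hd]
    rw [R.nrm i j h.symm a⁻¹ (inv_ne_zero ha), map_mul, map_inv₀, c.fix]
    push_cast
    rw [mul_neg]
  fx i j h s t := by
    simp only [MonoidHom.comp_apply, iot_tr, mu_xp]
    exact R.fx' i j h.symm _ _
  fx' i j h s t := by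
    simp only [MonoidHom.comp_apply, iot_tr, mu_xm]
    exact R.fx i j h.symm _ _
  sym i j h t := by
    simp only [MonoidHom.comp_apply, iot_tr, mu_wS, map_inv, inv_inv, c.σσ]
    have e := R.sym i j h (-t)
    rw [map_neg] at e
    have hc : Commute (R.φ i (wS c.K)) (R.φ j (wS c.K)) := R.long i j h _ _
    generalize R.φ i (wS c.K) = A at e hc
    generalize R.φ j (wS c.K) = B at e hc
    calc B⁻¹ * R.ψ (tA h.symm (-c.σ t)) * B
        = B⁻¹ * A⁻¹ * (A * R.ψ (tA h.symm (-c.σ t)) * A⁻¹) * (A * B) := by group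
      _ = (A * B)⁻¹ * (B * R.ψ (tA h (-t)) * B⁻¹) * (A * B) := by rw [e, _root_.mul_inv_rev]
      _ = A⁻¹ * R.ψ (tA h (-t)) * A := by rw [hc.eq]; group
  form i j h s t := by
    simp only [MonoidHom.comp_apply, iot_tr, mu_wS, mu_xp, map_inv, inv_inv, map_neg, neg_neg, map_mul c.σ, c.σσ,
      c.fix]
    exact R.form' i j h s t
  form' i j h s t := by
    simp only [MonoidHom.comp_apply, iot_tr, mu_wS, mu_xm, map_inv, inv_inv, map_neg, neg_neg, map_mul c.σ, c.σσ,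
      c.fix]
    have := R.form i j h s t
    rwa [mul_comm (c.σ s) (t : F), mul_comm] at this

/-- Hermitian root elements -/
def uu (i j : Fin m) (t : F) : G :=
  if h : i = j then R.φ i (xp (c.π t)) else R.φ j (wS c.K) * R.ψ (tA h (-t)) * (R.φ j (wS c.K))⁻¹

theorem uu_self (i : Fin m) (t : F) : R.uu i i t = R.φ i (xp (c.π t)) := dif_pos rfl

theorem uu_selfK (i : Fin m) (t : c.K) : R.uu i i (t : F) = R.φ i (xp t) := by rw [R.uu_self, c.π_coe]

theorem uu_ne {i j : Fin m} (h : i ≠ j) (t : F) :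
    R.uu i j t = R.φ j (wS c.K) * R.ψ (tA h (-t)) * (R.φ j (wS c.K))⁻¹ := dif_neg h

theorem uu_symm {i j : Fin m} (h : i ≠ j) (t : F) : R.uu i j t = R.uu j i (c.σ t) := by
  rw [R.uu_ne h, R.uu_ne h.symm, R.sym i j h, map_neg]

theorem uu_add (i j : Fin m) (s t : F) : R.uu i j s * R.uu i j t = R.uu i j (s + t) := by
  by_cases h : i = j
  · subst h; rw [R.uu_self, R.uu_self, R.uu_self, ← map_mul, xp_add, map_add]
  · rw [R.uu_ne h, R.uu_ne h, R.uu_ne h, neg_add, ← tA_add h, map_mul]; group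

theorem uu_zero (i j : Fin m) : R.uu i j 0 = 1 := by
  have := R.uu_add i j (0 : F) 0
  rw [add_zero] at this
  exact mul_eq_left.1 this

theorem form_uu {i j : Fin m} (h : i ≠ j) (s : F) (t : c.K) :
    R.ψ (tA h.symm s) * R.uu i i (t : F) * (R.ψ (tA h.symm s))⁻¹ =
      R.uu i i (t : F) * R.uu i j (c.σ s * t) * R.uu j j ((c.N s * t : c.K) : F) := by
  rw [R.uu_selfK, R.uu_selfK, R.uu_ne h]; exact R.form i j h s t

theorem tA_comm {i j k l : Fin m} (hij : i ≠ j) (hkl : k ≠ l) (hjk : j ≠ k) (hil : i ≠ l) (s t : F) :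
    Commute (tA hij s) (tA hkl t) :=
  CfsgLib.Classical.sl_ext_smul fun x => funext fun a => by
    simp only [tA, mul_smul, CfsgLib.Classical.transvection_smul_apply, if_neg hjk, if_neg hil.symm]
    split_ifs <;> ring

/-- diagonal elements fixed -/
theorem fix_diag {i k l : Fin m} (h : k ≠ l) (hl : l ≠ i) (s t : F) : Commute (R.ψ (tA h s)) (R.uu i i t) := by
  rw [R.uu_self]
  by_cases hk : k = i
  · subst hk; exact (R.fx k l h (c.π t) s).symm
  · exact (R.fix i k l h hk hl _ _).symm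

theorem fix_uu {i j k l : Fin m} (h : k ≠ l) (hi : l ≠ i) (hj : l ≠ j) (s t : F) :
    Commute (R.ψ (tA h s)) (R.uu i j t) := by
  by_cases hij : i = j
  · subst hij; exact R.fix_diag h hi s t
  have key : ∀ a b, a ≠ b → l ≠ a → l ≠ b → k ≠ b → ∀ t, Commute (R.ψ (tA h s)) (R.uu a b t) := by
    intro a b hab hla hlb hkb t
    rw [R.uu_ne hab]
    have h1 : Commute (R.ψ (tA h s)) (R.φ b (wS c.K)) := (R.fix b k l h hkb hlb _ _).symm
    have h2 : Commute (R.ψ (tA h s)) (R.ψ (tA hab (-t))) := (tA_comm h hab hla hkb s (-t)).map R.ψ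
    exact (h1.mul_right h2).mul_right h1.inv_right
  by_cases hk : k = j
  · rw [R.uu_symm hij]
    exact key j i (Ne.symm hij) hj hi (fun e => hij (e.symm.trans hk)) _
  · exact key i j hij hi hj hk _

theorem move_uu {i j k : Fin m} (hij : i ≠ j) (hki : k ≠ i) (hkj : k ≠ j) (s t : F) :
    R.ψ (tA hki s) * R.uu i j t * (R.ψ (tA hki s))⁻¹ = R.uu i j t * R.uu k j (s * t) := by
  have hc : Commute (R.ψ (tA hki s)) (R.φ j (wS c.K)) := (R.fix j k i hki hkj hij _ _).symm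
  have e : tA hki s * tA hij (-t) * (tA hki s)⁻¹ = tA hij (-t) * tA hkj (-(s * t)) := by
    rw [mul_inv_eq_iff_eq_mul]
    refine CfsgLib.Classical.sl_ext_smul fun x => funext fun a => ?_
    simp only [tA, mul_smul, CfsgLib.Classical.transvection_smul_apply, if_neg hki.symm, if_neg hij.symm,
      if_neg hkj.symm]
    by_cases ha : a = k
    · subst ha; simp [hki]; ring
    · simp [ha]
  rw [R.uu_ne hij, R.uu_ne hkj]
  calc R.ψ (tA hki s) * (R.φ j (wS c.K) * R.ψ (tA hij (-t)) * (R.φ j (wS c.K))⁻¹) * (R.ψ (tA hki s))⁻¹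
      = R.φ j (wS c.K) * (R.ψ (tA hki s) * R.ψ (tA hij (-t)) * (R.ψ (tA hki s))⁻¹) * (R.φ j (wS c.K))⁻¹ := by
        rw [show R.ψ (tA hki s) * (R.φ j (wS c.K) * R.ψ (tA hij (-t)) * (R.φ j (wS c.K))⁻¹) * (R.ψ (tA hki s))⁻¹ =
          (R.ψ (tA hki s) * R.φ j (wS c.K)) * R.ψ (tA hij (-t)) * (R.ψ (tA hki s) * R.φ j (wS c.K))⁻¹ by group, hc.eq]
        group
    _ = _ := by rw [← map_inv, ← map_mul, ← map_mul, e, map_mul]; group

theorem comm_diag (i a b : Fin m) (s t : F) : Commute (R.uu i i s) (R.uu a b t) := by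
  rw [R.uu_self]
  by_cases hab : a = b
  · subst hab
    rw [R.uu_self]
    by_cases h : i = a
    · subst h; rw [commute_iff_eq, ← map_mul, ← map_mul, xp_add, xp_add, add_comm]
    · exact R.long i a h _ _
  have key : ∀ a b, a ≠ b → i ≠ b → ∀ t, Commute (R.φ i (xp (c.π s))) (R.uu a b t) := by
    intro a b hab hib t
    rw [R.uu_ne hab]
    have h1 : Commute (R.φ i (xp (c.π s))) (R.φ b (wS c.K)) := R.long i b hib _ _
    have h2 : Commute (R.φ i (xp (c.π s))) (R.ψ (tA hab (-t))) := by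
      have := R.fix_diag hab (Ne.symm hib) (-t) s
      rw [R.uu_self] at this
      exact this.symm
    exact (h1.mul_right h2).mul_right h1.inv_right
  by_cases hib : i = b
  · rw [R.uu_symm hab]; exact key b a (Ne.symm hab) (fun e => hab (e.symm.trans hib)) _
  · exact key a b hab hib _

theorem comm_uu (a b i j : Fin m) (s t : F) : Commute (R.uu a b s) (R.uu i j t) := by
  by_cases hab : a = b
  · subst hab; exact R.comm_diag a i j s t
  by_cases hij : i = j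
  · subst hij; exact (R.comm_diag i a b t s).symm
  have key : ∀ x y, x ≠ y → x ≠ a → x ≠ b → ∀ t : F, Commute (R.uu a b s) (R.uu y x t) := by
    intro x y hxy hxa hxb t
    -- a diagonal element conjugated by a transvection
    have h1 := R.form_uu hxy.symm (c.σ t) (1 : c.K)
    rw [c.σσ] at h1
    have e : R.uu y x t = (R.uu y y ((1 : c.K) : F))⁻¹ *
        (R.ψ (tA hxy (c.σ t)) * R.uu y y ((1 : c.K) : F) * (R.ψ (tA hxy (c.σ t)))⁻¹) *
        (R.uu x x ((c.N (c.σ t) * 1 : c.K) : F))⁻¹ := by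
      rw [h1]; push_cast; rw [mul_one]; group
    rw [e]
    by_cases hy : y ≠ a ∧ y ≠ b
    · have hc := (R.fix_uu hxy hy.1 hy.2 (c.σ t) s).symm
      have hd' := fun u => (R.comm_diag y a b u s).symm
      exact ((hd' _).inv_right.mul_right ((hc.mul_right (hd' _)).mul_right hc.inv_right)).mul_right
        (R.comm_diag x a b _ s).symm.inv_right
    · -- the other transvection
      rw [← e, R.uu_symm hxy.symm t]
      have h2 := R.form_uu hxy t (1 : c.K)
      have e' : R.uu x y (c.σ t) = (R.uu x x ((1 : c.K) : F))⁻¹ *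
          (R.ψ (tA hxy.symm t) * R.uu x x ((1 : c.K) : F) * (R.ψ (tA hxy.symm t))⁻¹) *
          (R.uu y y ((c.N t * 1 : c.K) : F))⁻¹ := by
        rw [h2]; push_cast; rw [mul_one]; group
      rw [e']
      have hc := (R.fix_uu hxy.symm hxa hxb t s).symm
      have hd' := fun u => (R.comm_diag x a b u s).symm
      exact ((hd' _).inv_right.mul_right ((hc.mul_right (hd' _)).mul_right hc.inv_right)).mul_right
        (R.comm_diag y a b _ s).symm.inv_right
  by_cases hi : i ≠ a ∧ i ≠ b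
  · rw [R.uu_symm hij]; exact key i j hij hi.1 hi.2 _
  by_cases hj : j ≠ a ∧ j ≠ b
  · exact key j i (Ne.symm hij) hj.1 hj.2 t
  simp only [not_and_or, not_not] at hi hj
  rcases hi with rfl | rfl <;> rcases hj with rfl | rfl
  · exact absurd rfl hij
  · rw [commute_iff_eq, R.uu_add, R.uu_add, add_comm]
  · rw [R.uu_symm hij, commute_iff_eq, R.uu_add, R.uu_add, add_comm]
  · exact absurd rfl hij

theorem conj_side {i j : Fin m} (hij : i ≠ j) (s t : F) :
    R.ψ (tA hij.symm s) * R.uu i j t * (R.ψ (tA hij.symm s))⁻¹ = R.uu i j t * R.uu j j (s * t + c.σ (s * t)) := by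
  obtain ⟨X, hX⟩ : ∃ X, X = R.ψ (tA hij.symm s) := ⟨_, rfl⟩
  have h1 := R.form_uu hij (c.σ t) (1 : c.K)
  have h2 := R.form_uu hij (s + c.σ t) (1 : c.K)
  have h4 := R.form_uu hij s (1 : c.K)
  rw [← tA_add hij.symm, map_mul, ← hX] at h2
  rw [← hX] at h4
  rw [c.σσ] at h1
  rw [map_add, c.σσ] at h2
  simp only [mul_one] at h1 h2 h4
  push_cast at h1 h2 h4
  rw [mul_one] at h1 h2 h4
  obtain ⟨P, hP⟩ : ∃ P, P = R.uu i i (1 : F) := ⟨_, rfl⟩
  rw [← hP] at h1 h2 h4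
  obtain ⟨Q, hQ⟩ : ∃ Q, Q = R.uu j j ((c.N (c.σ t) : c.K) : F) := ⟨_, rfl⟩
  rw [← hQ] at h1
  have hXj : X * Q * X⁻¹ = Q := by
    rw [hX, hQ, (R.fix_diag hij.symm hij s _).eq, mul_inv_cancel_right]
  have h3 : X * (P * R.uu i j t * Q) * X⁻¹ =
      P * R.uu i j (c.σ s + t) * R.uu j j ((c.N (s + c.σ t) : c.K) : F) := by
    rw [← h1, ← h2]; group
  rw [Elem_conj, Elem_conj, h4, hXj] at h3
  rw [← hX]
  obtain ⟨Y, hY⟩ : ∃ Y, Y = X * R.uu i j t * X⁻¹ := ⟨_, rfl⟩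
  rw [← hY] at h3 ⊢
  have e1 : R.uu i j (c.σ s + t) = R.uu i j (c.σ s) * R.uu i j t := (R.uu_add _ _ _ _).symm
  have e2 : R.uu j j ((c.N (s + c.σ t) : c.K) : F) =
      R.uu j j ((c.N s : c.K) : F) * R.uu j j (s * t + c.σ (s * t)) * Q := by
    rw [hQ, R.uu_add, R.uu_add]
    congr 1
    simp only [Conj.N_coe, map_add, map_mul, c.σσ]
    ring
  rw [e1, e2] at h3
  obtain ⟨S, hS⟩ : ∃ S, S = R.uu i j (c.σ s) := ⟨_, rfl⟩
  obtain ⟨N, hN⟩ : ∃ N, N = R.uu j j ((c.N s : c.K) : F) := ⟨_, rfl⟩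
  rw [← hS, ← hN] at h3
  calc Y = (P * S * N)⁻¹ * (P * S * N * Y * Q) * Q⁻¹ := by group
    _ = N⁻¹ * (R.uu i j t * N) * R.uu j j (s * t + c.σ (s * t)) := by rw [h3]; group
    _ = _ := by rw [hN, (R.comm_uu i j j j t _).eq, inv_mul_cancel_left]
where
  Elem_conj {a b x : G} : x * (a * b) * x⁻¹ = x * a * x⁻¹ * (x * b * x⁻¹) := by group

end Pre

end CfsgLib.Known.SUEven
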