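import Cfsg.Agent.Lib.Known.SUEven.FourModel
import Cfsg.Agent.Lib.Known.SUBounded.StabGens

/-!
# Presentations of `SU n` and `PSU n` on six generators
-/

set_option autoImplicit false

namespace CfsgLib.Known.SUEven

open CfsgLib.Known.SUBounded (act eF reg permSU)

variable {F : Type*} [Field F] [Fintype F] {q : ℕ}

/-- degree four -/
theorem su_four_six (hF : Fintype.card F = q ^ 2) :
    ∃ R : Finset (FreeGroup (Fin 6)), R.card ≤ 29 ∧
      Nonempty (PresentedGroup (↑R : Set (FreeGroup (Fin 6))) ≃* Cfsg.SU 4 F q) := by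
  obtain ⟨R, e, hR, -⟩ := exists_block hF
  obtain ⟨R', hR', e'⟩ := restrict_gens R e finSumFinEquiv.symm finSumFinEquiv.symm.injective (by
    rw [← gens_of_pres e]
    congr 1
    exact finSumFinEquiv.symm.surjective.range_comp fun o => e (PresentedGroup.of o))
  exact ⟨R', hR'.trans (hR.trans (by split_ifs <;> norm_num)), e'⟩

/-- degree five -/
theorem su_five_six (hF : Fintype.card F = q ^ 2) :
    ∃ R : Finset (FreeGroup (Fin 6)), R.card ≤ 35 ∧
      Nonempty (PresentedGroup (↑R : Set (FreeGroup (Fin 6))) ≃* Cfsg.SU 5 F q) := by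
  obtain ⟨R, e, hR, hgen, hpi⟩ := exists_block hF
  have hq := CfsgLib.Classical.two_le_of_card_sq hF
  obtain ⟨ι, _, h, hι, hh⟩ : ∃ (ι : Type) (_ : Fintype ι) (h : ι → Cfsg.SU 3 F q),
      Fintype.card ι ≤ (if q = 2 then 7 else 3) ∧ Subgroup.closure (Set.range h) = ⊤ := by
    rcases (show q = 2 ∨ 3 ≤ q by omega) with h2 | h3
    · obtain ⟨h, hh⟩ := su_three_gens hF
      exact ⟨Fin 7, inferInstance, h, by simp [h2], hh⟩
    · obtain ⟨R3, -, ⟨e3⟩⟩ := (CfsgLib.Known.SU3Bounded.su_three_presentations hF h3).1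
      exact ⟨Fin 3, inferInstance, _, by rw [if_neg (by omega)]; simp, gens_of_pres e3⟩
  obtain ⟨R', hR', e', he, hnone⟩ := SUBounded.step_pres_gens hF (M := 3) (Or.inl rfl) R e h hh
  let ι6 : Fin 6 → Option (Fin 3 ⊕ Fin 3) :=
    ![some (Sum.inl 0), some (Sum.inl 1), some (Sum.inl 2), some (Sum.inr 0), some (Sum.inr 2), none]
  obtain ⟨R6, hR6, e6⟩ := restrict_gens R' e' ι6 (by decide) (by
    obtain ⟨H, hH⟩ : ∃ H, H = Subgroup.closure (Set.range fun b => e' (PresentedGroup.of (ι6 b))) := ⟨_, rfl⟩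
    rw [← hH]
    have hb : ∀ b, e' (PresentedGroup.of (ι6 b)) ∈ H := fun b => hH ▸ Subgroup.subset_closure ⟨b, rfl⟩
    refine SUBounded.gen_succ hF (k := 4) (by norm_num) hnone H ?_ (hb 5)
    have hm : ∀ a, some a = ι6 0 ∨ some a = ι6 1 ∨ some a = ι6 2 ∨ some a = ι6 3 ∨ some a = ι6 4 →
        e (PresentedGroup.of a) ∈ H.comap (SUBounded.emb 4) := by
      intro a ha
      rw [Subgroup.mem_comap, ← he]
      rcases ha with h | h | h | h | h <;> rw [h] <;> exact hb _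
    have : H.comap (SUBounded.emb 4) = ⊤ := by
      refine hgen _ (hm _ ?_) (hm _ ?_) (hm _ ?_) (hm _ ?_) ((Subgroup.closure_le _).2 ?_ hpi)
      · simp [ι6]
      · simp [ι6]
      · simp [ι6]
      · simp [ι6]
      · rintro x (rfl | rfl) <;> exact hm _ (by simp [ι6])
    rintro _ ⟨A, rfl⟩
    exact this.ge (Subgroup.mem_top A))
  refine ⟨R6, ?_, e6⟩
  split_ifs at hR hι <;> omega

/-- six generators and thirty-nine relations in every degree from six on -/
theorem su_six (hF : Fintype.card F = q ^ 2) {n : ℕ} (hn : 6 ≤ n) :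
    ∃ R : Finset (FreeGroup (Fin 6)), R.card ≤ 39 ∧
      Nonempty (PresentedGroup (↑R : Set (FreeGroup (Fin 6))) ≃* Cfsg.SU n F q) := by
  have h4 : 4 ≤ n := by omega
  obtain ⟨Rb, eb, hRb, hgen, -⟩ := exists_block hF
  obtain ⟨RA, hRA, ⟨eA⟩⟩ := CfsgLib.Perm.AltBounded.alt_six_rels (n := n) (by omega)
  have hq := CfsgLib.Classical.two_le_of_card_sq hF
  obtain ⟨R, e, hR, hl, hr⟩ : ∃ (R : Finset (FreeGroup ((Fin 3 ⊕ Fin 3) ⊕ Fin 2)))
      (e : PresentedGroup (↑R : Set (FreeGroup ((Fin 3 ⊕ Fin 3) ⊕ Fin 2))) ≃* Cfsg.SU n F q), R.card ≤ 39 ∧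
      (∀ i, e (PresentedGroup.of (Sum.inl i)) = eF (reg h4) (eb (PresentedGroup.of i))) ∧
      ∀ j, e (PresentedGroup.of (Sum.inr j)) = permSU F q n (eA (PresentedGroup.of j)) := by
    rcases (show q = 2 ∨ 3 ≤ q by omega) with h2 | h3
    · subst h2
      obtain ⟨R, e, hR, h⟩ := SUBounded.exists_pres_two hF hn Rb eb RA eA
      exact ⟨R, e, by rw [if_pos rfl] at hRb; omega, h⟩
    · obtain ⟨R, e, hR, h⟩ := SUBounded.exists_pres_large hF h3 hn Rb eb RA eA
      exact ⟨R, e, by rw [if_neg (by omega)] at hRb; omega, h⟩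
  let ι6 : Fin 6 → (Fin 3 ⊕ Fin 3) ⊕ Fin 2 :=
    ![Sum.inl (Sum.inl 0), Sum.inl (Sum.inl 1), Sum.inl (Sum.inr 0), Sum.inl (Sum.inr 2), Sum.inr 0, Sum.inr 1]
  obtain ⟨R6, hR6, e6⟩ := restrict_gens R e ι6 (by decide) (by
    obtain ⟨H, hH⟩ : ∃ H, H = Subgroup.closure (Set.range fun b => e (PresentedGroup.of (ι6 b))) := ⟨_, rfl⟩
    rw [← hH]
    have hb : ∀ b, e (PresentedGroup.of (ι6 b)) ∈ H := fun b => hH ▸ Subgroup.subset_closure ⟨b, rfl⟩
    have hA : H.comap (permSU F q n) = ⊤ := by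
      rw [eq_top_iff, ← gens_of_pres eA, Subgroup.closure_le]
      rintro _ ⟨j, rfl⟩
      rw [SetLike.mem_coe, Subgroup.mem_comap, ← hr]
      fin_cases j
      exacts [hb 4, hb 5]
    have hB : H.comap (eF (reg h4)) = ⊤ := by
      refine hgen _ ?_ ?_ ?_ ?_ ?_ <;> rw [Subgroup.mem_comap]
      · rw [← hl]; exact hb 0
      · rw [← hl]; exact hb 1
      · rw [← hl]; exact hb 2
      · rw [← hl]; exact hb 3
      · rw [SUBounded.eF_perm]; exact hA.ge (Subgroup.mem_top _)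
    rw [eq_top_iff, ← gens_of_pres e, Subgroup.closure_le]
    rintro _ ⟨i | j, rfl⟩
    · simp only [SetLike.mem_coe, hl]; exact hB.ge (Subgroup.mem_top _)
    · simp only [SetLike.mem_coe, hr]; exact hA.ge (Subgroup.mem_top _))
  exact ⟨R6, hR6.trans hR, e6⟩

/-- six generators and thirty-nine relations -/
theorem su_six_all (hF : Fintype.card F = q ^ 2) {n : ℕ} (hn : 4 ≤ n) :
    ∃ R : Finset (FreeGroup (Fin 6)), R.card ≤ 39 ∧
      Nonempty (PresentedGroup (↑R : Set (FreeGroup (Fin 6))) ≃* Cfsg.SU n F q) := by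
  rcases (show n = 4 ∨ n = 5 ∨ 6 ≤ n by omega) with rfl | rfl | h6
  · obtain ⟨R, hR, e⟩ := su_four_six hF; exact ⟨R, by omega, e⟩
  · obtain ⟨R, hR, e⟩ := su_five_six hF; exact ⟨R, by omega, e⟩
  · exact su_six hF h6

/-- one more relation for the central quotient -/
theorem psu_of_su (hF : Fintype.card F = q ^ 2) {n : ℕ} (hn : 3 ≤ n) {α : Type} {R : Finset (FreeGroup α)}
    (e : PresentedGroup (↑R : Set (FreeGroup α)) ≃* Cfsg.SU n F q) {k : ℕ} (hk : R.card + 1 ≤ k) :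
    ∃ R' : Finset (FreeGroup α), R'.card ≤ k ∧
      Nonempty (PresentedGroup (↑R' : Set (FreeGroup α)) ≃* Cfsg.PSU n F q) := by
  obtain ⟨R', hR', e'⟩ := SLBounded.quot_pres R e _ (center_cyclic hF hn)
  exact ⟨R', hR'.trans hk, e'⟩

end CfsgLib.Known.SUEven
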