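import Cfsg.Agent.Lib.Known.SUEven.Pre

/-!
# The abelian group of Hermitian matrices and the action of `SL m` on it
-/

set_option autoImplicit false

namespace CfsgLib.Known.SUEven

open Matrix (SpecialLinearGroup)
open CfsgLib.Known.SpBounded (tA xp)

variable {F : Type*} [Field F] {c : Conj F} {m : ℕ}

/-- a Hermitian elementary matrix -/
def Hm (c : Conj F) (i j : Fin m) (t : F) : Matrix (Fin m) (Fin m) F :=
  if i = j then Matrix.single i i (c.π t : F) else Matrix.single i j t + Matrix.single j i (c.σ t)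

theorem Hm_comm {i j : Fin m} (h : i ≠ j) (t : F) : Hm c i j t = Hm c j i (c.σ t) := by
  rw [Hm, Hm, if_neg h, if_neg h.symm, c.σσ, add_comm]

theorem Hm_apply {i j : Fin m} (h : i ≠ j) (t : F) (a b : Fin m) :
    Hm c i j t a b = if a = i ∧ b = j then t else if a = j ∧ b = i then c.σ t else 0 := by
  rw [Hm, if_neg h, Matrix.add_apply]
  simp only [Matrix.single, Matrix.of_apply]
  by_cases h1 : a = i ∧ b = j
  · obtain ⟨rfl, rfl⟩ := h1
    simp [Ne.symm h]
  · by_cases h2 : a = j ∧ b = i
    · obtain ⟨rfl, rfl⟩ := h2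
      simp [h]
    · rw [if_neg, if_neg, if_neg h1, if_neg h2, add_zero] <;> tauto

theorem Hm_self (i : Fin m) (t : F) : Hm c i i t = Matrix.single i i (c.π t : F) := if_pos rfl

theorem Hm_self_apply (i : Fin m) (t : F) (a b : Fin m) :
    Hm c i i t a b = if a = i ∧ b = i then (c.π t : F) else 0 := by
  rw [Hm_self]; simp [Matrix.single, eq_comm]

theorem Hm_isH (i j : Fin m) (t : F) : IsH c (Hm c i j t) := by
  unfold Hm IsH
  split
  · rw [st_single, c.fix]
  · rw [st_add, st_single, st_single, c.σσ, add_comm]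

theorem IsH.coe_π {M : Matrix (Fin m) (Fin m) F} (hM : IsH c M) (i : Fin m) : ((c.π (M i i) : c.K) : F) = M i i :=
  c.coe_π_of_fixed (hM.apply i i)

/-- Hermitian matrices are sums of Hermitian elementary ones -/
theorem herm_induction {P : Matrix (Fin m) (Fin m) F → Prop} (h0 : P 0)
    (hadd : ∀ M N, IsH c M → IsH c N → P M → P N → P (M + N)) (hS : ∀ i j t, P (Hm c i j t))
    {M : Matrix (Fin m) (Fin m) F} (hM : IsH c M) : P M := by
  have e : M = ∑ p : Fin m × Fin m, if p.1 ≤ p.2 then Hm c p.1 p.2 (M p.1 p.2) else 0 := by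
    ext a b
    rw [Matrix.sum_apply]
    rw [Finset.sum_eq_single (if a ≤ b then (a, b) else (b, a))]
    · by_cases h : a ≤ b
      · rw [if_pos h, if_pos h]
        by_cases hab : a = b
        · subst hab; rw [Hm_self_apply, if_pos ⟨rfl, rfl⟩, hM.coe_π]
        · rw [Hm_apply hab, if_pos ⟨rfl, rfl⟩]
      · rw [if_neg h, if_pos (le_of_not_ge h)]
        have hab : b ≠ a := fun e => h (e ▸ le_refl _)
        rw [Hm_apply hab, if_neg (fun e => hab e.1.symm), if_pos ⟨rfl, rfl⟩, hM.apply]
    · intro p _ hp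
      by_cases h : p.1 ≤ p.2
      · rw [if_pos h]
        have key : ¬((a = p.1 ∧ b = p.2) ∨ (a = p.2 ∧ b = p.1)) := by
          rintro (⟨h1, h2⟩ | ⟨h1, h2⟩)
          · subst h1; subst h2; simp [h] at hp
          · subst h1; subst h2
            rcases eq_or_lt_of_le h with e | e
            · apply hp; simp [Prod.ext_iff, e]
            · apply hp; rw [if_neg (not_le.2 e)]
        by_cases hpp : p.1 = p.2
        · rw [← hpp, Hm_self_apply, if_neg]
          exact fun e => key (Or.inl ⟨e.1, e.2.trans hpp⟩)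
        · rw [Hm_apply hpp, if_neg fun e => key (Or.inl e), if_neg fun e => key (Or.inr e)]
      · simp [h]
    · simp
  rw [e]
  refine (Finset.sum_induction _ (fun M => IsH c M ∧ P M) (fun A B ha hb => ⟨ha.1.add hb.1, hadd _ _ ha.1 hb.1 ha.2 hb.2⟩)
    ⟨IsH.zero, h0⟩ fun p _ => ?_).2
  split
  · exact ⟨Hm_isH _ _ _, hS _ _ _⟩
  · exact ⟨IsH.zero, h0⟩

namespace Pre

variable {G : Type*} [Group G] (R : Pre c m G)

/-- one factor -/
def upair (p : Fin m × Fin m) : Multiplicative F →* G where
  toFun t := if p.1 ≤ p.2 then R.uu p.1 p.2 t.toAdd else 1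
  map_one' := by split_ifs; exacts [R.uu_zero _ _, rfl]
  map_mul' t u := by split_ifs; exacts [(R.uu_add _ _ _ _).symm, (mul_one _).symm]

theorem upair_comm : Pairwise fun p q => ∀ t u, Commute (R.upair p t) (R.upair q u) := by
  intro p q _ t u
  show Commute (if p.1 ≤ p.2 then R.uu p.1 p.2 t.toAdd else 1) (if q.1 ≤ q.2 then R.uu q.1 q.2 u.toAdd else 1)
  split_ifs
  exacts [R.comm_uu _ _ _ _ _ _, Commute.one_right _, Commute.one_left _, Commute.one_left _]

/-- the element of a Hermitian matrix -/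
noncomputable def U (M : Matrix (Fin m) (Fin m) F) : G :=
  MonoidHom.noncommPiCoprod R.upair R.upair_comm fun p => Multiplicative.ofAdd (M p.1 p.2)

theorem U_add (M N : Matrix (Fin m) (Fin m) F) : R.U (M + N) = R.U M * R.U N := by
  rw [U, U, U, ← map_mul]
  rfl

theorem U_zero : R.U 0 = 1 := by
  have := R.U_add 0 0
  rw [add_zero] at this
  exact left_eq_mul.1 this

theorem U_neg (M : Matrix (Fin m) (Fin m) F) : R.U (-M) = (R.U M)⁻¹ :=
  eq_inv_of_mul_eq_one_left (by rw [← R.U_add, neg_add_cancel, R.U_zero])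

theorem U_comm (M N : Matrix (Fin m) (Fin m) F) : Commute (R.U M) (R.U N) := by
  rw [commute_iff_eq, ← R.U_add, ← R.U_add, add_comm]

theorem U_Hm (i j : Fin m) (t : F) : R.U (Hm c i j t) = R.uu i j t := by
  by_cases hij : i = j
  · subst hij
    rw [U, show (fun p : Fin m × Fin m => Multiplicative.ofAdd (Hm c i i t p.1 p.2)) =
      Pi.mulSingle (i, i) (Multiplicative.ofAdd (c.π t : F)) from ?_, MonoidHom.noncommPiCoprod_mulSingle]
    · show (if i ≤ i then R.uu i i (c.π t : F) else 1) = _
      rw [if_pos le_rfl, R.uu_selfK, R.uu_self]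
    · funext p
      rw [Hm_self_apply]
      by_cases hp : p = (i, i)
      · subst hp; simp
      · rw [Pi.mulSingle_eq_of_ne hp, if_neg (fun e => hp (Prod.ext e.1 e.2))]; rfl
  wlog h : i ≤ j generalizing i j t
  · rw [Hm_comm hij, R.uu_symm hij]; exact this j i _ (Ne.symm hij) (le_of_not_ge h)
  rw [U, show (fun p : Fin m × Fin m => Multiplicative.ofAdd (Hm c i j t p.1 p.2)) =
    Pi.mulSingle (i, j) (Multiplicative.ofAdd t) * Pi.mulSingle (j, i) (Multiplicative.ofAdd (c.σ t)) from ?_,
    map_mul, MonoidHom.noncommPiCoprod_mulSingle, MonoidHom.noncommPiCoprod_mulSingle]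
  · show (if i ≤ j then R.uu i j t else 1) * (if j ≤ i then R.uu j i (c.σ t) else 1) = _
    rw [if_pos h, if_neg (fun h' => hij (le_antisymm h h')), mul_one]
  · funext p
    rw [Hm_apply hij, Pi.mul_apply]
    by_cases hp : p = (i, j)
    · subst hp; simp [Prod.ext_iff, hij]
    · by_cases hq : p = (j, i)
      · subst hq; simp [Prod.ext_iff, hij, Ne.symm hij]
      · rw [Pi.mulSingle_eq_of_ne hp, Pi.mulSingle_eq_of_ne hq, if_neg (fun e => hp (Prod.ext e.1 e.2)),
          if_neg (fun e => hq (Prod.ext e.1 e.2))]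
        simp

theorem conj_tr_Hm {k l : Fin m} (hkl : k ≠ l) (s : F) (i j : Fin m) (t : F) :
    R.ψ (tA hkl s) * R.uu i j t * (R.ψ (tA hkl s))⁻¹ =
      R.U ((tA hkl s : Matrix (Fin m) (Fin m) F) * Hm c i j t * st c (tA hkl s : Matrix (Fin m) (Fin m) F)) := by
  have hco : (tA hkl s : Matrix (Fin m) (Fin m) F) = 1 + Matrix.single k l s := by
    rw [SpecialLinearGroup.transvection_coe]
  simp only [hco, st_add, st_one, st_single, add_mul, mul_add, one_mul, mul_one]
  -- the case where `l` is the second index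
  have side : ∀ (i : Fin m), l ≠ i → ∀ t : F, R.ψ (tA hkl s) * R.uu l i t * (R.ψ (tA hkl s))⁻¹ =
      R.U (Hm c l i t + Matrix.single k l s * Hm c l i t +
        (Hm c l i t * Matrix.single l k (c.σ s) + Matrix.single k l s * Hm c l i t * Matrix.single l k (c.σ s))) := by
    intro i hi t
    by_cases hk : k = i
    · subst hk
      have e : Hm c l k t + Matrix.single k l s * Hm c l k t +
          (Hm c l k t * Matrix.single l k (c.σ s) + Matrix.single k l s * Hm c l k t * Matrix.single l k (c.σ s)) =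
          Hm c l k t + Hm c k k (s * t + c.σ (s * t)) := by
        rw [Hm_self, c.coe_π_of_fixed (by rw [map_add, c.σσ, add_comm])]
        simp [Hm, hi, hkl, hkl.symm, mul_add, add_mul, Matrix.single_mul_single_same,
          Matrix.single_mul_single_of_ne, mul_comm (c.σ t) (c.σ s)]
        rw [Matrix.single_add]
        abel
      rw [e, R.U_add, R.U_Hm, R.U_Hm]
      exact R.conj_side hi s t
    · have e : Hm c l i t + Matrix.single k l s * Hm c l i t +
          (Hm c l i t * Matrix.single l k (c.σ s) + Matrix.single k l s * Hm c l i t * Matrix.single l k (c.σ s)) =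
          Hm c l i t + Hm c k i (s * t) := by
        simp [Hm, hi, hk, hkl, hkl.symm, Ne.symm hi, mul_add, add_mul, Matrix.single_mul_single_same,
          Matrix.single_mul_single_of_ne, mul_comm (c.σ t) (c.σ s)]
        abel
      rw [e, R.U_add, R.U_Hm, R.U_Hm]
      exact R.move_uu hi hkl hk s t
  by_cases hi : l = i
  · subst hi
    by_cases hj : l = j
    · subst hj
      obtain ⟨t0, ht0⟩ : ∃ t0, t0 = c.π t := ⟨_, rfl⟩
      have e : Hm c l l t + Matrix.single k l s * Hm c l l t +
          (Hm c l l t * Matrix.single l k (c.σ s) + Matrix.single k l s * Hm c l l t * Matrix.single l k (c.σ s)) =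
          Hm c l l (t0 : F) + Hm c l k (c.σ s * t0) + Hm c k k ((c.N s * t0 : c.K) : F) := by
        rw [Hm_self, Hm_self, Hm_self, c.π_coe, c.π_coe, ← ht0]
        simp [Hm, hkl.symm, Matrix.single_mul_single_same, c.fix, c.σσ, Conj.N_coe, mul_comm (t0 : F),
          mul_right_comm s (t0 : F) (c.σ s)]
        abel
      rw [e, R.U_add, R.U_add, R.U_Hm, R.U_Hm, R.U_Hm,
        show R.uu l l t = R.uu l l (t0 : F) by rw [R.uu_selfK, R.uu_self, ht0]]
      exact R.form_uu hkl.symm s t0
    · exact side j hj t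
  · by_cases hj : l = j
    · subst hj
      rw [R.uu_symm (Ne.symm hi), Hm_comm (Ne.symm hi)]
      exact side i hi _
    · have e : Hm c i j t + Matrix.single k l s * Hm c i j t +
          (Hm c i j t * Matrix.single l k (c.σ s) + Matrix.single k l s * Hm c i j t * Matrix.single l k (c.σ s)) =
          Hm c i j t := by
        by_cases hij : i = j
        · simp [Hm, hij, Matrix.single_mul_single_of_ne, hj, Ne.symm hj]
        · simp [Hm, hij, mul_add, add_mul, Matrix.single_mul_single_of_ne, hi, hj, Ne.symm hi, Ne.symm hj]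
      rw [e, R.U_Hm, (R.fix_uu hkl hi hj s t).eq, mul_inv_cancel_right]

/-- `SL m` acts on Hermitian matrices by congruence -/
theorem conj_U (hm : 2 ≤ m) (A : SpecialLinearGroup (Fin m) F) {M : Matrix (Fin m) (Fin m) F} (hM : IsH c M) :
    R.ψ A * R.U M * (R.ψ A)⁻¹ = R.U (A.1 * M * st c A.1) := by
  haveI : Nontrivial (Fin m) := Fin.nontrivial_iff_two_le.2 hm
  let H : Subgroup (SpecialLinearGroup (Fin m) F) :=
    { carrier := {A | ∀ M : Matrix (Fin m) (Fin m) F, IsH c M →
        R.ψ A * R.U M * (R.ψ A)⁻¹ = R.U (A.1 * M * st c A.1)}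
      one_mem' := fun M _ => by simp [st_one]
      mul_mem' := fun {A B} ha hb M hM => by
        have hs : IsH c (B.1 * M * st c B.1) := by
          show st c (B.1 * M * st c B.1) = _
          rw [st_mul, st_mul, st_st, hM.eq, Matrix.mul_assoc]
        rw [map_mul, show R.ψ A * R.ψ B * R.U M * (R.ψ A * R.ψ B)⁻¹ =
          R.ψ A * (R.ψ B * R.U M * (R.ψ B)⁻¹) * (R.ψ A)⁻¹ by group, hb M hM, ha _ hs]
        simp [Matrix.mul_assoc, st_mul]
      inv_mem' := fun {A} ha M hM => by
        have hs : IsH c ((A⁻¹).1 * M * st c (A⁻¹).1) := by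
          show st c ((A⁻¹).1 * M * st c (A⁻¹).1) = _
          rw [st_mul, st_mul, st_st, hM.eq, Matrix.mul_assoc]
        have h1 := ha _ hs
        have e : A.1 * (A⁻¹).1 = 1 := by
          rw [← Matrix.SpecialLinearGroup.coe_mul, mul_inv_cancel, Matrix.SpecialLinearGroup.coe_one]
        have e' : A.1 * ((A⁻¹).1 * M * st c (A⁻¹).1) * st c A.1 = M := by
          calc _ = (A.1 * (A⁻¹).1) * M * st c (A.1 * (A⁻¹).1) := by
                simp [st_mul, Matrix.mul_assoc]
            _ = M := by rw [e]; simp [st_one]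
        rw [e'] at h1
        rw [map_inv, ← h1]
        group }
  have hH : H = ⊤ := CfsgLib.Classical.closure_transvection_eq_top H fun k l hkl s => by
    show ∀ M : Matrix (Fin m) (Fin m) F, IsH c M → _
    intro M hM
    refine herm_induction (P := fun M => R.ψ (tA hkl s) * R.U M * (R.ψ (tA hkl s))⁻¹ =
      R.U ((tA hkl s).1 * M * st c (tA hkl s).1)) ?_ ?_ ?_ hM
    · simp [R.U_zero]
    · intro A B _ _ ha hb
      rw [R.U_add, Matrix.mul_add, Matrix.add_mul, R.U_add, ← ha, ← hb]
      group
    · intro i j t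
      rw [R.U_Hm]
      exact R.conj_tr_Hm hkl s i j t
  exact (show A ∈ H from hH ▸ Subgroup.mem_top A) M hM

end Pre

end CfsgLib.Known.SUEven
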